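import Groth.Agent.Lib.N2.Reduced
import Groth.Agent.Lib.Cohen.NagataMain
import Groth.Agent.Lib.AdicExtra.Completion
import Mathlib.RingTheory.Finiteness.Descent
import Mathlib.RingTheory.AdicCompletion.AsTensorProduct
import Mathlib.RingTheory.Nilpotent.GeometricallyReduced
import Mathlib.RingTheory.LocalProperties.Reduced

/-!
Descending finiteness of integral closures from the completion.
-/

set_option autoImplicit false

open TensorProduct

namespace GrothLib.N2

universe u

theorem finite_integralClosure_of_faithfullyFlat {A B L : Type u} [CommRing A] [IsNoetherianRing A]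
    [CommRing B] [Algebra A B] [Module.FaithfullyFlat A B] (hB : CAlg.IsNagata B)
    [Field L] [Algebra A L] [Algebra.EssFiniteType A L] [IsReduced (B ⊗[A] L)] :
    Module.Finite A (integralClosure A L) := by
  haveI := hB.1
  haveI hfin : Module.Finite B (integralClosure B (B ⊗[A] L)) :=
    finite_integralClosure_of_essFiniteType hB _
  haveI : IsNoetherian B (integralClosure B (B ⊗[A] L)) := isNoetherian_of_isNoetherianRing_of_finite _ _
  let C := integralClosure A L
  let f : B ⊗[A] C →ₐ[B] B ⊗[A] L := Algebra.TensorProduct.map (AlgHom.id B B) C.val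
  have hf : Function.Injective f :=
    Module.Flat.lTensor_preserves_injective_linearMap (M := B) C.val.toLinearMap Subtype.val_injective
  have hint : ∀ z, IsIntegral B z → IsIntegral B (f z) := fun z hz => hz.map f
  let g : B ⊗[A] C →ₗ[B] integralClosure B (B ⊗[A] L) :=
    { toFun := fun z => ⟨f z, hint z (Algebra.IsIntegral.isIntegral z)⟩
      map_add' := fun x y => Subtype.ext (map_add f x y)
      map_smul' := fun c x => Subtype.ext (map_smul f c x) }
  haveI : Module.Finite B (B ⊗[A] C) := Module.Finite.of_injective g fun a b h => hf (congrArg Subtype.val h :)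
  exact Module.Finite.of_finite_tensorProduct_of_faithfullyFlat (T := B)

variable {A : Type u} [CommRing A] [IsDomain A] [IsLocalRing A] [IsNoetherianRing A]

theorem faithfullyFlat_completion :
    Module.FaithfullyFlat A (AdicCompletion (IsLocalRing.maximalIdeal A) A) :=
  Module.FaithfullyFlat.of_flat_of_isLocalHom

theorem isN1_of_isReduced_completion [IsReduced (AdicCompletion (IsLocalRing.maximalIdeal A) A)] :
    CAlg.IsN1 A := by
  let B := AdicCompletion (IsLocalRing.maximalIdeal A) A
  haveI := faithfullyFlat_completion (A := A)
  haveI : IsReduced (FractionRing A ⊗[A] B) := by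
    letI := Algebra.TensorProduct.rightAlgebra (R := A) (A := FractionRing A) (B := B)
    exact isReduced_localizationPreserves (Algebra.algebraMapSubmonoid B (nonZeroDivisors A)) _ inferInstance
  haveI : IsReduced (B ⊗[A] FractionRing A) :=
    isReduced_of_injective (Algebra.TensorProduct.comm A B (FractionRing A))
      (Algebra.TensorProduct.comm A B (FractionRing A)).injective
  haveI : Algebra.EssFiniteType A (FractionRing A) := Algebra.EssFiniteType.of_isLocalization _ (nonZeroDivisors A)
  exact finite_integralClosure_of_faithfullyFlat (B := B) (GrothLib.Cohen.isNagata_of_isAdicComplete B)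

theorem isN2_of_isGeometricallyReduced {R : Type u}
    (hred : IsReduced (AdicCompletion (IsLocalRing.maximalIdeal A) A))
    [CommRing R] [Algebra (AdicCompletion (IsLocalRing.maximalIdeal A) A) R]
    [IsFractionRing (AdicCompletion (IsLocalRing.maximalIdeal A) A) R] [Algebra A R]
    [IsScalarTower A (AdicCompletion (IsLocalRing.maximalIdeal A) A) R]
    [Algebra (FractionRing A) R] [IsScalarTower A (FractionRing A) R]
    (h : Algebra.IsGeometricallyReduced (FractionRing A) R) : CAlg.IsN2 A := by
  intro L _ _ _ _ hL
  haveI := hL
  let B := AdicCompletion (IsLocalRing.maximalIdeal A) A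
  let K := FractionRing A
  haveI := faithfullyFlat_completion (A := A)
  haveI : Algebra.EssFiniteType A K := Algebra.EssFiniteType.of_isLocalization _ (nonZeroDivisors A)
  haveI : Algebra.EssFiniteType A L := Algebra.EssFiniteType.comp A K L
  haveI : IsReduced (L ⊗[K] R) := inferInstance
  haveI : IsReduced (L ⊗[A] R) :=
    isReduced_of_injective (IsLocalization.algebraTensorEquiv (nonZeroDivisors A) K L R).symm
      (IsLocalization.algebraTensorEquiv (nonZeroDivisors A) K L R).symm.injective
  haveI : Module.Flat A K := IsLocalization.flat K (nonZeroDivisors A)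
  haveI : Module.Flat A L := Module.Flat.trans A K L
  let ι : B →ₐ[A] R := IsScalarTower.toAlgHom A B R
  have hι : Function.Injective ι := IsFractionRing.injective B R
  let f : L ⊗[A] B →ₐ[A] L ⊗[A] R := Algebra.TensorProduct.map (AlgHom.id A L) ι
  have hf : Function.Injective f :=
    Module.Flat.lTensor_preserves_injective_linearMap (M := L) ι.toLinearMap hι
  haveI : IsReduced (L ⊗[A] B) := isReduced_of_injective f hf
  haveI : IsReduced (B ⊗[A] L) :=
    isReduced_of_injective (Algebra.TensorProduct.comm A B L) (Algebra.TensorProduct.comm A B L).injective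
  exact finite_integralClosure_of_faithfullyFlat (B := B) (GrothLib.Cohen.isNagata_of_isAdicComplete B)

end GrothLib.N2
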