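import Groth.Agent.Lib.N2.Criterion
import Groth.Agent.Lib.GeomReg.Basic
import Groth.Agent.Lib.RegLoc.Normal
import Groth.Prelude.Def_EGA4b
import Mathlib.RingTheory.LocalProperties.IntegrallyClosed

/-!
Geometrically regular algebras are geometrically reduced; open regular locus gives generic normality.
-/

set_option autoImplicit false
set_option linter.style.haveILetI false

open TensorProduct

namespace GrothLib.N2

universe u

theorem isReduced_of_isRegularRing (T : Type u) [CommRing T] [IsRegularRing T] : IsReduced T := by
  refine ⟨fun x hx => ?_⟩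
  refine Module.eq_zero_of_localization_maximal (R := T)
    (fun P _ => Localization.AtPrime P) (fun P _ => Algebra.linearMap _ _) x fun P _ => ?_
  have : IsRegularLocalRing (Localization.AtPrime P) := IsRegularRing.isRegularLocalRing_localization _
  have : IsDomain (Localization.AtPrime P) :=
    GrothLib.CMFree.isDomain_of_isRegularLocalRing (Localization.AtPrime P)
  exact (hx.map (algebraMap T (Localization.AtPrime P))).eq_zero

/-- Geometrically regular algebras are geometrically reduced. -/
theorem isGeometricallyReduced_of_isGeometricallyRegular {k : Type u} [Field k] {A : Type u} [CommRing A]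
    [Algebra k A] (h : CAlg.IsGeometricallyRegular k A) : Algebra.IsGeometricallyReduced k A := by
  rw [Algebra.isGeometricallyReduced_field_iff]
  suffices IsReduced (A ⊗[k] AlgebraicClosure k) from
    isReduced_of_injective _ (Algebra.TensorProduct.comm k (AlgebraicClosure k) A).injective
  refine IsReduced.tensorProduct_of_flat_of_forall_fg fun B hB => ?_
  have : Algebra.IsIntegral k B := by
    have : Algebra.IsAlgebraic k (AlgebraicClosure k) := inferInstance
    exact ⟨fun x => (isIntegral_algHom_iff B.val Subtype.val_injective).1
      (Algebra.IsIntegral.isIntegral (x : AlgebraicClosure k))⟩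
  have : Algebra.FiniteType k B := B.fg_iff_finiteType.1 hB
  have : Module.Finite k B := Algebra.IsIntegral.finite
  let _ : Field B := (isField_of_isIntegral_of_isField' (R := k) (Field.toIsField k)).toField
  have : IsRegularRing (A ⊗[k] B) := GrothLib.GeomReg.isRegularRing_comm.1 (h B this)
  exact isReduced_of_isRegularRing _

/-- A Noetherian domain with open regular locus is generically normal. -/
theorem exists_normal_away_of_isOpen_regLocus {S : Type u} [CommRing S] [IsDomain S] [IsNoetherianRing S]
    (h : IsOpen (EGA4.regLocus S)) : ∃ f : S, f ≠ 0 ∧ IsIntegrallyClosed (Localization.Away f) := by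
  let η : PrimeSpectrum S := ⟨⊥, Ideal.isPrime_bot⟩
  have hη : η ∈ EGA4.regLocus S := by
    show IsRegularLocalRing (Localization.AtPrime (⊥ : Ideal S))
    haveI : IsFractionRing S (Localization.AtPrime (⊥ : Ideal S)) := by
      show IsLocalization (nonZeroDivisors S) (Localization.AtPrime (⊥ : Ideal S))
      rw [← Ideal.primeCompl_bot]
      infer_instance
    let _ := IsFractionRing.toField S (K := Localization.AtPrime (⊥ : Ideal S))
    infer_instance
  obtain ⟨_, ⟨_, ⟨f, rfl⟩, rfl⟩, hfη, hf⟩ := PrimeSpectrum.isBasis_basic_opens.exists_subset_of_mem_open hη h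
  have hf0 : f ≠ 0 := fun h0 => hfη (by rw [h0]; exact zero_mem _)
  refine ⟨f, hf0, ?_⟩
  let Sf := Localization.Away f
  haveI : IsDomain Sf := IsLocalization.isDomain_localization (powers_le_nonZeroDivisors_of_noZeroDivisors hf0)
  refine IsIntegrallyClosed.of_localization_maximal fun M _ hM => ?_
  have hMf : f ∉ M.comap (algebraMap S Sf) := fun hmem =>
    hM.ne_top (Ideal.eq_top_of_isUnit_mem _ hmem (IsLocalization.Away.algebraMap_isUnit f))
  haveI : IsRegularLocalRing (Localization.AtPrime (M.comap (algebraMap S Sf))) :=
    hf (show (⟨M.comap (algebraMap S Sf), Ideal.comap_isPrime _ _⟩ : PrimeSpectrum S) ∈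
      (PrimeSpectrum.basicOpen f : Set (PrimeSpectrum S)) from hMf)
  haveI : IsRegularLocalRing (Localization.AtPrime M) := IsRegularLocalRing.of_ringEquiv
    (IsLocalization.localizationLocalizationAtPrimeIsoLocalization (Submonoid.powers f) M).toRingEquiv
  exact GrothLib.RegLoc.isIntegrallyClosed_of_isRegularLocalRing (Localization.AtPrime M)

end GrothLib.N2
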