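import Groth.Agent.Lib.N2.Tate
import Mathlib.RingTheory.IntegralClosure.IsIntegral.AlmostIntegral
import Mathlib.RingTheory.PowerSeries.Inverse
import Mathlib.RingTheory.PowerSeries.Ideal
import Mathlib.RingTheory.MvPowerSeries.Equiv
import Mathlib.RingTheory.MvPowerSeries.NoZeroDivisors
import Mathlib.RingTheory.AdicCompletion.Completeness

/-!
Power series rings over normal Noetherian (N-2) domains.
-/

set_option autoImplicit false

namespace GrothLib.N2

open PowerSeries

universe u

variable {A : Type u} [CommRing A] [IsDomain A] [IsNoetherianRing A] [IsIntegrallyClosed A]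

local notation "K" => FractionRing A

local notation "ψ" => PowerSeries.map (algebraMap A (FractionRing A))

theorem coeff_zero_mem_of_almost (g : PowerSeries (FractionRing A))
    (hg : ∃ d : PowerSeries A, d ≠ 0 ∧ ∀ n : ℕ, ψ d * g ^ n ∈ (ψ).range) :
    constantCoeff g ∈ (algebraMap A K).range := by
  obtain ⟨d, hd, hdg⟩ := hg
  obtain ⟨j, hj, hj'⟩ : ∃ j, coeff j d ≠ 0 ∧ ∀ i < j, coeff i d = 0 := by
    classical
    have hex : ∃ j, coeff j d ≠ 0 := not_forall.1 fun h => hd (PowerSeries.ext fun j => by simp [h j])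
    exact ⟨Nat.find hex, Nat.find_spec hex, fun i hi => not_not.1 (Nat.find_min hex hi)⟩
  have halm : IsAlmostIntegral A (constantCoeff g : K) := by
    refine ⟨coeff j d, mem_nonZeroDivisors_of_ne_zero hj, fun n => ?_⟩
    obtain ⟨a, ha⟩ := hdg n
    refine ⟨coeff j a, ?_⟩
    rw [← PowerSeries.coeff_map, ha, Algebra.smul_def, PowerSeries.coeff_mul, Finset.sum_eq_single (j, 0)]
    · simp [map_pow]
    · rintro ⟨p, q⟩ hpq hne
      rw [Finset.mem_antidiagonal] at hpq
      have : p < j := by
        rcases Nat.lt_or_ge p j with h | h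
        · exact h
        · exact absurd (by rw [Prod.mk.injEq]; omega : (p, q) = (j, 0)) hne
      simp [PowerSeries.coeff_map, hj' p this]
    · simp
  exact IsIntegrallyClosed.isIntegral_iff.1 halm.isIntegral

theorem coeff_mem_of_almost (i : ℕ) : ∀ (g : PowerSeries (FractionRing A)),
    (∃ d : PowerSeries A, d ≠ 0 ∧ ∀ n : ℕ, ψ d * g ^ n ∈ (ψ).range) → coeff i g ∈ (algebraMap A K).range := by
  induction i with
  | zero => intro g hg; rw [coeff_zero_eq_constantCoeff]; exact coeff_zero_mem_of_almost g hg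
  | succ i ih =>
    intro g hg
    obtain ⟨a, ha⟩ := coeff_zero_mem_of_almost g hg
    obtain ⟨d, hd, hdg⟩ := hg
    obtain ⟨g', hg'⟩ : PowerSeries.X ∣ g - PowerSeries.C (algebraMap A K a) := by
      rw [X_dvd_iff, map_sub, constantCoeff_C, ha, sub_self]
    have hcoeff : coeff (i + 1) g = coeff i g' := by
      have := congrArg (coeff (i + 1)) hg'
      rwa [map_sub, coeff_C, if_neg (Nat.succ_ne_zero i), sub_zero, coeff_succ_X_mul] at this
    rw [hcoeff]
    refine ih g' ⟨d, hd, fun n => ?_⟩
    have hmem : ψ d * (g - ψ (PowerSeries.C a)) ^ n ∈ (ψ).range := by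
      rw [sub_eq_add_neg, add_pow, Finset.mul_sum]
      refine sum_mem fun k _ => ?_
      rw [← mul_assoc, ← mul_assoc]
      refine mul_mem (mul_mem (hdg k) ?_) (natCast_mem _ _)
      rw [← map_neg, ← map_pow]
      exact ⟨_, rfl⟩
    rw [PowerSeries.map_C, hg', mul_pow, mul_left_comm] at hmem
    obtain ⟨b, hb⟩ := hmem
    refine ⟨PowerSeries.mk fun m => coeff (m + n) b, PowerSeries.ext fun m => ?_⟩
    have := congrArg (coeff (m + n)) hb
    rw [PowerSeries.coeff_map, coeff_X_pow_mul] at this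
    rw [PowerSeries.coeff_map, coeff_mk, this]

instance isIntegrallyClosed_powerSeries : IsIntegrallyClosed (PowerSeries A) := by
  refine (isIntegrallyClosed_iff (FractionRing (PowerSeries A))).2 fun {z} hz => ?_
  have hψ : Function.Injective ψ := PowerSeries.map_injective _ (IsFractionRing.injective A K)
  let L := FractionRing (PowerSeries (FractionRing A))
  let Φ : PowerSeries A →+* L := (algebraMap _ L).comp ψ
  have hΦ : Function.Injective Φ := (IsFractionRing.injective (PowerSeries (FractionRing A)) L).comp hψ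
  let φ : FractionRing (PowerSeries A) →+* L := IsFractionRing.lift hΦ
  have hφ : ∀ f, φ (algebraMap _ _ f) = algebraMap _ L (ψ f) := fun f => IsFractionRing.lift_algebraMap hΦ f
  obtain ⟨h, hh⟩ : ∃ h : PowerSeries (FractionRing A), algebraMap _ L h = φ z := by
    refine IsIntegrallyClosed.isIntegral_iff.1 ?_
    obtain ⟨p, hp, hpz⟩ := hz
    refine ⟨p.map ψ, hp.map _, ?_⟩
    rw [Polynomial.eval₂_map, show (algebraMap _ L).comp ψ = φ.comp (algebraMap _ _) from RingHom.ext fun f => (hφ f).symm,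
      ← Polynomial.hom_eval₂, hpz, map_zero]
  obtain ⟨d, hd, hdz⟩ := hz.isAlmostIntegral
  have halm : ∃ d : PowerSeries A, d ≠ 0 ∧ ∀ n : ℕ, ψ d * h ^ n ∈ (ψ).range := by
    refine ⟨d, nonZeroDivisors.ne_zero hd, fun n => ?_⟩
    obtain ⟨b, hb⟩ := hdz n
    refine ⟨b, IsFractionRing.injective _ L ?_⟩
    rw [map_mul, map_pow, hh, ← hφ, ← hφ, hb, ← map_pow, ← map_mul, Algebra.smul_def]
  choose c hc using fun i => coeff_mem_of_almost i h halm
  refine ⟨PowerSeries.mk c, φ.injective ?_⟩
  rw [hφ, ← hh]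
  congr 1
  exact PowerSeries.ext fun i => by simp [hc]

theorem isN2_powerSeries (h : CAlg.IsN2 A) : CAlg.IsN2 (PowerSeries A) := by
  haveI : (Ideal.span ({X} : Set (PowerSeries A))).IsPrime := PowerSeries.span_X_isPrime
  have hker : RingHom.ker (constantCoeff (R := A)) = Ideal.span {X} := by
    ext f
    rw [RingHom.mem_ker, Ideal.mem_span_singleton, X_dvd_iff]
  let e : A ≃+* PowerSeries A ⧸ Ideal.span ({X} : Set (PowerSeries A)) :=
    (RingHom.quotientKerEquivOfSurjective (f := constantCoeff (R := A))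
      fun a => ⟨PowerSeries.C a, constantCoeff_C a⟩).symm.trans (Ideal.quotEquivOfEq hker)
  exact isN2_tate X (isN2_of_ringEquiv e h)

instance isDomain_mvPowerSeries (σ : Type*) (A : Type*) [CommRing A] [IsDomain A] : IsDomain (MvPowerSeries σ A) :=
  NoZeroDivisors.to_isDomain _

omit [IsDomain A] [IsNoetherianRing A] [IsIntegrallyClosed A] in
theorem isN2_mvPowerSeries : ∀ (A : Type u) [CommRing A] [IsDomain A] [IsNoetherianRing A] [IsIntegrallyClosed A],
    CAlg.IsN2 A → ∀ r : ℕ, IsIntegrallyClosed (MvPowerSeries (Fin r) A) ∧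
      CAlg.IsN2 (MvPowerSeries (Fin r) A) := by
  intro A _ _ _ _ h r
  induction r with
  | zero =>
    exact ⟨IsIntegrallyClosed.of_equiv (MvPowerSeries.isEmptyEquiv (Fin 0) A).toRingEquiv.symm,
      isN2_of_ringEquiv (MvPowerSeries.isEmptyEquiv (Fin 0) A).toRingEquiv.symm h⟩
  | succ r ih =>
    haveI := ih.1
    haveI : IsIntegrallyClosed (PowerSeries (MvPowerSeries (Fin r) A)) := isIntegrallyClosed_powerSeries
    exact ⟨IsIntegrallyClosed.of_equiv (MvPowerSeries.finSuccEquiv A r).toRingEquiv.symm,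
      isN2_of_ringEquiv (MvPowerSeries.finSuccEquiv A r).toRingEquiv.symm (isN2_powerSeries ih.2)⟩

end GrothLib.N2
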