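import Groth.Agent.Lib.N2.Tate
import Groth.Agent.Lib.N2.PowerSeries
import Groth.Agent.Lib.Cohen.Nagata
import Mathlib.RingTheory.Polynomial.IsIntegral
import Mathlib.RingTheory.Polynomial.Basic
import Mathlib.RingTheory.IntegralClosure.IsIntegralClosure.Basic
import Mathlib.FieldTheory.IntermediateField.Adjoin.Algebra

/-!
N-1 and N-2 of polynomial and power series rings over arbitrary Noetherian domains.
-/

set_option autoImplicit false

namespace GrothLib.N2

universe u

/-- Integral closure in a field embedding into the fraction field of a finite normal extension. -/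
theorem finite_of_normal_finite {A B L F : Type u} [CommRing A] [IsNoetherianRing A] [CommRing B] [IsDomain B]
    [IsIntegrallyClosed B] [Algebra A B] [Module.Finite A B] [Field F] [Algebra B F] [IsFractionRing B F]
    [Algebra A F] [IsScalarTower A B F] [Field L] [Algebra A L] (g : L →ₐ[A] F) :
    Module.Finite A (integralClosure A L) := by
  refine finite_of_algHom g ?_
  have hmem : ∀ b : B, IsScalarTower.toAlgHom A B F b ∈ integralClosure A F := fun b =>
    (Algebra.IsIntegral.isIntegral (R := A) b).map (IsScalarTower.toAlgHom A B F)
  refine Module.Finite.of_surjective ((IsScalarTower.toAlgHom A B F).codRestrict (integralClosure A F) hmem).toLinearMap ?_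
  intro x
  obtain ⟨b, hb⟩ := IsIntegrallyClosed.isIntegral_iff.1 (x.2.tower_top (A := B))
  exact ⟨b, Subtype.ext hb⟩

/-- N-2 descends along finite extensions. -/
theorem isN2_of_isN2_finite_extension {A B : Type u} [CommRing A] [IsDomain A] [IsNoetherianRing A] [CommRing B]
    [IsDomain B] [Algebra A B] [Module.Finite A B] (hinj : Function.Injective (algebraMap A B))
    (h : CAlg.IsN2 B) : CAlg.IsN2 A := by
  classical
  intro L _ _ _ _ hL
  haveI := hL
  let K := FractionRing A
  let KB := FractionRing B
  have hAB : Function.Injective ((algebraMap B KB).comp (algebraMap A B)) := (IsFractionRing.injective B KB).comp hinj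
  letI : Algebra K KB := (IsFractionRing.lift hAB).toAlgebra
  haveI : IsScalarTower A K KB := IsScalarTower.of_algebraMap_eq fun a => by
    rw [RingHom.algebraMap_toAlgebra, IsFractionRing.lift_algebraMap hAB, RingHom.comp_apply,
      ← IsScalarTower.algebraMap_apply]
  haveI : Algebra.IsAlgebraic K KB := ⟨fun z => by
    obtain ⟨a, b, -, rfl⟩ := IsFractionRing.div_surjective B (K := KB) z
    rw [div_eq_mul_inv]
    refine IsIntegral.isAlgebraic (IsIntegral.mul ?_ (IsIntegral.inv ?_)) <;>
      exact ((Algebra.IsIntegral.isIntegral (R := A) _).map (IsScalarTower.toAlgHom A B KB)).tower_top⟩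
  let Ω := AlgebraicClosure L
  let ι : KB →ₐ[K] Ω := IsAlgClosed.lift
  obtain ⟨s, hs⟩ := Module.Finite.fg_top (R := A) (M := B)
  let T : Set Ω := ((Finset.univ.image fun j => algebraMap L Ω (Module.finBasis K L j)) ∪
    s.image (fun y => ι (algebraMap B KB y)) : Finset Ω)
  let L' := IntermediateField.adjoin K T
  haveI : Algebra.IsAlgebraic K Ω := Algebra.IsAlgebraic.trans K L Ω
  haveI : Finite T := Finset.finite_toSet _ |>.to_subtype
  haveI : FiniteDimensional K L' :=
    IntermediateField.finiteDimensional_adjoin fun x _ => (Algebra.IsAlgebraic.isAlgebraic x).isIntegral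
  have hLL' : ∀ x : L, algebraMap L Ω x ∈ L' := fun x => by
    rw [← (Module.finBasis K L).sum_repr x, map_sum]
    refine sum_mem fun j _ => ?_
    rw [Algebra.smul_def, map_mul, ← IsScalarTower.algebraMap_apply]
    exact mul_mem (IntermediateField.algebraMap_mem _ _) (IntermediateField.subset_adjoin K T
      (Finset.mem_union_left _ (Finset.mem_image_of_mem _ (Finset.mem_univ j))))
  have hB : ∀ y : B, ι (algebraMap B KB y) ∈ L' := fun y => by
    have hy : y ∈ Submodule.span A (s : Set B) := hs.symm ▸ trivial
    induction hy using Submodule.span_induction with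
    | mem z hz => exact IntermediateField.subset_adjoin K T (Finset.mem_union_right _ (Finset.mem_image_of_mem _ hz))
    | zero => rw [map_zero, map_zero]; exact zero_mem _
    | add z w _ _ hz hw => rw [map_add, map_add]; exact add_mem hz hw
    | smul a z _ hz =>
      rw [Algebra.smul_def, map_mul, map_mul, ← IsScalarTower.algebraMap_apply A B KB,
        IsScalarTower.algebraMap_apply A K KB, AlgHom.commutes]
      exact mul_mem (IntermediateField.algebraMap_mem _ _) hz
  have hKB : ∀ z : KB, ι z ∈ L' := fun z => by
    obtain ⟨a, b, -, rfl⟩ := IsFractionRing.div_surjective B (K := KB) z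
    rw [map_div₀]
    exact div_mem (hB a) (hB b)
  let j : KB →ₐ[K] L' := ι.codRestrict L'.toSubalgebra hKB
  letI : Algebra KB L' := j.toRingHom.toAlgebra
  haveI : IsScalarTower K KB L' := IsScalarTower.of_algebraMap_eq fun c => (j.commutes c).symm
  haveI : FiniteDimensional KB L' := Module.Finite.of_restrictScalars_finite K KB L'
  letI : Algebra B L' := (j.toRingHom.comp (algebraMap B KB)).toAlgebra
  haveI : IsScalarTower B KB L' := IsScalarTower.of_algebraMap_eq fun _ => rfl
  haveI : IsScalarTower A B L' := IsScalarTower.of_algebraMap_eq fun a => by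
    show algebraMap A L' a = j (algebraMap B KB (algebraMap A B a))
    rw [← IsScalarTower.algebraMap_apply A B KB, IsScalarTower.algebraMap_apply A K KB, j.commutes,
      ← IsScalarTower.algebraMap_apply]
  haveI : Module.Finite B (integralClosure B L') := h L' inferInstance
  haveI : Module.Finite A (integralClosure B L') := Module.Finite.trans B _
  let f : integralClosure B L' →ₗ[A] integralClosure A L' :=
    { toFun := fun x => ⟨x.1, isIntegral_trans (R := A) x.1 x.2⟩
      map_add' := fun _ _ => rfl
      map_smul' := fun c x => Subtype.ext rfl }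
  have hL' : Module.Finite A (integralClosure A L') :=
    Module.Finite.of_surjective f fun x => ⟨⟨x.1, x.2.tower_top⟩, Subtype.ext rfl⟩
  let φ : L →ₐ[K] L' := (IsScalarTower.toAlgHom K L Ω).codRestrict L'.toSubalgebra hLL'
  exact finite_of_algHom (φ.restrictScalars A) hL'

theorem finite_polynomial (R S : Type u) [CommRing R] [CommRing S] [Algebra R S] [Module.Finite R S] :
    @Module.Finite (Polynomial R) (Polynomial S) _ _ (Polynomial.mapRingHom (algebraMap R S)).toAlgebra.toModule := by
  classical
  letI : Algebra (Polynomial R) (Polynomial S) := (Polynomial.mapRingHom (algebraMap R S)).toAlgebra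
  obtain ⟨s, hs⟩ := Module.Finite.fg_top (R := R) (M := S)
  refine ⟨⟨s.image Polynomial.C, Submodule.eq_top_iff'.2 fun p => ?_⟩⟩
  induction p using Polynomial.induction_on' with
  | add a b ha hb => exact add_mem ha hb
  | monomial n c =>
    have hc : c ∈ Submodule.span R (s : Set S) := hs.symm ▸ trivial
    induction hc using Submodule.span_induction with
    | mem z hz =>
      have : Polynomial.monomial n z = (Polynomial.X ^ n : Polynomial R) • Polynomial.C z := by
        rw [Algebra.smul_def, RingHom.algebraMap_toAlgebra, Polynomial.coe_mapRingHom, Polynomial.map_pow,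
          Polynomial.map_X, ← Polynomial.C_mul_X_pow_eq_monomial, mul_comm]
      rw [this]
      exact Submodule.smul_mem _ _ (Submodule.subset_span (Finset.mem_image_of_mem _ hz))
    | zero => rw [map_zero]; exact zero_mem _
    | add a b _ _ ha hb => rw [map_add]; exact add_mem ha hb
    | smul r a _ ha =>
      have : Polynomial.monomial n (r • a) = (Polynomial.C r : Polynomial R) • Polynomial.monomial n a := by
        rw [Algebra.smul_def, Algebra.smul_def, RingHom.algebraMap_toAlgebra, Polynomial.coe_mapRingHom,
          Polynomial.map_C, Polynomial.C_mul_monomial]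
      rw [this]
      exact Submodule.smul_mem _ _ ha

theorem isN1_polynomial {R : Type u} [CommRing R] [IsDomain R] [IsNoetherianRing R] (h : CAlg.IsN1 R) :
    CAlg.IsN1 (Polynomial R) := by
  let K := FractionRing R
  let R' := integralClosure R K
  haveI : Module.Finite R R' := h
  haveI : IsIntegrallyClosed R' := integralClosure.isIntegrallyClosedOfFiniteExtension K
  let ι : Polynomial R →+* Polynomial R' := Polynomial.mapRingHom (algebraMap R R')
  have hι : Function.Injective ι := Polynomial.map_injective _ fun a b hab =>
    IsFractionRing.injective R K (congrArg Subtype.val hab)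
  letI : Algebra (Polynomial R) (Polynomial R') := ι.toAlgebra
  haveI : Module.Finite (Polynomial R) (Polynomial R') := finite_polynomial R R'
  let F := FractionRing (Polynomial R')
  have hF : Function.Injective (algebraMap (Polynomial R) F) := by
    rw [IsScalarTower.algebraMap_eq (Polynomial R) (Polynomial R') F]
    exact (IsFractionRing.injective (Polynomial R') F).comp hι
  let g : FractionRing (Polynomial R) →ₐ[Polynomial R] F :=
    { IsFractionRing.lift hF with commutes' := fun r => IsFractionRing.lift_algebraMap hF r }
  exact finite_of_normal_finite (B := Polynomial R') (F := F) g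

theorem isN2_polynomial_normal {A : Type u} [CommRing A] [IsDomain A] [IsNoetherianRing A] [IsIntegrallyClosed A]
    (h : CAlg.IsN2 A) : CAlg.IsN2 (Polynomial A) := by
  classical
  refine isN2_of_purelyInseparable fun K' _ _ _ _ hfin hpi => ?_
  let F0 := FractionRing (Polynomial A)
  obtain ⟨p, hp⟩ := ExpChar.exists F0
  rcases hp with _ | hpr
  · haveI : Algebra.IsSeparable F0 K' := Algebra.IsAlgebraic.isSeparable_of_perfectField
    exact finite_of_separable K'
  haveI := Fact.mk hpr
  haveI : ExpChar F0 p := ExpChar.prime hpr
  obtain ⟨n, hn⟩ := (IsPurelyInseparable.hasExponent_iff' F0 K' p).1 inferInstance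
  let b := Module.finBasis F0 K'
  choose c hc using fun j => hn (b j)
  choose nu de hde hfrac using fun j => IsFractionRing.div_surjective (Polynomial A) (K := F0) (c j)
  let K := FractionRing A
  haveI : CharP A p := (RingHom.charP_iff ((algebraMap (Polynomial A) F0).comp Polynomial.C)
    ((IsFractionRing.injective (Polynomial A) F0).comp Polynomial.C_injective) p).2 inferInstance
  haveI : CharP K p := charP_of_injective_algebraMap (IsFractionRing.injective A K) p
  let Ω := AlgebraicClosure K
  haveI : ExpChar Ω p := ExpChar.prime hpr
  -- coefficient roots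
  let Cs : Finset A := Finset.univ.biUnion fun j => (nu j).coeffs ∪ (de j).coeffs
  choose rt hrt using fun a : A => IsAlgClosed.exists_pow_nat_eq (algebraMap A Ω a) (pow_pos hpr.pos n)
  let T : Set Ω := (Cs.image rt : Finset Ω)
  let K1 := IntermediateField.adjoin K T
  haveI : Finite T := (Cs.image rt).finite_toSet.to_subtype
  haveI : FiniteDimensional K K1 :=
    IntermediateField.finiteDimensional_adjoin fun x _ => (Algebra.IsAlgebraic.isAlgebraic x).isIntegral
  let A1 := integralClosure A K1
  haveI : Module.Finite A A1 := h K1 inferInstance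
  haveI : IsIntegrallyClosed A1 := integralClosure.isIntegrallyClosedOfFiniteExtension K
  haveI : IsNoetherianRing A1 := IsNoetherianRing.of_finite A A1
  haveI : IsFractionRing A1 K1 := integralClosure.isFractionRing_of_finite_extension K K1
  let q := p ^ n
  let ι : Polynomial A →+* Polynomial A1 :=
    Polynomial.eval₂RingHom (Polynomial.C.comp (algebraMap A A1)) (Polynomial.X ^ q)
  have hιexp : ∀ f, ι f = Polynomial.expand A1 q (f.map (algebraMap A A1)) := fun f => by
    induction f using Polynomial.induction_on' with
    | add u v hu hv => rw [map_add, Polynomial.map_add, map_add, hu, hv]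
    | monomial k a =>
      rw [Polynomial.coe_eval₂RingHom, Polynomial.eval₂_monomial, Polynomial.map_monomial,
        Polynomial.expand_monomial, ← pow_mul, RingHom.comp_apply, Polynomial.C_mul_X_pow_eq_monomial, mul_comm k]
  have hA1 : Function.Injective (algebraMap A A1) := fun a b hab => by
    have h1 : algebraMap A K1 a = algebraMap A K1 b := congrArg Subtype.val hab
    rw [IsScalarTower.algebraMap_apply A K K1, IsScalarTower.algebraMap_apply A K K1 b] at h1
    exact IsFractionRing.injective A K ((algebraMap K K1).injective h1)
  have hι : Function.Injective ι := fun f g hfg => by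
    rw [hιexp, hιexp] at hfg
    exact Polynomial.map_injective _ hA1 (Polynomial.expand_injective (pow_pos hpr.pos n) hfg)
  letI : Algebra (Polynomial A) (Polynomial A1) := ι.toAlgebra
  haveI : Module.Finite (Polynomial A) (Polynomial A1) := by
    haveI : Algebra.IsIntegral (Polynomial A) (Polynomial A1) := ⟨fun f => by
      induction f using Polynomial.induction_on with
      | C a =>
        obtain ⟨P, hP, hPa⟩ := Algebra.IsIntegral.isIntegral (R := A) a
        refine ⟨P.map Polynomial.C, hP.map _, ?_⟩
        rw [Polynomial.eval₂_map, show (algebraMap (Polynomial A) (Polynomial A1)).comp Polynomial.C =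
          Polynomial.C.comp (algebraMap A A1) from RingHom.ext fun r => by simp [RingHom.algebraMap_toAlgebra, ι],
          ← Polynomial.hom_eval₂, hPa, map_zero]
      | add a b ha hb => exact ha.add hb
      | monomial k a ha =>
        rw [pow_succ, ← mul_assoc]
        refine ha.mul (IsIntegral.of_pow (pow_pos hpr.pos n) ?_)
        have hX : IsIntegral (Polynomial A) (algebraMap (Polynomial A) (Polynomial A1) Polynomial.X) :=
          isIntegral_algebraMap
        rwa [RingHom.algebraMap_toAlgebra, Polynomial.coe_eval₂RingHom, Polynomial.eval₂_X] at hX⟩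
    haveI : IsScalarTower A (Polynomial A) (Polynomial A1) := IsScalarTower.of_algebraMap_eq fun r => by
      simp [RingHom.algebraMap_toAlgebra, ι, Polynomial.algebraMap_apply]
    haveI : Algebra.FiniteType A A1 := inferInstance
    haveI : Algebra.FiniteType A (Polynomial A1) :=
      Algebra.FiniteType.trans (R := A) (S := A1) inferInstance inferInstance
    haveI : Algebra.FiniteType (Polynomial A) (Polynomial A1) :=
      Algebra.FiniteType.of_restrictScalars_finiteType A _ _
    exact Algebra.IsIntegral.finite
  let F1 := FractionRing (Polynomial A1)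
  have hι1 : Function.Injective (algebraMap (Polynomial A) F1) := by
    rw [IsScalarTower.algebraMap_eq (Polynomial A) (Polynomial A1) F1]
    exact (IsFractionRing.injective (Polynomial A1) F1).comp hι
  letI : Algebra F0 F1 := (IsFractionRing.lift hι1).toAlgebra
  haveI : IsScalarTower (Polynomial A) F0 F1 :=
    IsScalarTower.of_algebraMap_eq fun f => (IsFractionRing.lift_algebraMap hι1 f).symm
  haveI : ExpChar F1 p := expChar_of_injective_algebraMap (algebraMap F0 F1).injective p
  let κ : K1 →+* F1 := IsFractionRing.lift (g := (algebraMap (Polynomial A1) F1).comp Polynomial.C)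
    ((IsFractionRing.injective (Polynomial A1) F1).comp Polynomial.C_injective)
  have hroot : ∀ f : Polynomial A, (∀ i, f.coeff i ∈ Cs ∨ f.coeff i = 0) →
      ∃ z : F1, z ^ q = algebraMap (Polynomial A) F1 f := by
    intro f hf
    have hmem : ∀ i, ∃ r : K1, r ^ q = algebraMap A K1 (f.coeff i) := fun i => by
      rcases hf i with hi | hi
      · exact ⟨⟨rt (f.coeff i), IntermediateField.subset_adjoin K T (Finset.mem_image_of_mem _ hi)⟩,
          Subtype.ext (hrt _)⟩
      · exact ⟨0, by rw [hi, map_zero, zero_pow (pow_pos hpr.pos n).ne']⟩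
    choose r hr using hmem
    let Y : F1 := algebraMap (Polynomial A1) F1 Polynomial.X
    refine ⟨∑ i ∈ f.support, κ (r i) * Y ^ i, ?_⟩
    rw [sum_pow_char_pow, IsScalarTower.algebraMap_apply (Polynomial A) (Polynomial A1) F1,
      RingHom.algebraMap_toAlgebra, Polynomial.coe_eval₂RingHom, Polynomial.eval₂_eq_sum, Polynomial.sum_def, map_sum]
    refine Finset.sum_congr rfl fun i _ => ?_
    rw [mul_pow, ← map_pow κ, hr, map_mul, ← pow_mul, mul_comm i, pow_mul, map_pow, map_pow]
    congr 1
    rw [IsScalarTower.algebraMap_apply A A1 K1]
    exact IsFractionRing.lift_algebraMap _ _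
  let Ω1 := AlgebraicClosure F1
  haveI : ExpChar Ω1 p := expChar_of_injective_algebraMap (algebraMap F1 Ω1).injective p
  haveI : IsScalarTower F0 F1 Ω1 := inferInstance
  let g : K' →ₐ[F0] Ω1 := IsAlgClosed.lift
  let R1 : IntermediateField F0 Ω1 := (IsScalarTower.toAlgHom F0 F1 Ω1).fieldRange
  have hg : ∀ j, g (b j) ∈ R1 := fun j => by
    have hcov : ∀ f, (f = nu j ∨ f = de j) → ∀ i, f.coeff i ∈ Cs ∨ f.coeff i = 0 := fun f hf i => by
      by_cases h0 : f.coeff i = 0
      · exact Or.inr h0
      · refine Or.inl (Finset.mem_biUnion.2 ⟨j, Finset.mem_univ j, ?_⟩)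
        rcases hf with rfl | rfl
        · exact Finset.mem_union_left _ (Polynomial.coeff_mem_coeffs h0)
        · exact Finset.mem_union_right _ (Polynomial.coeff_mem_coeffs h0)
    obtain ⟨z1, hz1⟩ := hroot (nu j) (hcov _ (Or.inl rfl))
    obtain ⟨z2, hz2⟩ := hroot (de j) (hcov _ (Or.inr rfl))
    refine ⟨z1 / z2, iterateFrobenius_inj Ω1 p n ?_⟩
    rw [iterateFrobenius_def, iterateFrobenius_def]
    show algebraMap F1 Ω1 (z1 / z2) ^ q = g (b j) ^ q
    rw [← map_pow g, ← hc j, AlgHom.commutes, ← map_pow (algebraMap F1 Ω1), div_pow, hz1, hz2, ← hfrac j,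
      map_div₀, map_div₀, IsScalarTower.algebraMap_apply (Polynomial A) F0 F1,
      IsScalarTower.algebraMap_apply (Polynomial A) F0 F1, IsScalarTower.algebraMap_apply F0 F1 Ω1,
      IsScalarTower.algebraMap_apply F0 F1 Ω1]
  have hall : ∀ x, g x ∈ R1 := fun x => by
    rw [← b.sum_repr x, map_sum]
    refine sum_mem fun j _ => ?_
    rw [map_smul, Algebra.smul_def]
    exact mul_mem (IntermediateField.algebraMap_mem _ _) (hg j)
  let e : F1 ≃ₐ[F0] (IsScalarTower.toAlgHom F0 F1 Ω1).range :=
    AlgEquiv.ofInjectiveField (IsScalarTower.toAlgHom F0 F1 Ω1)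
  let φ : K' →ₐ[F0] F1 := e.symm.toAlgHom.comp (g.codRestrict _ hall)
  exact finite_of_normal_finite (B := Polynomial A1) (F := F1) (φ.restrictScalars (Polynomial A))

theorem isN2_polynomial {R : Type u} [CommRing R] [IsDomain R] [IsNoetherianRing R] (h : CAlg.IsN2 R) :
    CAlg.IsN2 (Polynomial R) := by
  let K := FractionRing R
  let R' := integralClosure R K
  haveI : Module.Finite R R' := h K inferInstance
  haveI : IsIntegrallyClosed R' := integralClosure.isIntegrallyClosedOfFiniteExtension K
  haveI : IsNoetherianRing R' := IsNoetherianRing.of_finite R R'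
  have hinj : Function.Injective (algebraMap R R') := fun a b hab =>
    IsFractionRing.injective R K (congrArg Subtype.val hab)
  letI : Algebra (Polynomial R) (Polynomial R') := (Polynomial.mapRingHom (algebraMap R R')).toAlgebra
  haveI : Module.Finite (Polynomial R) (Polynomial R') := finite_polynomial R R'
  exact isN2_of_isN2_finite_extension (B := Polynomial R') (Polynomial.map_injective _ hinj)
    (isN2_polynomial_normal (GrothLib.Cohen.isN2_of_finite hinj h))

theorem isN2_powerSeries_of_noetherian {R : Type u} [CommRing R] [IsDomain R] [IsNoetherianRing R] (h : CAlg.IsN2 R) :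
    CAlg.IsN2 (PowerSeries R) := by
  classical
  let K := FractionRing R
  let R' := integralClosure R K
  haveI : Module.Finite R R' := h K inferInstance
  haveI : IsIntegrallyClosed R' := integralClosure.isIntegrallyClosedOfFiniteExtension K
  haveI : IsNoetherianRing R' := IsNoetherianRing.of_finite R R'
  have hinj : Function.Injective (algebraMap R R') := fun a b hab =>
    IsFractionRing.injective R K (congrArg Subtype.val hab)
  letI : Algebra (PowerSeries R) (PowerSeries R') := (PowerSeries.map (algebraMap R R')).toAlgebra
  haveI : Module.Finite (PowerSeries R) (PowerSeries R') := by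
    obtain ⟨s, hs⟩ := Module.Finite.fg_top (R := R) (M := R')
    refine ⟨⟨s.image (PowerSeries.C), Submodule.eq_top_iff'.2 fun f => ?_⟩⟩
    have hco : ∀ i, ∃ a : R' → R, ∑ z ∈ s, a z • z = PowerSeries.coeff i f := fun i => by
      obtain ⟨a, -, ha⟩ := Submodule.mem_span_finset.1 (hs.symm ▸ trivial :
        PowerSeries.coeff i f ∈ Submodule.span R (s : Set R'))
      exact ⟨a, ha⟩
    choose a ha using hco
    have : f = ∑ z ∈ s, (PowerSeries.mk fun i => a i z : PowerSeries R) • PowerSeries.C z := by
      refine PowerSeries.ext fun i => ?_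
      rw [map_sum, ← ha i]
      refine Finset.sum_congr rfl fun z _ => ?_
      rw [Algebra.smul_def, Algebra.smul_def, RingHom.algebraMap_toAlgebra, PowerSeries.coeff_mul_C,
        PowerSeries.coeff_map, PowerSeries.coeff_mk]
    rw [this]
    exact Submodule.sum_mem _ fun z hz => Submodule.smul_mem _ _ (Submodule.subset_span (Finset.mem_image_of_mem _ hz))
  exact isN2_of_isN2_finite_extension (B := PowerSeries R') (PowerSeries.map_injective _ hinj)
    (isN2_powerSeries (GrothLib.Cohen.isN2_of_finite hinj h))

end GrothLib.N2
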