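import Groth.Agent.Lib.N2.Local
import Mathlib.RingTheory.Algebraic.Integral
import Mathlib.RingTheory.Localization.Finiteness
import Mathlib.RingTheory.Polynomial.Basic
import Mathlib.RingTheory.Localization.InvSubmonoid
import Mathlib.RingTheory.Localization.Integral

/-!
Universally Japanese rings; N-1 descends from Laurent polynomials.
-/

set_option autoImplicit false

namespace GrothLib.N2

universe u

/-- N-2 follows from N-1 for all finite extension domains. -/
theorem isN2_of_forall_isN1 {S : Type u} [CommRing S] [IsDomain S]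
    (h : ∀ (T : Type u) [CommRing T] [IsDomain T] [Algebra S T], Module.Finite S T → CAlg.IsN1 T) :
    CAlg.IsN2 S := by
  classical
  intro L _ _ _ _ hL
  haveI := hL
  let K := FractionRing S
  let b := Module.finBasis K L
  have hb : ∀ j, ∃ m : nonZeroDivisors S, IsIntegral S (m • b j) := fun j =>
    IsIntegral.exists_multiple_integral_of_isLocalization (Rₘ := K) (nonZeroDivisors S) (b j)
      (Algebra.IsIntegral.isIntegral _)
  choose m hm using hb
  let T := Algebra.adjoin S (Set.range fun j => m j • b j)
  haveI : Module.Finite S T :=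
    ⟨(Submodule.fg_top _).2 (fg_adjoin_of_finite (Set.finite_range _) fun x hx => by
      obtain ⟨j, rfl⟩ := hx; exact hm j)⟩
  haveI : IsFractionRing T L := by
    haveI : FaithfulSMul T L := (faithfulSMul_iff_algebraMap_injective T L).2 Subtype.val_injective
    refine IsFractionRing.of_field T L fun z => ?_
    obtain ⟨d, hd⟩ := IsLocalization.exist_integer_multiples_of_finite (nonZeroDivisors S) (fun j => b.repr z j)
    choose c hc using hd
    let M : S := ∏ j, (m j).1
    have hM : algebraMap S L (d.1 * M) ≠ 0 := by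
      rw [IsScalarTower.algebraMap_apply S K L, map_ne_zero]
      exact IsFractionRing.to_map_ne_zero_of_mem_nonZeroDivisors (mul_mem d.2 (prod_mem fun j _ => (m j).2))
    refine ⟨⟨algebraMap S L (d.1 * M) * z, ?_⟩, algebraMap S T (d.1 * M), ?_⟩
    · rw [← b.sum_repr z, Finset.mul_sum]
      refine Subalgebra.sum_mem _ fun j _ => ?_
      have hMj : M = (∏ i ∈ Finset.univ.erase j, (m i).1) * (m j).1 := by
        rw [Finset.prod_erase_mul _ _ (Finset.mem_univ j)]
      have heq : algebraMap S L (d.1 * M) * (b.repr z j • b j) =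
          algebraMap S L (c j * ∏ i ∈ Finset.univ.erase j, (m i).1) * (m j • b j) := by
        have h1 : algebraMap S L (c j) = algebraMap S L d.1 * algebraMap K L (b.repr z j) := by
          rw [IsScalarTower.algebraMap_apply S K L, hc, Algebra.smul_def, map_mul,
            ← IsScalarTower.algebraMap_apply]
        rw [hMj, map_mul, map_mul, map_mul, h1, Submonoid.smul_def, Algebra.smul_def, Algebra.smul_def]
        ring
      rw [heq]
      exact mul_mem (Subalgebra.algebraMap_mem _ _) (Algebra.subset_adjoin ⟨j, rfl⟩)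
    · exact (mul_div_cancel_left₀ z hM).symm
  haveI : Module.Finite T (integralClosure T L) := (isN1_iff L).1 (h T inferInstance)
  haveI : Module.Finite S (integralClosure T L) := Module.Finite.trans T _
  let ι : integralClosure T L →ₗ[S] integralClosure S L :=
    { toFun := fun x => ⟨x.1, isIntegral_trans (R := S) x.1 x.2⟩
      map_add' := fun _ _ => rfl
      map_smul' := fun c x => Subtype.ext rfl }
  exact Module.Finite.of_surjective ι fun x => ⟨⟨x.1, x.2.tower_top⟩, Subtype.ext rfl⟩

theorem isUniversallyJapanese_of_forall_isN1 (R : Type u) [CommRing R]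
    (h : ∀ (S : Type u) [CommRing S] [IsDomain S] [Algebra R S], Algebra.FiniteType R S → CAlg.IsN1 S) :
    CAlg.IsUniversallyJapanese R := by
  intro S _ _ _ hS
  refine isN2_of_forall_isN1 fun T _ _ _ hT => ?_
  letI : Algebra R T := ((algebraMap S T).comp (algebraMap R S)).toAlgebra
  haveI : IsScalarTower R S T := IsScalarTower.of_algebraMap_eq fun _ => rfl
  haveI := hT
  haveI := hS
  exact h T (Algebra.FiniteType.trans (R := R) (S := S) inferInstance inferInstance)

/-- A domain essentially of finite type over a universally Japanese ring is N-2. -/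
theorem isN2_of_essFiniteType {R : Type u} [CommRing R] (hR : CAlg.IsUniversallyJapanese R) (T : Type u)
    [CommRing T] [IsDomain T] [Algebra R T] [Algebra.EssFiniteType R T] : CAlg.IsN2 T := by
  refine isN2_of_isLocalization (Algebra.EssFiniteType.subalgebra R T) (Algebra.EssFiniteType.submonoid R T) T ?_
  exact hR _ inferInstance

theorem isUniversallyJapanese_of_essFiniteType (R : Type u) [CommRing R]
    (hR : CAlg.IsUniversallyJapanese R) (T : Type u) [CommRing T] [Algebra R T]
    [Algebra.EssFiniteType R T] : CAlg.IsUniversallyJapanese T := by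
  intro S _ _ _ hS
  haveI := hS
  letI : Algebra R S := ((algebraMap T S).comp (algebraMap R T)).toAlgebra
  haveI : IsScalarTower R T S := IsScalarTower.of_algebraMap_eq fun _ => rfl
  haveI : Algebra.EssFiniteType R S := Algebra.EssFiniteType.comp R T S
  exact isN2_of_essFiniteType hR S

theorem isUniversallyJapanese_of_span (R : Type u) [CommRing R] {ι : Type u} [Finite ι] (f : ι → R)
    (hf : Ideal.span (Set.range f) = ⊤) (h : ∀ i, CAlg.IsUniversallyJapanese (Localization.Away (f i))) :
    CAlg.IsUniversallyJapanese R := by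
  intro S _ _ _ hS
  haveI := hS
  let J := {i : ι // algebraMap R S (f i) ≠ 0}
  let g : J → S := fun j => algebraMap R S (f j.1)
  have hg : Ideal.span (Set.range g) = ⊤ := by
    rw [eq_top_iff, ← Ideal.map_top (algebraMap R S), ← hf, Ideal.map_span, Ideal.span_le]
    rintro _ ⟨_, ⟨i, rfl⟩, rfl⟩
    by_cases hi : algebraMap R S (f i) = 0
    · rw [SetLike.mem_coe, hi]; exact zero_mem _
    · exact Ideal.subset_span ⟨⟨i, hi⟩, rfl⟩
  haveI : ∀ j : J, IsDomain (Localization.Away (g j)) := fun j =>
    IsLocalization.isDomain_localization (powers_le_nonZeroDivisors_of_noZeroDivisors j.2)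
  refine isN2_of_span g hg (fun j => Localization.Away (g j)) fun j => ?_
  have hu : ∀ y : Submonoid.powers (f j.1), IsUnit (algebraMap R (Localization.Away (g j)) y) := by
    rintro ⟨_, n, rfl⟩
    rw [map_pow]
    refine IsUnit.pow n ?_
    rw [IsScalarTower.algebraMap_apply R S (Localization.Away (g j))]
    exact IsLocalization.Away.algebraMap_isUnit (g j)
  letI : Algebra (Localization.Away (f j.1)) (Localization.Away (g j)) := (IsLocalization.lift hu).toAlgebra
  haveI : IsScalarTower R (Localization.Away (f j.1)) (Localization.Away (g j)) :=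
    IsScalarTower.of_algebraMap_eq fun r => (IsLocalization.lift_eq hu r).symm
  haveI : Algebra.FiniteType R (Localization.Away (g j)) :=
    Algebra.FiniteType.trans (R := R) (S := S) inferInstance (IsLocalization.finiteType_of_monoid_fg (Submonoid.powers (g j)) _)
  exact h j.1 _ (Algebra.FiniteType.of_restrictScalars_finiteType R (Localization.Away (f j.1)) _)

theorem isNagata_of_span (R : Type u) [CommRing R] {ι : Type u} [Finite ι] (f : ι → R)
    (hf : Ideal.span (Set.range f) = ⊤) (h : ∀ i, CAlg.IsNagata (Localization.Away (f i))) : CAlg.IsNagata R := by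
  refine ⟨⟨fun I => Ideal.fg_of_localizationSpan (Set.range f) hf ?_⟩, fun p _ => ?_⟩
  · rintro ⟨_, i, rfl⟩
    haveI := (h i).1
    exact IsNoetherian.noetherian _
  let J := {i : ι // f i ∉ p}
  let g : J → R ⧸ p := fun j => Ideal.Quotient.mk p (f j.1)
  have hg : Ideal.span (Set.range g) = ⊤ := by
    rw [eq_top_iff, ← Ideal.map_top (Ideal.Quotient.mk p), ← hf, Ideal.map_span, Ideal.span_le]
    rintro _ ⟨_, ⟨i, rfl⟩, rfl⟩
    by_cases hi : f i ∈ p
    · rw [SetLike.mem_coe, Ideal.Quotient.eq_zero_iff_mem.2 hi]; exact zero_mem _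
    · exact Ideal.subset_span ⟨⟨i, hi⟩, rfl⟩
  haveI : ∀ j : J, IsDomain (Localization.Away (g j)) := fun j =>
    IsLocalization.isDomain_localization (powers_le_nonZeroDivisors_of_noZeroDivisors
      fun hj => j.2 (Ideal.Quotient.eq_zero_iff_mem.1 hj))
  refine isN2_of_span g hg (fun j => Localization.Away (g j)) fun j => ?_
  let ψ : Localization.Away (f j.1) →+* Localization.Away (g j) :=
    IsLocalization.Away.map _ _ (Ideal.Quotient.mk p) (f j.1)
  have hψ : Function.Surjective ψ := by
    intro z
    obtain ⟨⟨a, ⟨_, n, rfl⟩⟩, hz⟩ := IsLocalization.surj (Submonoid.powers (g j)) z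
    obtain ⟨a, rfl⟩ := Ideal.Quotient.mk_surjective a
    obtain ⟨u, hu⟩ := (IsLocalization.Away.algebraMap_isUnit (S := Localization.Away (f j.1)) (f j.1)).pow n
    have hψu : ψ u = algebraMap _ (Localization.Away (g j)) ((g j) ^ n) := by
      rw [hu, ← map_pow, ← map_pow]
      exact IsLocalization.map_eq _ _
    have hψa : ψ (algebraMap R _ a) = algebraMap _ (Localization.Away (g j)) (Ideal.Quotient.mk p a) :=
      IsLocalization.map_eq _ a
    refine ⟨algebraMap R _ a * ↑u⁻¹, ?_⟩
    rw [map_mul, hψa, ← hz, mul_assoc, ← hψu, ← map_mul, Units.mul_inv, map_one, mul_one]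
  haveI : (RingHom.ker ψ).IsPrime := RingHom.ker_isPrime ψ
  exact isN2_of_ringEquiv (RingHom.quotientKerEquivOfSurjective hψ) ((h j.1).2 (RingHom.ker ψ))

/-- N-1 descends from the Laurent polynomial ring. -/
theorem finite_integralClosure_of_laurent {R K L : Type u} [CommRing R] [IsDomain R] [IsNoetherianRing R]
    [Field K] [Algebra R K] [IsFractionRing R K] (S : Type u) [CommRing S] [IsDomain S] [Algebra (Polynomial R) S]
    [IsLocalization.Away (Polynomial.X : Polynomial R) S] [Field L] [Algebra S L] [IsFractionRing S L]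
    (h : Module.Finite S (integralClosure S L)) : Module.Finite R (integralClosure R K) := by
  haveI : IsNoetherianRing S := IsLocalization.isNoetherianRing (Submonoid.powers (Polynomial.X : Polynomial R)) S inferInstance
  let φ : Polynomial R →+* L := (algebraMap S L).comp (algebraMap (Polynomial R) S)
  have hφ : Function.Injective φ := (IsFractionRing.injective S L).comp
    (IsLocalization.injective S (powers_le_nonZeroDivisors_of_noZeroDivisors Polynomial.X_ne_zero))
  let γ : K →+* L := IsFractionRing.lift (g := φ.comp Polynomial.C) (hφ.comp Polynomial.C_injective)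
  have hγ : ∀ r, γ (algebraMap R K r) = φ (Polynomial.C r) := fun r => IsFractionRing.lift_algebraMap _ r
  let β : Polynomial K →+* L := Polynomial.eval₂RingHom γ (φ Polynomial.X)
  have hβmap : ∀ p : Polynomial R, β (p.map (algebraMap R K)) = φ p := fun p => by
    have : β.comp (Polynomial.mapRingHom (algebraMap R K)) = φ := Polynomial.ringHom_ext
      (fun r => by simp [β, hγ]) (by simp [β])
    exact RingHom.congr_fun this p
  have hβC : ∀ c, β (Polynomial.C c) = γ c := fun c => by simp [β]
  have hβX : β Polynomial.X = φ Polynomial.X := by simp [β]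
  have hβ : Function.Injective β := by
    rw [injective_iff_map_eq_zero]
    intro P hP
    obtain ⟨b, hb⟩ := IsLocalization.integerNormalization_map_to_map (nonZeroDivisors R) P
    have h1 : φ (IsLocalization.integerNormalization (nonZeroDivisors R) P) = 0 := by
      rw [← hβmap, hb, Algebra.smul_def, map_mul, hP, mul_zero]
    rw [hφ (h1.trans (map_zero φ).symm), Polynomial.map_zero] at hb
    exact (smul_eq_zero.1 hb.symm).resolve_left (nonZeroDivisors.ne_zero b.2)
  haveI := h
  haveI : IsNoetherian S (integralClosure S L) := isNoetherian_of_isNoetherianRing_of_finite _ _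
  have hint : ∀ c : integralClosure R K, IsIntegral S (γ c.1) := fun c => by
    obtain ⟨p, hp, hp0⟩ := c.2
    refine ⟨p.map ((algebraMap (Polynomial R) S).comp Polynomial.C), hp.map _, ?_⟩
    have h2 : (algebraMap S L).comp ((algebraMap (Polynomial R) S).comp Polynomial.C) = γ.comp (algebraMap R K) :=
      RingHom.ext fun r => (hγ r).symm
    rw [Polynomial.eval₂_map, h2, ← Polynomial.hom_eval₂, hp0, map_zero]
  let Φ : Submodule R (integralClosure R K) → Submodule S (integralClosure S L) := fun N =>
    Submodule.span S ((fun c => (⟨γ c.1, hint c⟩ : integralClosure S L)) '' N)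
  have hΦ : ∀ N c, (⟨γ c.1, hint c⟩ : integralClosure S L) ∈ Φ N → c ∈ N := by
    intro N c hc
    suffices H : ∀ y ∈ Φ N, ∃ (k : ℕ) (P : Polynomial K),
        (∀ i, ∃ n ∈ N, P.coeff i = n.1) ∧ φ (Polynomial.X ^ k) * y.1 = β P by
      obtain ⟨k, P, hP, hPk⟩ := H _ hc
      obtain ⟨n, hn, hn'⟩ := hP k
      have h3 : P = Polynomial.X ^ k * Polynomial.C c.1 := hβ (by
        rw [← hPk]; simp only [map_mul, map_pow, hβX, hβC])
      rw [h3, Polynomial.coeff_X_pow_mul', if_pos le_rfl, Nat.sub_self, Polynomial.coeff_C_zero] at hn'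
      rwa [Subtype.ext hn']
    intro y hy
    induction hy using Submodule.span_induction with
    | mem y hy =>
      obtain ⟨n, hn, rfl⟩ := hy
      refine ⟨0, Polynomial.C n.1, fun i => ?_, by rw [pow_zero, map_one, one_mul, hβC]⟩
      rcases eq_or_ne i 0 with rfl | hi
      · exact ⟨n, hn, Polynomial.coeff_C_zero⟩
      · exact ⟨0, zero_mem _, by rw [Polynomial.coeff_C, if_neg hi]; rfl⟩
    | zero => exact ⟨0, 0, fun i => ⟨0, zero_mem _, by simp⟩, by simp⟩
    | add a b _ _ ha hb =>
      obtain ⟨k, P, hP, hPk⟩ := ha
      obtain ⟨l, Q, hQ, hQl⟩ := hb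
      refine ⟨k + l, Polynomial.X ^ l * P + Polynomial.X ^ k * Q, fun i => ?_, ?_⟩
      · have hx : ∀ (j : ℕ) (T : Polynomial K), (∀ i, ∃ n ∈ N, T.coeff i = n.1) →
            ∃ n ∈ N, (Polynomial.X ^ j * T).coeff i = n.1 := fun j T hT => by
          rw [Polynomial.coeff_X_pow_mul']
          split_ifs
          · exact hT _
          · exact ⟨0, zero_mem _, rfl⟩
        obtain ⟨n, hn, hn'⟩ := hx l P hP
        obtain ⟨m, hm, hm'⟩ := hx k Q hQ
        exact ⟨n + m, add_mem hn hm, by rw [Polynomial.coeff_add, hn', hm']; rfl⟩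
      · show φ (Polynomial.X ^ (k + l)) * (a.1 + b.1) = _
        rw [map_add, map_mul, map_mul, map_pow, map_pow, map_pow, hβX, ← hPk, ← hQl, pow_add, map_pow, map_pow]
        ring
    | smul s a _ ha =>
      obtain ⟨k, P, hP, hPk⟩ := ha
      obtain ⟨⟨r, ⟨_, j, rfl⟩⟩, hr⟩ := IsLocalization.surj (Submonoid.powers (Polynomial.X : Polynomial R)) s
      refine ⟨k + j, r.map (algebraMap R K) * P, fun i => ?_, ?_⟩
      · choose n hn hn' using hP
        refine ⟨∑ x ∈ Finset.antidiagonal i, r.coeff x.1 • n x.2, sum_mem fun x _ => Submodule.smul_mem _ _ (hn _), ?_⟩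
        rw [Polynomial.coeff_mul, AddSubmonoidClass.coe_finsetSum]
        refine Finset.sum_congr rfl fun x _ => ?_
        rw [Polynomial.coeff_map, hn']
        exact (Algebra.smul_def _ _).symm
      · show φ (Polynomial.X ^ (k + j)) * (s • a.1) = _
        rw [map_mul, hβmap, ← hPk, Algebra.smul_def, pow_add, map_mul]
        have h4 : algebraMap S L s * φ (Polynomial.X ^ j) = φ r := by
          simp only [φ, RingHom.comp_apply, ← map_mul]
          exact congrArg _ hr
        rw [← h4]
        ring
  have hmono : StrictMono Φ := fun N N' hlt => by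
    refine lt_of_le_of_ne (Submodule.span_mono (Set.image_mono hlt.le)) fun heq => hlt.not_ge fun c hc => ?_
    exact hΦ N c (heq ▸ Submodule.subset_span ⟨c, hc, rfl⟩)
  haveI : WellFoundedGT (Submodule R (integralClosure R K)) := hmono.wellFoundedGT
  haveI : IsNoetherian R (integralClosure R K) := isNoetherian_mk (inferInstance : WellFoundedGT _)
  exact inferInstanceAs (Module.Finite R (integralClosure R K))

theorem isN1_of_isN1_laurent {R : Type u} [CommRing R] [IsDomain R] [IsNoetherianRing R]
    (S : Type u) [CommRing S] [IsDomain S] [Algebra (Polynomial R) S]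
    [IsLocalization.Away (Polynomial.X : Polynomial R) S] (h : CAlg.IsN1 S) : CAlg.IsN1 R :=
  finite_integralClosure_of_laurent (K := FractionRing R) (L := FractionRing S) S h

end GrothLib.N2
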