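import Groth.Agent.Lib.N2.AdjoinN1
import Groth.Agent.Lib.N2.Poly
import Groth.Agent.Lib.N2.UnivJap

/-!
Algebras of finite type over Nagata rings are Nagata.
-/

set_option autoImplicit false
set_option linter.style.haveILetI false

namespace GrothLib.N2

universe u

/-- A domain generated by one element over a Nagata domain is N-2. -/
theorem isN2_of_adjoin_eq_top {A T : Type u} [CommRing A] [IsDomain A] (hA : CAlg.IsNagata A) [CommRing T]
    [IsDomain T] [Algebra A T] (hinj : Function.Injective (algebraMap A T)) (x : T)
    (hx : Algebra.adjoin A ({x} : Set T) = ⊤) : CAlg.IsN2 T := by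
  classical
  haveI := hA.1
  have hxT : ∀ t : T, ∃ p : Polynomial A, Polynomial.aeval x p = t := fun t => by
    have ht : t ∈ Algebra.adjoin A ({x} : Set T) := hx ▸ Algebra.mem_top
    rw [Algebra.adjoin_singleton_eq_range_aeval] at ht
    exact ht
  by_cases htr : Transcendental A x
  · exact isN2_of_ringEquiv
      (RingEquiv.ofBijective (Polynomial.aeval (R := A) x).toRingHom ⟨transcendental_iff_injective.1 htr, hxT⟩)
      (isN2_polynomial (isN2_of_isNagata hA))
  have halg : IsAlgebraic A x := not_not.1 htr
  haveI : Algebra.FiniteType A T := ⟨⟨{x}, by rw [Finset.coe_singleton, hx]⟩⟩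
  haveI : IsNoetherianRing T := Algebra.FiniteType.isNoetherianRing A T
  intro L _ _ _ _ hL
  haveI := hL
  let FT := FractionRing T
  letI : Algebra A L := ((algebraMap T L).comp (algebraMap A T)).toAlgebra
  haveI : IsScalarTower A T L := IsScalarTower.of_algebraMap_eq fun _ => rfl
  have hTL : Function.Injective (algebraMap T L) := by
    rw [IsScalarTower.algebraMap_eq T FT L]
    exact (algebraMap FT L).injective.comp (IsFractionRing.injective T FT)
  have hAL : Function.Injective (algebraMap A L) := by
    rw [IsScalarTower.algebraMap_eq A T L]; exact hTL.comp hinj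
  have hAF : Function.Injective (algebraMap A FT) := by
    rw [IsScalarTower.algebraMap_eq A T FT]; exact (IsFractionRing.injective T FT).comp hinj
  let K := FractionRing A
  letI : Algebra K FT := (IsFractionRing.lift hAF).toAlgebra
  haveI : IsScalarTower A K FT := IsScalarTower.of_algebraMap_eq fun c => (IsFractionRing.lift_algebraMap hAF c).symm
  letI : Algebra K L := ((algebraMap FT L).comp (algebraMap K FT)).toAlgebra
  haveI : IsScalarTower K FT L := IsScalarTower.of_algebraMap_eq fun _ => rfl
  haveI : IsScalarTower A K L := IsScalarTower.of_algebraMap_eq fun c => by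
    show algebraMap T L (algebraMap A T c) = algebraMap FT L (algebraMap K FT (algebraMap A K c))
    rw [← IsScalarTower.algebraMap_apply A K FT, IsScalarTower.algebraMap_apply A T FT,
      ← IsScalarTower.algebraMap_apply T FT L]
  have hxint : IsIntegral K (algebraMap T FT x) := by
    obtain ⟨p, hp, hp0⟩ := halg
    refine isAlgebraic_iff_isIntegral.1 ⟨p.map (algebraMap A K),
      (Polynomial.map_ne_zero_iff (IsFractionRing.injective A K)).2 hp, ?_⟩
    rw [Polynomial.aeval_map_algebraMap, Polynomial.aeval_algebraMap_apply, hp0, map_zero]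
  haveI : Algebra.IsIntegral K FT := ⟨fun z => by
    have hT : ∀ t : T, IsIntegral K (algebraMap T FT t) := fun t => by
      obtain ⟨p, rfl⟩ := hxT t
      rw [← Polynomial.aeval_algebraMap_apply, ← Polynomial.aeval_map_algebraMap K]
      exact adjoin_le_integralClosure hxint (Polynomial.aeval_mem_adjoin_singleton K _)
    obtain ⟨c, d, -, rfl⟩ := IsFractionRing.div_surjective T z
    rw [div_eq_mul_inv]
    exact (hT c).mul (hT d).inv⟩
  haveI : Algebra.EssFiniteType T FT := Algebra.EssFiniteType.of_isLocalization _ (nonZeroDivisors T)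
  haveI : Algebra.EssFiniteType A FT := Algebra.EssFiniteType.comp A T FT
  haveI : Algebra.EssFiniteType K FT := Algebra.EssFiniteType.of_comp A K FT
  haveI : FiniteDimensional K FT := Algebra.finite_of_essFiniteType_of_isAlgebraic
  haveI : FiniteDimensional K L := Module.Finite.trans FT L
  let A' := integralClosure A L
  haveI hA'fin : Module.Finite A A' := finite_of_isN2 (K := K) (isN2_of_isNagata hA) L
  have hA' : CAlg.IsNagata A' := isNagata_of_finite hA
  haveI := hA'.1
  haveI : IsIntegrallyClosed A' := integralClosure.isIntegrallyClosedOfFiniteExtension K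
  haveI : IsFractionRing A' L := integralClosure.isFractionRing_of_finite_extension K L
  let xL := algebraMap T L x
  let T' := Algebra.adjoin A' ({xL} : Set L)
  have hT' : ∀ t : T, algebraMap T L t ∈ T' := fun t => by
    obtain ⟨p, rfl⟩ := hxT t
    rw [← Polynomial.aeval_algebraMap_apply, ← Polynomial.aeval_map_algebraMap A']
    exact Polynomial.aeval_mem_adjoin_singleton _ _
  let j : T →+* T' := (algebraMap T L).codRestrict T' hT'
  letI : Algebra T T' := j.toAlgebra
  haveI : IsScalarTower T T' L := IsScalarTower.of_algebraMap_eq fun _ => rfl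
  haveI : IsScalarTower A T T' := IsScalarTower.of_algebraMap_eq fun c => Subtype.ext (by
    show algebraMap A' L (algebraMap A A' c) = algebraMap T L (algebraMap A T c)
    rw [← IsScalarTower.algebraMap_apply, ← IsScalarTower.algebraMap_apply])
  haveI : Algebra.FiniteType A' T' :=
    (Subalgebra.fg_iff_finiteType _).1 (Subalgebra.fg_def.2 ⟨{xL}, Set.finite_singleton xL, rfl⟩)
  haveI : Algebra.FiniteType A T' := Algebra.FiniteType.trans (R := A) (S := A') inferInstance inferInstance
  haveI : Algebra.FiniteType T T' := Algebra.FiniteType.of_restrictScalars_finiteType A T T'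
  haveI : Algebra.IsIntegral T T' := ⟨fun w => by
    obtain ⟨w, hw⟩ := w
    induction hw using Algebra.adjoin_induction with
    | mem z hz =>
      obtain rfl := Set.mem_singleton_iff.1 hz
      exact (isIntegral_algebraMap : IsIntegral T (algebraMap T T' x))
    | algebraMap r =>
      exact ((Algebra.IsIntegral.isIntegral (R := A) r).map (IsScalarTower.toAlgHom A A' T')).tower_top
    | add u v _ _ hu hv => exact hu.add hv
    | mul u v _ _ hu hv => exact hu.mul hv⟩
  haveI : Module.Finite T T' := Algebra.IsIntegral.finite
  haveI : Module.Finite T' (integralClosure T' L) := finite_integralClosure_adjoin hA' xL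
  haveI : Module.Finite T (integralClosure T' L) := Module.Finite.trans T' _
  let f : integralClosure T' L →ₗ[T] integralClosure T L :=
    { toFun := fun y => ⟨y.1, isIntegral_trans (R := T) (A := T') y.1 y.2⟩
      map_add' := fun _ _ => rfl
      map_smul' := fun c y => Subtype.ext rfl }
  exact Module.Finite.of_surjective f fun y => ⟨⟨y.1, y.2.tower_top⟩, Subtype.ext rfl⟩

theorem isNagata_polynomial {A : Type u} [CommRing A] (hA : CAlg.IsNagata A) : CAlg.IsNagata (Polynomial A) := by
  haveI := hA.1
  refine ⟨inferInstance, fun P _ => ?_⟩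
  let p := P.comap (Polynomial.C : A →+* Polynomial A)
  let D := A ⧸ p
  have hD : CAlg.IsNagata D := by
    haveI : Module.Finite A D := Module.Finite.of_surjective (Algebra.linearMap A D) Ideal.Quotient.mk_surjective
    exact isNagata_of_finite hA
  letI : Algebra D (Polynomial A ⧸ P) := (Ideal.quotientMap P Polynomial.C le_rfl).toAlgebra
  refine isN2_of_adjoin_eq_top hD Ideal.quotientMap_injective (Ideal.Quotient.mk P Polynomial.X) ?_
  refine eq_top_iff.2 fun t _ => ?_
  obtain ⟨q, rfl⟩ := Ideal.Quotient.mk_surjective t
  induction q using Polynomial.induction_on' with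
  | add a b ha hb => rw [map_add]; exact add_mem (ha trivial) (hb trivial)
  | monomial n c =>
    rw [← Polynomial.C_mul_X_pow_eq_monomial, map_mul, map_pow]
    exact mul_mem (Subalgebra.algebraMap_mem _ (Ideal.Quotient.mk p c))
      (pow_mem (Algebra.self_mem_adjoin_singleton D _) n)

theorem isNagata_of_surjective {A B : Type u} [CommRing A] [CommRing B] (f : A →+* B) (hf : Function.Surjective f)
    (hA : CAlg.IsNagata A) : CAlg.IsNagata B := by
  letI : Algebra A B := f.toAlgebra
  haveI : Module.Finite A B := Module.Finite.of_surjective (Algebra.linearMap A B) hf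
  exact isNagata_of_finite hA

theorem isNagata_mvPolynomial {A : Type u} [CommRing A] (hA : CAlg.IsNagata A) :
    ∀ n : ℕ, CAlg.IsNagata (MvPolynomial (Fin n) A)
  | 0 => isNagata_of_surjective (MvPolynomial.isEmptyAlgEquiv A (Fin 0)).symm.toRingEquiv.toRingHom
      (MvPolynomial.isEmptyAlgEquiv A (Fin 0)).symm.surjective hA
  | n + 1 => isNagata_of_surjective (MvPolynomial.finSuccEquiv A n).symm.toRingEquiv.toRingHom
      (MvPolynomial.finSuccEquiv A n).symm.surjective (isNagata_polynomial (isNagata_mvPolynomial hA n))

/-- Algebras of finite type over Nagata rings are Nagata. -/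
theorem isNagata_of_finiteType {R : Type u} [CommRing R] (hR : CAlg.IsNagata R) (S : Type u) [CommRing S]
    [Algebra R S] [h : Algebra.FiniteType R S] : CAlg.IsNagata S := by
  obtain ⟨n, f, hf⟩ := Algebra.FiniteType.iff_quotient_mvPolynomial''.1 h
  exact isNagata_of_surjective f.toRingHom hf (isNagata_mvPolynomial hR n)

theorem isUniversallyJapanese_of_isNagata {R : Type u} [CommRing R] (hR : CAlg.IsNagata R) :
    CAlg.IsUniversallyJapanese R := fun S _ _ _ hS => by
  haveI := hS
  exact isN2_of_isNagata (isNagata_of_finiteType hR S)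

end GrothLib.N2
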