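import Groth.Agent.Lib.N2.Basic
import Groth.Agent.Lib.AdicExtra.Complete
import Mathlib.RingTheory.Ideal.Quotient.Operations
import Mathlib.RingTheory.Localization.Module

/-!
Tate's criterion: a normal Noetherian domain `R`, complete along a prime element `x`, with `R/xR` N-2, is N-2.
-/

set_option autoImplicit false

namespace GrothLib.N2

universe u

/-- `IsN2` transfers along ring isomorphisms. -/
theorem isN2_of_ringEquiv {A B : Type u} [CommRing A] [IsDomain A] [CommRing B] [IsDomain B] (e : A ≃+* B)
    (h : CAlg.IsN2 A) : CAlg.IsN2 B := by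
  intro L _ _ _ _ hL
  let eK : FractionRing A ≃+* FractionRing B := IsFractionRing.ringEquivOfRingEquiv e
  letI : Algebra A L := ((algebraMap B L).comp e.toRingHom).toAlgebra
  letI : Algebra (FractionRing A) L := ((algebraMap (FractionRing B) L).comp eK.toRingHom).toAlgebra
  haveI : IsScalarTower A (FractionRing A) L := IsScalarTower.of_algebraMap_eq fun a => by
    show algebraMap B L (e a) = algebraMap (FractionRing B) L (eK (algebraMap A (FractionRing A) a))
    rw [IsFractionRing.ringEquivOfRingEquiv_algebraMap, ← IsScalarTower.algebraMap_apply]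
  haveI : FiniteDimensional (FractionRing A) L := by
    refine ⟨?_⟩
    obtain ⟨s, hs⟩ := hL.fg_top
    refine ⟨s, Submodule.eq_top_iff'.2 fun y => ?_⟩
    have hy : y ∈ Submodule.span (FractionRing B) (s : Set L) := hs ▸ Submodule.mem_top
    induction hy using Submodule.span_induction with
    | mem z hz => exact Submodule.subset_span hz
    | zero => exact zero_mem _
    | add p q _ _ hp hq => exact add_mem hp hq
    | smul c z _ hz =>
      have : c • z = eK.symm c • z := by
        rw [Algebra.smul_def, Algebra.smul_def]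
        show _ = algebraMap (FractionRing B) L (eK (eK.symm c)) * z
        rw [eK.apply_symm_apply]
      rw [this]
      exact Submodule.smul_mem _ _ hz
  obtain ⟨s, hs⟩ := (h L inferInstance).fg_top
  have hint : ∀ y : L, IsIntegral A y ↔ IsIntegral B y := fun y => by
    constructor
    · rintro ⟨p, hp, hy⟩
      exact ⟨p.map e.toRingHom, hp.map _, by rw [Polynomial.eval₂_map]; exact hy⟩
    · rintro ⟨p, hp, hy⟩
      refine ⟨p.map e.symm.toRingHom, hp.map _, ?_⟩
      rw [Polynomial.eval₂_map]
      convert hy using 2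
      ext b
      show algebraMap B L (e (e.symm b)) = _
      rw [e.apply_symm_apply]
  classical
  refine ⟨⟨s.image (fun y => (⟨y.1, (hint _).1 y.2⟩ : integralClosure B L)), Submodule.eq_top_iff'.2 fun y => ?_⟩⟩
  have hy : (⟨y.1, (hint _).2 y.2⟩ : integralClosure A L) ∈ Submodule.span A (s : Set (integralClosure A L)) :=
    hs ▸ Submodule.mem_top
  rw [Finset.coe_image]
  have key : ∀ z ∈ Submodule.span A (s : Set (integralClosure A L)), (⟨z.1, (hint _).1 z.2⟩ : integralClosure B L) ∈
      Submodule.span B ((fun y => (⟨y.1, (hint _).1 y.2⟩ : integralClosure B L)) '' (s : Set (integralClosure A L))) := by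
    intro z hz
    induction hz using Submodule.span_induction with
    | mem z hz => exact Submodule.subset_span ⟨z, hz, rfl⟩
    | zero => exact zero_mem _
    | add p q _ _ hp hq => exact add_mem hp hq
    | smul c z _ hz =>
      have := Submodule.smul_mem _ (e c) hz
      convert this using 1
      exact Subtype.ext ((Algebra.smul_def c z.1).trans (Algebra.smul_def (e c) z.1).symm)
  exact key _ hy

variable {R : Type u} [CommRing R] [IsDomain R] [IsNoetherianRing R] [IsIntegrallyClosed R]

/-- The key case of Tate's theorem: `L ^ q ⊆ K` and `L` contains a `q`-th root of `x`. -/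
theorem tate_finite (x : R) (hx0 : x ≠ 0) [(Ideal.span ({x} : Set R)).IsPrime]
    (h2 : CAlg.IsN2 (R ⧸ Ideal.span ({x} : Set R))) [IsAdicComplete (Ideal.span ({x} : Set R)) R]
    (L : Type u) [Field L] [Algebra R L] [Algebra (FractionRing R) L] [IsScalarTower R (FractionRing R) L]
    [FiniteDimensional (FractionRing R) L] (p e : ℕ) [ExpChar L p]
    (hq : ∀ a : L, a ^ p ^ e ∈ Set.range (algebraMap (FractionRing R) L))
    (y : L) (hy : y ^ p ^ e = algebraMap R L x) : Module.Finite R (integralClosure R L) := by
  classical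
  set q := p ^ e with hqdef
  set P := Ideal.span ({x} : Set R) with hP
  have hq0 : 0 < q := pow_pos (expChar_pos L p) e
  have hRL : Function.Injective (algebraMap R L) := by
    rw [IsScalarTower.algebraMap_eq R (FractionRing R) L]
    exact (algebraMap (FractionRing R) L).injective.comp (IsFractionRing.injective R _)
  haveI : FaithfulSMul R L := (faithfulSMul_iff_algebraMap_injective R L).2 hRL
  have hψ : ∀ s : integralClosure R L, ∃ r : R, algebraMap R L r = (s : L) ^ q := fun s => by
    obtain ⟨c, hc⟩ := hq s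
    have hci : IsIntegral R c := (isIntegral_algHom_iff (IsScalarTower.toAlgHom R (FractionRing R) L)
      (algebraMap (FractionRing R) L).injective).1 (by rw [IsScalarTower.toAlgHom_apply, hc]; exact IsIntegral.pow s.2 q)
    obtain ⟨r, rfl⟩ := IsIntegrallyClosed.isIntegral_iff.1 hci
    exact ⟨r, by rw [← hc, ← IsScalarTower.algebraMap_apply]⟩
  choose ψ hψ using hψ
  have hmemS : ∀ (a : L) (r : R), algebraMap R L r = a ^ q → a ∈ integralClosure R L := fun a r h =>
    IsIntegral.of_pow hq0 (h ▸ isIntegral_algebraMap)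
  let Y : integralClosure R L := ⟨y, hmemS y x hy.symm⟩
  have hYne : Y ≠ 0 := fun h => by
    have h0 : y = 0 := congrArg Subtype.val h
    rw [h0, zero_pow hq0.ne'] at hy
    exact hx0 (hRL (by rw [← hy, map_zero]))
  let Q : Ideal (integralClosure R L) := Ideal.span {Y}
  have hψeq : ∀ (s : integralClosure R L) (r : R), algebraMap R L r = (s : L) ^ q → ψ s = r := fun s r h => hRL ((hψ s).trans h.symm)
  have hQ : ∀ s, s ∈ Q ↔ ψ s ∈ P := fun s => by
    constructor
    · intro hs
      obtain ⟨t, rfl⟩ := Ideal.mem_span_singleton.1 hs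
      rw [hψeq (Y * t) (x * ψ t) (by rw [map_mul, hψ]; simp [Y, mul_pow, hy])]
      exact Ideal.mul_mem_right _ _ (Ideal.subset_span rfl)
    · intro hs
      obtain ⟨r, hr⟩ := Ideal.mem_span_singleton.1 hs
      have hy0 : y ≠ 0 := fun h => hYne (Subtype.ext h)
      have ht : algebraMap R L r = ((s : L) / y) ^ q := by
        rw [div_pow, hy, ← hψ, hr, map_mul, mul_div_cancel_left₀]
        exact (map_ne_zero_iff _ hRL).2 hx0
      refine Ideal.mem_span_singleton.2 ⟨⟨_, hmemS _ r ht⟩, Subtype.ext ?_⟩
      show (s : L) = y * ((s : L) / y)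
      rw [mul_div_cancel₀ _ hy0]
  haveI hQprime : Q.IsPrime := by
    refine ⟨fun htop => ?_, fun {a b} hab => ?_⟩
    · have := (hQ 1).1 (htop ▸ Submodule.mem_top)
      rw [hψeq 1 1 (by simp)] at this
      exact Ideal.IsPrime.ne_top (I := P) inferInstance ((Ideal.eq_top_iff_one _).2 this)
    · rw [hQ] at hab
      rw [hQ, hQ]
      rw [hψeq (a * b) (ψ a * ψ b) (by rw [map_mul, hψ, hψ]; simp [mul_pow])] at hab
      exact Ideal.IsPrime.mem_or_mem inferInstance hab
  have hcomap : ∀ r : R, algebraMap R (integralClosure R L) r ∈ Q ↔ r ∈ P := fun r => by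
    rw [hQ, hψeq _ (r ^ q) (by rw [map_pow]; rfl)]
    exact ⟨Ideal.IsPrime.mem_of_pow_mem inferInstance q, fun h => Ideal.pow_mem_of_mem _ h q hq0⟩
  haveI : Q.LiesOver P := ⟨by ext r; rw [Ideal.under_def, Ideal.mem_comap, hcomap]⟩
  let S := integralClosure R L
  let κ := FractionRing (R ⧸ P)
  let F := FractionRing (S ⧸ Q)
  letI : Algebra κ F := FractionRing.liftAlgebra (R ⧸ P) F
  haveI : Algebra.IsIntegral R S := ⟨fun s => (isIntegral_algHom_iff S.val Subtype.val_injective).1 s.2⟩
  haveI hintQ : Algebra.IsIntegral (R ⧸ P) (S ⧸ Q) := ⟨fun t => by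
    obtain ⟨s, rfl⟩ := Ideal.Quotient.mk_surjective t
    exact ((Algebra.IsIntegral.isIntegral (R := R) s).map (Ideal.Quotient.mkₐ R Q)).tower_top⟩
  let T : Set F := Set.range (algebraMap (S ⧸ Q) F)
  -- independent families in `S ⧸ Q` lift to `K`-independent families
  have hcard : ∀ v : Finset F, (v : Set F) ⊆ T → LinearIndependent κ (fun i : v => (i : F)) →
      v.card ≤ Module.finrank (FractionRing R) L := by
    intro v hv hli
    choose t ht using fun i : v => hv i.2
    choose s hs using fun i : v => Ideal.Quotient.mk_surjective (t i)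
    have hliP : LinearIndependent (R ⧸ P) (fun i : v => (i : F)) := (LinearIndependent.iff_fractionRing (R ⧸ P) κ).2 hli
    have hstep : ∀ (m : ℕ) (a : v → R), ∑ i, a i • (s i : L) = 0 → ∀ i, a i ∈ P ^ m := by
      intro m
      induction m with
      | zero => intro a _ i; simp
      | succ m ih =>
        intro a ha
        have ha' : ∑ i, a i • s i = 0 := Subtype.ext (by simpa using ha)
        have h0 : ∀ i, a i ∈ P := by
          have h1 := congrArg (fun z => algebraMap (S ⧸ Q) F (Ideal.Quotient.mk Q z)) ha'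
          simp only [map_sum, map_zero, Algebra.smul_def, map_mul, hs, ht] at h1
          have h2 := Fintype.linearIndependent_iff.1 hliP (fun i => Ideal.Quotient.mk P (a i)) (by
            rw [← h1]
            refine Finset.sum_congr rfl fun i _ => ?_
            rw [Algebra.smul_def, IsScalarTower.algebraMap_apply (R ⧸ P) (S ⧸ Q) F]
            rfl)
          exact fun i => Ideal.Quotient.eq_zero_iff_mem.1 (h2 i)
        choose b hb using fun i => Ideal.mem_span_singleton.1 (h0 i)
        have hb0 : ∑ i, b i • (s i : L) = 0 := by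
          have : algebraMap R L x * ∑ i, b i • (s i : L) = 0 := by
            rw [Finset.mul_sum, ← ha]
            refine Finset.sum_congr rfl fun i _ => ?_
            rw [hb, Algebra.smul_def, Algebra.smul_def, map_mul, mul_assoc]
          exact (mul_eq_zero.1 this).resolve_left ((map_ne_zero_iff _ hRL).2 hx0)
        intro i
        rw [hb, pow_succ']
        exact Ideal.mul_mem_mul (Ideal.subset_span rfl) (ih b hb0 i)
    have hliR : LinearIndependent R (fun i : v => (s i : L)) := Fintype.linearIndependent_iff.2 fun a ha i =>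
      IsHausdorff.haus (inferInstance : IsHausdorff P R) _ fun m => by
        rw [SModEq.zero, smul_eq_mul, Ideal.mul_top]
        exact hstep m a ha i
    have := ((LinearIndependent.iff_fractionRing R (FractionRing R)).1 hliR).fintype_card_le_finrank
    simpa using this
  have hfin : FiniteDimensional κ F := by
    obtain ⟨b, hbT, hbspan, hbli⟩ := exists_linearIndependent κ T
    have hbfin : b.Finite := by
      by_contra hinf
      obtain ⟨v, hvb, hvc⟩ := Set.Infinite.exists_subset_card_eq hinf (Module.finrank (FractionRing R) L + 1)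
      have := hcard v (hvb.trans hbT) (hbli.comp (fun i : v => (⟨i.1, hvb i.2⟩ : b)) fun i j h => Subtype.ext (congrArg Subtype.val h :))
      omega
    -- the span of the image of `S ⧸ Q` is a field, hence everything
    haveI : Algebra.IsAlgebraic (R ⧸ P) (S ⧸ Q) := inferInstance
    have htop : Submodule.span κ T = ⊤ := by
      refine Submodule.eq_top_iff'.2 fun z => ?_
      obtain ⟨a, d, hd, rfl⟩ := IsFractionRing.div_surjective (A := S ⧸ Q) z
      obtain ⟨r, hr0, hr⟩ := (Algebra.IsAlgebraic.isAlgebraic (R := R ⧸ P) d).exists_nonzero_dvd hd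
      obtain ⟨c, hc⟩ := hr
      have hd0 : algebraMap (S ⧸ Q) F d ≠ 0 := IsFractionRing.to_map_ne_zero_of_mem_nonZeroDivisors hd
      have heq : algebraMap (S ⧸ Q) F a / algebraMap (S ⧸ Q) F d =
          (algebraMap (R ⧸ P) κ r)⁻¹ • algebraMap (S ⧸ Q) F (a * c) := by
        have hr' : algebraMap κ F (algebraMap (R ⧸ P) κ r) = algebraMap (S ⧸ Q) F d * algebraMap (S ⧸ Q) F c := by
          rw [← IsScalarTower.algebraMap_apply, IsScalarTower.algebraMap_apply (R ⧸ P) (S ⧸ Q) F, hc, map_mul]
        have hrne : algebraMap (R ⧸ P) κ r ≠ 0 := (map_ne_zero_iff _ (IsFractionRing.injective (R ⧸ P) κ)).2 hr0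
        have hne : algebraMap κ F (algebraMap (R ⧸ P) κ r) ≠ 0 := (map_ne_zero _).2 hrne
        have hc0 : algebraMap (S ⧸ Q) F c ≠ 0 := fun h => hne (by rw [hr', h, mul_zero])
        rw [Algebra.smul_def, map_inv₀, hr', map_mul]
        rw [eq_comm, inv_mul_eq_div, div_eq_div_iff (mul_ne_zero hd0 hc0) hd0]
        ring
      rw [heq]
      exact Submodule.smul_mem _ _ (Submodule.subset_span ⟨_, rfl⟩)
    exact Module.Finite.of_fg (N := (⊤ : Submodule κ F)) (htop ▸ hbspan ▸ Submodule.fg_span hbfin) |>.equiv Submodule.topEquiv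
  have hSQ : Module.Finite R (S ⧸ Q) := by
    haveI : Module.Finite (R ⧸ P) (integralClosure (R ⧸ P) F) := h2 F hfin
    let ι : (S ⧸ Q) →ₐ[R ⧸ P] integralClosure (R ⧸ P) F :=
      (IsScalarTower.toAlgHom (R ⧸ P) (S ⧸ Q) F).codRestrict _ fun t =>
        (Algebra.IsIntegral.isIntegral (R := R ⧸ P) t).map _
    haveI : Module.Finite (R ⧸ P) (S ⧸ Q) := Module.Finite.of_injective ι.toLinearMap fun a b h =>
      IsFractionRing.injective (S ⧸ Q) F (congrArg Subtype.val h :)
    exact Module.Finite.trans (R ⧸ P) (S ⧸ Q)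
  -- filtration by powers of `Y`
  let U : ℕ → Submodule R S := fun j => (Ideal.span {Y ^ j}).restrictScalars R
  have hfil : ∀ j, Module.Finite R (S ⧸ U j) := by
    intro j
    induction j with
    | zero =>
      haveI : Subsingleton (S ⧸ U 0) := Submodule.Quotient.subsingleton_iff.2 (by simp [U])
      exact Module.Finite.of_finite
    | succ j ih =>
      haveI : Module.Finite R (S ⧸ Q.restrictScalars R) :=
        Module.Finite.equiv ((Submodule.Quotient.restrictScalarsEquiv R Q).restrictScalars R).symm
      let mulY : S →ₗ[R] S := LinearMap.mulLeft R (Y ^ j)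
      let f : (S ⧸ Q.restrictScalars R) →ₗ[R] (S ⧸ U (j + 1)) := Submodule.mapQ _ _ mulY (fun t ht => by
        obtain ⟨c, rfl⟩ := Ideal.mem_span_singleton.1 ht
        exact Ideal.mem_span_singleton.2 ⟨c, by simp [mulY, pow_succ, mul_assoc]⟩)
      let g : (S ⧸ U (j + 1)) →ₗ[R] (S ⧸ U j) := Submodule.mapQ _ _ LinearMap.id (fun t ht => by
        exact Ideal.mem_span_singleton.2 ((pow_dvd_pow Y (Nat.le_succ j)).trans (Ideal.mem_span_singleton.1 ht)))
      refine Module.Finite.of_exact (f := f) (g := g) (fun z => ⟨fun hz => ?_, ?_⟩) fun z => ?_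
      · obtain ⟨t, rfl⟩ := Submodule.mkQ_surjective _ z
        obtain ⟨c, hc⟩ := Ideal.mem_span_singleton.1 ((Submodule.Quotient.mk_eq_zero _).1 hz)
        exact ⟨Submodule.Quotient.mk c, by rw [Submodule.mapQ_apply]; exact congrArg _ hc.symm⟩
      · rintro ⟨w, rfl⟩
        obtain ⟨t, rfl⟩ := Submodule.mkQ_surjective _ w
        exact (Submodule.Quotient.mk_eq_zero _).2 (Ideal.mem_span_singleton.2 ⟨t, rfl⟩)
      · obtain ⟨t, rfl⟩ := Submodule.mkQ_surjective _ z
        exact ⟨Submodule.Quotient.mk t, rfl⟩
  have hxY : algebraMap R S x = Y ^ q := Subtype.ext (by simp [Y, hy])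
  have hPS : (P • ⊤ : Submodule R S) = U q := by
    rw [hP, Submodule.ideal_span_singleton_smul]
    ext z
    simp only [Submodule.mem_smul_pointwise_iff_exists, Submodule.mem_top, true_and, U, Submodule.restrictScalars_mem,
      Ideal.mem_span_singleton]
    constructor
    · rintro ⟨t, rfl⟩; exact ⟨t, by rw [Algebra.smul_def, hxY]⟩
    · rintro ⟨t, rfl⟩; exact ⟨t, by rw [Algebra.smul_def, hxY]⟩
  haveI : IsHausdorff P S := ⟨fun s hs => by
    have hdiv : ∀ n, ψ s ∈ P ^ n := fun n => by
      have := hs n
      rw [SModEq.zero, hP, Ideal.span_singleton_pow, Submodule.ideal_span_singleton_smul,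
        Submodule.mem_smul_pointwise_iff_exists] at this
      obtain ⟨t, -, rfl⟩ := this
      rw [hψeq (x ^ n • t) ((x ^ n) ^ q * ψ t) (by rw [map_mul, map_pow, hψ]; simp [Algebra.smul_def, mul_pow])]
      refine Ideal.mul_mem_right _ _ ?_
      rw [hP, Ideal.span_singleton_pow, Ideal.mem_span_singleton]
      exact dvd_pow_self _ hq0.ne'
    have h0 : ψ s = 0 := IsHausdorff.haus (inferInstance : IsHausdorff P R) _ fun n => by
      rw [SModEq.zero, smul_eq_mul, Ideal.mul_top]; exact hdiv n
    have := hψ s
    rw [h0, map_zero] at this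
    exact Subtype.ext ((pow_eq_zero_iff hq0.ne').1 this.symm)⟩
  exact GrothLib.AdicExtra.finite_of_quotient_finite (I := P) (hPS ▸ hfil q)

theorem isN2_tate (x : R) [(Ideal.span ({x} : Set R)).IsPrime]
    (h2 : CAlg.IsN2 (R ⧸ Ideal.span ({x} : Set R))) [IsAdicComplete (Ideal.span ({x} : Set R)) R] :
    CAlg.IsN2 R := by
  by_cases hx0 : x = 0
  · exact isN2_of_ringEquiv ((Ideal.quotEquivOfEq (by rw [hx0, Ideal.span_singleton_eq_bot])).trans
      (RingEquiv.quotientBot R)) h2
  refine isN2_of_purelyInseparable fun K' _ _ _ _ hfin hpi => ?_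
  let K := FractionRing R
  obtain ⟨p, hp⟩ := ExpChar.exists K
  rcases hp with _ | hpr
  · -- characteristic zero
    haveI : Algebra.IsSeparable K K' := Algebra.IsAlgebraic.isSeparable_of_perfectField
    exact finite_of_separable K'
  haveI := Fact.mk hpr
  obtain ⟨n, hn⟩ := (IsPurelyInseparable.hasExponent_iff' K K' p).1 inferInstance
  haveI : ExpChar K p := ExpChar.prime hpr
  haveI : ExpChar K' p := expChar_of_injective_algebraMap (algebraMap K K').injective p
  let Ω := AlgebraicClosure K'
  haveI : ExpChar Ω p := expChar_of_injective_algebraMap (algebraMap K' Ω).injective p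
  obtain ⟨y, hy⟩ := IsAlgClosed.exists_pow_nat_eq (algebraMap R Ω x) (pow_pos hpr.pos n)
  let E : Subfield Ω :=
    { carrier := {a | a ^ p ^ n ∈ (algebraMap K Ω).fieldRange}
      mul_mem' := fun {a b} ha hb => by
        simp only [Set.mem_ofPred_eq, mul_pow] at ha hb ⊢
        exact mul_mem ha hb
      one_mem' := by simp
      add_mem' := fun {a b} ha hb => by
        simp only [Set.mem_ofPred_eq, add_pow_expChar_pow] at ha hb ⊢
        exact add_mem ha hb
      zero_mem' := by simp [zero_pow (pow_pos hpr.pos n).ne']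
      neg_mem' := fun {a} ha => by
        simp only [Set.mem_ofPred_eq] at ha ⊢
        rw [neg_pow]
        exact mul_mem (pow_mem (neg_mem (one_mem _)) _) ha
      inv_mem' := fun a ha => by
        simp only [Set.mem_ofPred_eq, inv_pow] at ha ⊢
        exact inv_mem ha }
  have hK'E : ∀ a : K', algebraMap K' Ω a ∈ E := fun a => by
    obtain ⟨c, hc⟩ := hn a
    exact ⟨c, by rw [← map_pow, ← hc, ← IsScalarTower.algebraMap_apply]⟩
  have hyi : IsIntegral K' y := (Algebra.IsAlgebraic.isAlgebraic y).isIntegral
  let L := IntermediateField.adjoin K' ({y} : Set Ω)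
  haveI : FiniteDimensional K' L := IntermediateField.adjoin.finiteDimensional hyi
  haveI : FiniteDimensional K L := FiniteDimensional.trans K K' L
  have hyE : y ∈ E := ⟨algebraMap R K x, by rw [hy, ← IsScalarTower.algebraMap_apply]⟩
  have hLE : ∀ a ∈ L, a ∈ E := fun a ha =>
    Subfield.closure_le.2 (Set.union_subset (by rintro _ ⟨c, rfl⟩; exact hK'E c) (by simpa using hyE)) ha
  haveI : ExpChar L p := expChar_of_injective_algebraMap (algebraMap K L).injective p
  have hLq : ∀ a : L, a ^ p ^ n ∈ Set.range (algebraMap K L) := fun a => by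
    obtain ⟨c, hc⟩ := hLE a a.2
    exact ⟨c, Subtype.ext (by simp [← hc]; rfl)⟩
  haveI : IsScalarTower R (FractionRing R) L := IsScalarTower.of_algebraMap_eq fun r =>
    Subtype.ext (IsScalarTower.algebraMap_apply R (FractionRing R) Ω r)
  have := tate_finite x hx0 h2 L p n hLq ⟨y, IntermediateField.mem_adjoin_simple_self K' y⟩ (Subtype.ext hy)
  exact finite_of_algHom (IsScalarTower.toAlgHom R K' L) this

end GrothLib.N2
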