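import Groth.Agent.Lib.N2.UnivJap
import Groth.Agent.Lib.N2.FiniteType
import Groth.Agent.Lib.N2.Tate
import Mathlib.AlgebraicGeometry.FunctionField

/-!
# Nagata, universally Japanese and N-2 are affine-local
-/

set_option autoImplicit false
universe u

open CategoryTheory AlgebraicGeometry TopologicalSpace

namespace GrothLib.N2

theorem isNagata_of_finiteType_alg {R : Type u} [CommRing R] (h : CAlg.IsNagata R) (S : Type u) [CommRing S]
    [Algebra R S] [Algebra.FiniteType R S] : CAlg.IsNagata S := by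
  haveI := h.1
  refine ⟨Algebra.FiniteType.isNoetherianRing R S, fun p _ => ?_⟩
  exact isUniversallyJapanese_of_isNagata h (S ⧸ p)
    (Algebra.FiniteType.of_surjective (Ideal.Quotient.mkₐ R p) Ideal.Quotient.mk_surjective)

theorem isNagata_of_ringEquiv' {R S : Type u} [CommRing R] [CommRing S] (e : R ≃+* S) (h : CAlg.IsNagata R) :
    CAlg.IsNagata S := by
  letI := e.toRingHom.toAlgebra
  haveI : Algebra.FiniteType R S := Algebra.FiniteType.of_surjective (Algebra.ofId R S) e.surjective
  exact isNagata_of_finiteType_alg h S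

theorem isUniversallyJapanese_of_ringEquiv' {R S : Type u} [CommRing R] [CommRing S] (e : R ≃+* S)
    (h : CAlg.IsUniversallyJapanese R) : CAlg.IsUniversallyJapanese S := by
  letI := e.toRingHom.toAlgebra
  haveI : Algebra.FiniteType R S := Algebra.FiniteType.of_surjective (Algebra.ofId R S) e.surjective
  exact isUniversallyJapanese_of_essFiniteType R h S

variable (X : Scheme.{u}) {ι : Type u} (U : ι → X.affineOpens) (hU : (⨆ i, (U i : X.Opens)) = ⊤)
  (V : X.affineOpens)

include hU

theorem isNagata_affineOpen (h : ∀ i, CAlg.IsNagata Γ(X, U i)) : CAlg.IsNagata Γ(X, V) := by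
  refine of_affine_open_cover (P := fun W : X.affineOpens => CAlg.IsNagata Γ(X, W)) U hU V ?_ ?_ h
  · intro W f hW
    haveI := W.2.isLocalization_basicOpen f
    haveI : Algebra.FiniteType Γ(X, W) Γ(X, X.basicOpen f) :=
      IsLocalization.finiteType_of_monoid_fg (Submonoid.powers f) _
    exact isNagata_of_finiteType_alg hW Γ(X, X.basicOpen f)
  · intro W s hs hW
    refine isNagata_of_span _ (fun f : s => (f : Γ(X, W))) (by rw [show Set.range (fun f : s => (f : Γ(X, W))) = (s : Set Γ(X, W)) from Subtype.range_coe]; exact hs) fun f => ?_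
    haveI := W.2.isLocalization_basicOpen f.1
    exact isNagata_of_ringEquiv' (IsLocalization.algEquiv (Submonoid.powers f.1)
      Γ(X, X.basicOpen f.1) (Localization.Away f.1)).toRingEquiv (hW f)

theorem isUniversallyJapanese_affineOpen (h : ∀ i, CAlg.IsUniversallyJapanese Γ(X, U i)) :
    CAlg.IsUniversallyJapanese Γ(X, V) := by
  refine of_affine_open_cover (P := fun W : X.affineOpens => CAlg.IsUniversallyJapanese Γ(X, W)) U hU V ?_ ?_ h
  · intro W f hW
    haveI := W.2.isLocalization_basicOpen f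
    haveI : Algebra.FiniteType Γ(X, W) Γ(X, X.basicOpen f) :=
      IsLocalization.finiteType_of_monoid_fg (Submonoid.powers f) _
    exact isUniversallyJapanese_of_essFiniteType _ hW Γ(X, X.basicOpen f)
  · intro W s hs hW
    refine isUniversallyJapanese_of_span _ (fun f : s => (f : Γ(X, W))) (by rw [show Set.range (fun f : s => (f : Γ(X, W))) = (s : Set Γ(X, W)) from Subtype.range_coe]; exact hs) fun f => ?_
    haveI := W.2.isLocalization_basicOpen f.1
    exact isUniversallyJapanese_of_ringEquiv' (IsLocalization.algEquiv (Submonoid.powers f.1)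
      Γ(X, X.basicOpen f.1) (Localization.Away f.1)).toRingEquiv (hW f)

theorem isN2_affineOpen [IsIntegral X] [Nonempty (V : X.Opens)]
    (h : ∀ (i) [Nonempty (U i : X.Opens)], CAlg.IsN2 Γ(X, U i)) : CAlg.IsN2 Γ(X, V) := by
  refine of_affine_open_cover
    (P := fun W : X.affineOpens => ∀ [Nonempty (W : X.Opens)], CAlg.IsN2 Γ(X, W)) U hU V ?_ ?_ h
  · intro W f hW hne
    haveI : Nonempty (W : X.Opens) := by
      obtain ⟨⟨x, hx⟩⟩ := hne
      exact ⟨⟨x, X.basicOpen_le f hx⟩⟩
    haveI := W.2.isLocalization_basicOpen f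
    haveI : Nonempty (X.basicOpen f) := hne
    exact isN2_of_isLocalization Γ(X, W) (Submonoid.powers f) Γ(X, X.basicOpen f) hW
  · intro W s hs hW hne
    classical
    let J := {f : s // (f : Γ(X, W)) ≠ 0}
    haveI : ∀ j : J, Nonempty (X.basicOpen (j.1 : Γ(X, W))) := fun j => by
      by_contra hemp
      refine j.2 ((basicOpen_eq_bot_iff (j.1 : Γ(X, W))).mp (eq_bot_iff.mpr fun z hz => ?_))
      exact (hemp ⟨⟨z, hz⟩⟩).elim
    haveI : ∀ j : J, IsLocalization.Away (j.1 : Γ(X, W)) Γ(X, X.basicOpen (j.1 : Γ(X, W))) :=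
      fun j => W.2.isLocalization_basicOpen _
    refine isN2_of_span (fun j : J => (j.1 : Γ(X, W))) ?_
      (fun j => Γ(X, X.basicOpen (j.1 : Γ(X, W)))) fun j => @hW j.1 (inferInstanceAs (Nonempty (X.basicOpen (j.1 : Γ(X, W)))))
    rw [eq_top_iff, ← hs, Ideal.span_le]
    intro f hf
    by_cases h0 : f = 0
    · rw [h0]; exact zero_mem _
    · exact Ideal.subset_span ⟨⟨⟨f, hf⟩, h0⟩, rfl⟩

end GrothLib.N2
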