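import Groth.Agent.Lib.N2.Tate
import Mathlib.RingTheory.Localization.Finiteness
import Mathlib.RingTheory.Localization.LocalizationLocalization
import Mathlib.RingTheory.EssentialFiniteness
import Mathlib.RingTheory.LocalProperties.Basic
import Mathlib.RingTheory.IntegralClosure.IsIntegralClosure.Basic

/-!
N-1 / N-2: localizations, covers by principal opens, universally Japanese rings.
-/

set_option autoImplicit false

namespace GrothLib.N2

universe u

/-- An algebra isomorphism identifies integral closures. -/
theorem finite_integralClosure_congr {R : Type u} [CommRing R] {A B : Type u} [CommRing A] [CommRing B]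
    [Algebra R A] [Algebra R B] (e : A ≃ₐ[R] B) (h : Module.Finite R (integralClosure R A)) :
    Module.Finite R (integralClosure R B) :=
  Module.Finite.equiv e.mapIntegralClosure.toLinearEquiv

theorem isN1_iff {R : Type u} [CommRing R] [IsDomain R] (K : Type u) [Field K] [Algebra R K] [IsFractionRing R K] :
    CAlg.IsN1 R ↔ Module.Finite R (integralClosure R K) :=
  ⟨fun h => finite_integralClosure_congr (FractionRing.algEquiv R K) h,
    fun h => finite_integralClosure_congr (FractionRing.algEquiv R K).symm h⟩

/-- Integral closures localize. -/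
theorem finite_integralClosure_of_isLocalization {R S L : Type u} [CommRing R] [CommRing S] [CommRing L]
    [Algebra R S] (M : Submonoid R) [IsLocalization M S] [Algebra R L] [Algebra S L] [IsScalarTower R S L]
    (h : Module.Finite R (integralClosure R L)) : Module.Finite S (integralClosure S L) := by
  classical
  obtain ⟨s, hs⟩ := h.fg_top
  let ι : integralClosure R L →ₗ[R] integralClosure S L :=
    { toFun := fun x => ⟨x.1, x.2.tower_top⟩
      map_add' := fun _ _ => rfl
      map_smul' := fun c x => Subtype.ext rfl }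
  refine ⟨⟨s.image ι, eq_top_iff.2 fun x _ => ?_⟩⟩
  obtain ⟨m, hm⟩ := IsIntegral.exists_multiple_integral_of_isLocalization (R := R) M x.1 x.2
  obtain ⟨u, hu⟩ := IsLocalization.map_units S m
  have hy : ι ⟨m • x.1, hm⟩ ∈ Submodule.span S ((s.image ι : Finset _) : Set (integralClosure S L)) := by
    rw [Finset.coe_image]
    refine Submodule.span_le_restrictScalars R S _ ?_
    rw [Submodule.span_image]
    exact Submodule.mem_map_of_mem (hs.symm ▸ trivial)
  have hx : x = (↑u⁻¹ : S) • ι ⟨m • x.1, hm⟩ := Subtype.ext (by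
    show x.1 = (↑u⁻¹ : S) • (m.1 • x.1)
    rw [← algebraMap_smul S m.1 x.1, smul_smul, ← hu, Units.inv_mul, one_smul])
  rw [hx]
  exact Submodule.smul_mem _ _ hy

theorem isN1_of_isLocalization (R : Type u) [CommRing R] [IsDomain R] (M : Submonoid R) (S : Type u)
    [CommRing S] [IsDomain S] [Algebra R S] [IsLocalization M S] (h : CAlg.IsN1 R) : CAlg.IsN1 S := by
  have hM : M ≤ nonZeroDivisors R := fun x hx => mem_nonZeroDivisors_of_ne_zero fun h0 => by
    have := IsLocalization.map_units S ⟨x, hx⟩
    simp [h0] at this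
  let K := FractionRing R
  have hu : ∀ y : M, IsUnit (algebraMap R K y) := fun y => IsLocalization.map_units K (⟨y, hM y.2⟩ : nonZeroDivisors R)
  letI : Algebra S K := (IsLocalization.lift hu).toAlgebra
  haveI : IsScalarTower R S K := IsScalarTower.of_algebraMap_eq fun r => (IsLocalization.lift_eq hu r).symm
  haveI : IsFractionRing S K := IsFractionRing.isFractionRing_of_isDomain_of_isLocalization M S K
  exact (isN1_iff K).2 (finite_integralClosure_of_isLocalization M h)

theorem isN2_of_isLocalization (R : Type u) [CommRing R] [IsDomain R] (M : Submonoid R) (S : Type u)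
    [CommRing S] [IsDomain S] [Algebra R S] [IsLocalization M S] (h : CAlg.IsN2 R) : CAlg.IsN2 S := by
  intro L _ _ _ _ hL
  haveI := hL
  have hM : M ≤ nonZeroDivisors R := fun x hx => mem_nonZeroDivisors_of_ne_zero fun h0 => by
    have := IsLocalization.map_units S ⟨x, hx⟩
    simp [h0] at this
  let K := FractionRing R
  have hu : ∀ y : M, IsUnit (algebraMap R K y) := fun y => IsLocalization.map_units K (⟨y, hM y.2⟩ : nonZeroDivisors R)
  letI : Algebra S K := (IsLocalization.lift hu).toAlgebra
  haveI : IsScalarTower R S K := IsScalarTower.of_algebraMap_eq fun r => (IsLocalization.lift_eq hu r).symm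
  haveI : IsFractionRing S K := IsFractionRing.isFractionRing_of_isDomain_of_isLocalization M S K
  let e : FractionRing S ≃ₐ[S] K := FractionRing.algEquiv S K
  letI : Algebra R L := ((algebraMap S L).comp (algebraMap R S)).toAlgebra
  haveI : IsScalarTower R S L := IsScalarTower.of_algebraMap_eq fun _ => rfl
  letI : Algebra K L := ((algebraMap (FractionRing S) L).comp e.symm.toAlgHom.toRingHom).toAlgebra
  haveI : IsScalarTower R K L := IsScalarTower.of_algebraMap_eq fun r => by
    show algebraMap S L (algebraMap R S r) = algebraMap (FractionRing S) L (e.symm (algebraMap R K r))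
    rw [IsScalarTower.algebraMap_apply R S K, e.symm.commutes, ← IsScalarTower.algebraMap_apply S (FractionRing S) L]
  haveI : FiniteDimensional K L := by
    letI : Algebra K (FractionRing S) := e.symm.toAlgHom.toRingHom.toAlgebra
    haveI : IsScalarTower K (FractionRing S) L := IsScalarTower.of_algebraMap_eq fun _ => rfl
    haveI : Module.Finite K (FractionRing S) :=
      Module.Finite.of_surjective (Algebra.linearMap K (FractionRing S)) e.symm.surjective
    exact Module.Finite.trans (FractionRing S) L
  exact finite_integralClosure_of_isLocalization M (h L inferInstance)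

/-- Finiteness of an integral closure is local on a cover by principal opens. -/
theorem finite_integralClosure_of_span {R L : Type u} [CommRing R] [Field L] [Algebra R L] {ι : Type u} [Finite ι]
    (f : ι → R) (hf : Ideal.span (Set.range f) = ⊤) (Rf : ι → Type u) [∀ i, CommRing (Rf i)]
    [∀ i, Algebra R (Rf i)] [∀ i, IsLocalization.Away (f i) (Rf i)] [∀ i, Algebra (Rf i) L]
    [∀ i, IsScalarTower R (Rf i) L] (h : ∀ i, Module.Finite (Rf i) (integralClosure (Rf i) L)) :
    Module.Finite R (integralClosure R L) := by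
  classical
  haveI := Fintype.ofFinite ι
  choose s hs using fun i => (h i).fg_top
  have hmul : ∀ i, ∀ x : integralClosure (Rf i) L, ∃ n : ℕ, IsIntegral R ((f i) ^ n • x.1) := fun i x => by
    obtain ⟨⟨m, n, rfl⟩, hm⟩ :=
      IsIntegral.exists_multiple_integral_of_isLocalization (R := R) (Submonoid.powers (f i)) x.1 x.2
    exact ⟨n, hm⟩
  choose n hn using hmul
  let F : Finset (integralClosure R L) :=
    Finset.univ.biUnion fun i => (s i).image fun x => ⟨(f i) ^ n i x • x.1, hn i x⟩
  refine ⟨⟨F, eq_top_iff.2 fun x _ => ?_⟩⟩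
  refine Submodule.mem_of_span_eq_top_of_smul_pow_mem _ (Set.range f) hf x ?_
  rintro ⟨_, i, rfl⟩
  suffices H : ∀ y ∈ Submodule.span (Rf i) ((s i : Set (integralClosure (Rf i) L))),
      ∃ k : ℕ, ∃ z ∈ Submodule.span R (F : Set (integralClosure R L)), (f i) ^ k • y.1 = z.1 by
    obtain ⟨k, z, hz, hzx⟩ := H ⟨x.1, x.2.tower_top⟩ (hs i ▸ trivial)
    refine ⟨k, ?_⟩
    rw [show (f i) ^ k • x = z from Subtype.ext hzx]
    exact hz
  intro y hy
  induction hy using Submodule.span_induction with
  | mem y hy =>
    exact ⟨n i y, _, Submodule.subset_span (Finset.mem_biUnion.2 ⟨i, Finset.mem_univ i, Finset.mem_image_of_mem _ hy⟩), rfl⟩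
  | zero => exact ⟨0, 0, zero_mem _, by simp⟩
  | add a b _ _ ha hb =>
    obtain ⟨k, z, hz, hka⟩ := ha
    obtain ⟨l, w, hw, hlb⟩ := hb
    refine ⟨k + l, (f i) ^ l • z + (f i) ^ k • w, add_mem (Submodule.smul_mem _ _ hz) (Submodule.smul_mem _ _ hw), ?_⟩
    show (f i) ^ (k + l) • (a.1 + b.1) = (f i) ^ l • z.1 + (f i) ^ k • w.1
    rw [smul_add, ← hka, ← hlb, smul_smul, smul_smul, ← pow_add, ← pow_add, add_comm l k]
  | smul c a _ ha =>
    obtain ⟨k, z, hz, hka⟩ := ha
    obtain ⟨⟨r, ⟨_, j, rfl⟩⟩, hr⟩ := IsLocalization.surj (Submonoid.powers (f i)) c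
    refine ⟨k + j, r • z, Submodule.smul_mem _ _ hz, ?_⟩
    show (f i) ^ (k + j) • (c • a.1) = r • z.1
    rw [← hka, ← algebraMap_smul (Rf i) ((f i) ^ (k + j)), ← algebraMap_smul (Rf i) r,
      ← algebraMap_smul (Rf i) ((f i) ^ k), smul_smul, smul_smul, ← hr]
    congr 1
    rw [pow_add, map_mul]
    ring

variable {R : Type u} [CommRing R] [IsDomain R]

theorem ne_zero_of_away (f : R) (S : Type u) [CommRing S] [IsDomain S] [Algebra R S] [IsLocalization.Away f S] :
    f ≠ 0 := fun h0 => by
  have := IsLocalization.Away.algebraMap_isUnit (S := S) f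
  simp [h0] at this

theorem isN1_of_span {ι : Type u} [Finite ι] (f : ι → R) (hf : Ideal.span (Set.range f) = ⊤)
    (Rf : ι → Type u) [∀ i, CommRing (Rf i)] [∀ i, IsDomain (Rf i)] [∀ i, Algebra R (Rf i)]
    [∀ i, IsLocalization.Away (f i) (Rf i)] (h : ∀ i, CAlg.IsN1 (Rf i)) : CAlg.IsN1 R := by
  let K := FractionRing R
  have hu : ∀ (i) (y : Submonoid.powers (f i)), IsUnit (algebraMap R K y) := fun i y => by
    obtain ⟨y, n, rfl⟩ := y
    rw [map_pow]
    exact (isUnit_iff_ne_zero.2 fun h0 => ne_zero_of_away (f i) (Rf i) (IsFractionRing.injective R K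
      (h0.trans (map_zero _).symm))).pow n
  letI : ∀ i, Algebra (Rf i) K := fun i => (IsLocalization.lift (hu i)).toAlgebra
  haveI : ∀ i, IsScalarTower R (Rf i) K := fun i =>
    IsScalarTower.of_algebraMap_eq fun r => (IsLocalization.lift_eq (hu i) r).symm
  haveI : ∀ i, IsFractionRing (Rf i) K := fun i =>
    IsFractionRing.isFractionRing_of_isDomain_of_isLocalization (Submonoid.powers (f i)) (Rf i) K
  exact finite_integralClosure_of_span f hf Rf fun i => (isN1_iff K).1 (h i)

theorem isN2_of_span {ι : Type u} [Finite ι] (f : ι → R) (hf : Ideal.span (Set.range f) = ⊤)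
    (Rf : ι → Type u) [∀ i, CommRing (Rf i)] [∀ i, IsDomain (Rf i)] [∀ i, Algebra R (Rf i)]
    [∀ i, IsLocalization.Away (f i) (Rf i)] (h : ∀ i, CAlg.IsN2 (Rf i)) : CAlg.IsN2 R := by
  intro L _ _ _ _ hL
  haveI := hL
  let K := FractionRing R
  have hu : ∀ (i) (y : Submonoid.powers (f i)), IsUnit (algebraMap R K y) := fun i y => by
    obtain ⟨y, n, rfl⟩ := y
    rw [map_pow]
    exact (isUnit_iff_ne_zero.2 fun h0 => ne_zero_of_away (f i) (Rf i) (IsFractionRing.injective R K
      (h0.trans (map_zero _).symm))).pow n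
  letI : ∀ i, Algebra (Rf i) K := fun i => (IsLocalization.lift (hu i)).toAlgebra
  haveI : ∀ i, IsScalarTower R (Rf i) K := fun i =>
    IsScalarTower.of_algebraMap_eq fun r => (IsLocalization.lift_eq (hu i) r).symm
  haveI : ∀ i, IsFractionRing (Rf i) K := fun i =>
    IsFractionRing.isFractionRing_of_isDomain_of_isLocalization (Submonoid.powers (f i)) (Rf i) K
  letI : ∀ i, Algebra (Rf i) L := fun i => ((algebraMap K L).comp (algebraMap (Rf i) K)).toAlgebra
  haveI : ∀ i, IsScalarTower R (Rf i) L := fun i => IsScalarTower.of_algebraMap_eq fun r => by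
    show algebraMap R L r = algebraMap K L (algebraMap (Rf i) K (algebraMap R (Rf i) r))
    rw [← IsScalarTower.algebraMap_apply R (Rf i) K, ← IsScalarTower.algebraMap_apply R K L]
  refine finite_integralClosure_of_span f hf Rf fun i => ?_
  let e : FractionRing (Rf i) ≃ₐ[Rf i] K := FractionRing.algEquiv (Rf i) K
  letI : Algebra (FractionRing (Rf i)) L := ((algebraMap K L).comp e.toAlgHom.toRingHom).toAlgebra
  haveI : IsScalarTower (Rf i) (FractionRing (Rf i)) L := IsScalarTower.of_algebraMap_eq fun r =>
    congrArg (algebraMap K L) (e.commutes r).symm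
  haveI : FiniteDimensional (FractionRing (Rf i)) L := by
    letI : Algebra (FractionRing (Rf i)) K := e.toAlgHom.toRingHom.toAlgebra
    haveI : IsScalarTower (FractionRing (Rf i)) K L := IsScalarTower.of_algebraMap_eq fun _ => rfl
    haveI : Module.Finite (FractionRing (Rf i)) K :=
      Module.Finite.of_surjective (Algebra.linearMap (FractionRing (Rf i)) K) e.surjective
    exact Module.Finite.trans K L
  exact h i L inferInstance

end GrothLib.N2
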