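import Groth.Prelude.Def_Found
import Groth.Agent.Lib.FieldExtra.Insep
import Mathlib.RingTheory.EssentialFiniteness
import Mathlib.RingTheory.Ideal.MinimalPrime.Noetherian
import Mathlib.RingTheory.IntegralClosure.IsIntegralClosure.Basic
import Mathlib.FieldTheory.IntermediateField.Algebraic

/-!
Integral closures of Nagata rings in reduced algebras essentially of finite type.
-/

set_option autoImplicit false

namespace GrothLib.N2

universe u

theorem finite_integralClosure_field {B : Type u} [CommRing B] (hB : CAlg.IsNagata B) (F : Type u) [Field F]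
    [Algebra B F] [Algebra.EssFiniteType B F] : Module.Finite B (integralClosure B F) := by
  haveI := hB.1
  let q : Ideal B := RingHom.ker (algebraMap B F)
  haveI : q.IsPrime := RingHom.ker_isPrime _
  let D := B ⧸ q
  let K := FractionRing D
  have hinj : Function.Injective (RingHom.kerLift (algebraMap B F)) := RingHom.kerLift_injective _
  letI : Algebra D F := (RingHom.kerLift (algebraMap B F)).toAlgebra
  letI : Algebra K F := (IsFractionRing.lift (g := RingHom.kerLift (algebraMap B F)) hinj).toAlgebra
  haveI : IsScalarTower B D F := IsScalarTower.of_algebraMap_eq fun _ => rfl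
  haveI hDKF : IsScalarTower D K F := IsScalarTower.of_algebraMap_eq fun a =>
    (IsFractionRing.lift_algebraMap hinj a).symm
  haveI : IsScalarTower B K F := IsScalarTower.of_algebraMap_eq fun b => by
    rw [IsScalarTower.algebraMap_apply B D K, ← IsScalarTower.algebraMap_apply D K F,
      ← IsScalarTower.algebraMap_apply B D F]
  haveI : Algebra.EssFiniteType K F := Algebra.EssFiniteType.of_comp B K F
  haveI : FiniteDimensional K (algebraicClosure K F) :=
    GrothLib.FieldExtra.finiteDimensional_algebraicClosure
      (IntermediateField.fg_top_iff.2 (inferInstance : Algebra.EssFiniteType K F))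
  haveI : Module.Finite D (integralClosure D (algebraicClosure K F)) :=
    hB.2 q (algebraicClosure K F) inferInstance
  haveI : IsNoetherian D (integralClosure D (algebraicClosure K F)) := isNoetherian_of_isNoetherianRing_of_finite _ _
  let φ : integralClosure D F →ₗ[D] integralClosure D (algebraicClosure K F) :=
    { toFun := fun x => ⟨⟨x.1, (mem_algebraicClosure_iff).2 (x.2.tower_top (A := K)).isAlgebraic⟩,
        (isIntegral_algHom_iff ((algebraicClosure K F).val.restrictScalars D) (algebraicClosure K F).val.injective).1
          x.2⟩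
      map_add' := fun _ _ => rfl
      map_smul' := fun c x => Subtype.ext (Subtype.ext rfl) }
  haveI : Module.Finite D (integralClosure D F) := Module.Finite.of_injective φ fun a b h =>
    Subtype.ext (congrArg (fun z : integralClosure D (algebraicClosure K F) => ((z.1 : algebraicClosure K F) : F)) h :)
  haveI : Module.Finite B (integralClosure D F) := Module.Finite.trans D _
  let ι : integralClosure B F →ₗ[B] integralClosure D F :=
    { toFun := fun x => ⟨x.1, x.2.tower_top⟩
      map_add' := fun _ _ => rfl
      map_smul' := fun c x => Subtype.ext rfl }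
  exact Module.Finite.of_injective ι fun a b h => Subtype.ext (congrArg Subtype.val h :)

theorem finite_integralClosure_of_essFiniteType {B : Type u} [CommRing B] (hB : CAlg.IsNagata B)
    (S : Type u) [CommRing S] [IsReduced S] [Algebra B S] [Algebra.EssFiniteType B S] :
    Module.Finite B (integralClosure B S) := by
  haveI := hB.1
  haveI : IsNoetherianRing S := Algebra.EssFiniteType.isNoetherianRing B S
  haveI : Finite (minimalPrimes S) := (minimalPrimes.finite_of_isNoetherianRing S).to_subtype
  haveI : ∀ P : minimalPrimes S, (P.1).IsPrime := fun P => P.2.1.1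
  let ψ : (P : minimalPrimes S) → S →ₐ[B] FractionRing (S ⧸ P.1) := fun P =>
    (IsScalarTower.toAlgHom B (S ⧸ P.1) (FractionRing (S ⧸ P.1))).comp (Ideal.Quotient.mkₐ B P.1)
  haveI : ∀ P : minimalPrimes S, Algebra.EssFiniteType B (FractionRing (S ⧸ P.1)) := fun P =>
    haveI : Algebra.EssFiniteType S (S ⧸ P.1) := inferInstance
    haveI : Algebra.EssFiniteType B (S ⧸ P.1) := Algebra.EssFiniteType.comp B S _
    haveI : Algebra.EssFiniteType (S ⧸ P.1) (FractionRing (S ⧸ P.1)) :=
      Algebra.EssFiniteType.of_isLocalization _ (nonZeroDivisors (S ⧸ P.1))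
    Algebra.EssFiniteType.comp B (S ⧸ P.1) _
  haveI : ∀ P : minimalPrimes S, Module.Finite B (integralClosure B (FractionRing (S ⧸ P.1))) := fun P =>
    finite_integralClosure_field hB _
  let Ψ : integralClosure B S →ₗ[B] (P : minimalPrimes S) → integralClosure B (FractionRing (S ⧸ P.1)) :=
    { toFun := fun x P => ⟨ψ P x.1, x.2.map (ψ P)⟩
      map_add' := fun x y => funext fun P => Subtype.ext (map_add (ψ P) _ _)
      map_smul' := fun c x => funext fun P => Subtype.ext (map_smul (ψ P) c x.1) }
  haveI : IsNoetherian B ((P : minimalPrimes S) → integralClosure B (FractionRing (S ⧸ P.1))) :=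
    isNoetherian_of_isNoetherianRing_of_finite _ _
  refine Module.Finite.of_injective Ψ fun x y hxy => Subtype.ext (sub_eq_zero.1 ?_)
  have h : ∀ P ∈ minimalPrimes S, x.1 - y.1 ∈ P := fun P hP => by
    haveI := hP.1.1
    refine Ideal.Quotient.eq.1 (IsFractionRing.injective (S ⧸ P) (FractionRing (S ⧸ P)) ?_)
    exact congrArg Subtype.val (congrFun hxy ⟨P, hP⟩)
  have h2 : x.1 - y.1 ∈ nilradical S := by
    rw [nilradical, ← Ideal.sInf_minimalPrimes]
    exact Submodule.mem_sInf.2 h
  rwa [nilradical_eq_zero S] at h2

end GrothLib.N2
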