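import Groth.Agent.Lib.N2.Reduced
import Groth.Agent.Lib.UHTower.Basic
import Mathlib.RingTheory.Flat.FaithfullyFlat.Algebra
import Mathlib.RingTheory.Ideal.GoingDown
import Mathlib.RingTheory.TensorProduct.Finite

/-!
Stabilization of reduced base changes of finite birational subalgebras.
-/

set_option autoImplicit false

open TensorProduct AlgebraicGeometry

namespace GrothLib.N2

universe u

/-- As `finite_integralClosure_field`, with N-2 only for the kernel. -/
theorem finite_integralClosure_field_of_isN2 {B : Type u} [CommRing B] [IsNoetherianRing B] (F : Type u) [Field F]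
    [Algebra B F] [Algebra.EssFiniteType B F]
    (hq : haveI := RingHom.ker_isPrime (algebraMap B F); CAlg.IsN2 (B ⧸ RingHom.ker (algebraMap B F))) :
    Module.Finite B (integralClosure B F) := by
  let q : Ideal B := RingHom.ker (algebraMap B F)
  haveI : q.IsPrime := RingHom.ker_isPrime _
  let D := B ⧸ q
  let K := FractionRing D
  have hinj : Function.Injective (RingHom.kerLift (algebraMap B F)) := RingHom.kerLift_injective _
  letI : Algebra D F := (RingHom.kerLift (algebraMap B F)).toAlgebra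
  letI : Algebra K F := (IsFractionRing.lift (g := RingHom.kerLift (algebraMap B F)) hinj).toAlgebra
  haveI : IsScalarTower B D F := IsScalarTower.of_algebraMap_eq fun _ => rfl
  haveI : IsScalarTower D K F := IsScalarTower.of_algebraMap_eq fun a =>
    (IsFractionRing.lift_algebraMap hinj a).symm
  haveI : IsScalarTower B K F := IsScalarTower.of_algebraMap_eq fun b => by
    rw [IsScalarTower.algebraMap_apply B D K, ← IsScalarTower.algebraMap_apply D K F,
      ← IsScalarTower.algebraMap_apply B D F]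
  haveI : Algebra.EssFiniteType K F := Algebra.EssFiniteType.of_comp B K F
  haveI : FiniteDimensional K (algebraicClosure K F) :=
    GrothLib.FieldExtra.finiteDimensional_algebraicClosure
      (IntermediateField.fg_top_iff.2 (inferInstance : Algebra.EssFiniteType K F))
  haveI : Module.Finite D (integralClosure D (algebraicClosure K F)) := hq (algebraicClosure K F) inferInstance
  haveI : IsNoetherian D (integralClosure D (algebraicClosure K F)) := isNoetherian_of_isNoetherianRing_of_finite _ _
  let φ : integralClosure D F →ₗ[D] integralClosure D (algebraicClosure K F) :=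
    { toFun := fun x => ⟨⟨x.1, (mem_algebraicClosure_iff).2 (x.2.tower_top (A := K)).isAlgebraic⟩,
        (isIntegral_algHom_iff ((algebraicClosure K F).val.restrictScalars D) (algebraicClosure K F).val.injective).1
          x.2⟩
      map_add' := fun _ _ => rfl
      map_smul' := fun c x => Subtype.ext (Subtype.ext rfl) }
  haveI : Module.Finite D (integralClosure D F) := Module.Finite.of_injective φ fun a b h =>
    Subtype.ext (congrArg (fun z : integralClosure D (algebraicClosure K F) => ((z.1 : algebraicClosure K F) : F)) h :)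
  haveI : Module.Finite B (integralClosure D F) := Module.Finite.trans D _
  let ι : integralClosure B F →ₗ[B] integralClosure D F :=
    { toFun := fun x => ⟨x.1, x.2.tower_top⟩
      map_add' := fun _ _ => rfl
      map_smul' := fun c x => Subtype.ext rfl }
  exact Module.Finite.of_injective ι fun a b h => Subtype.ext (congrArg Subtype.val h :)

theorem finite_integralClosure_of_minimal {B : Type u} [CommRing B] [IsNoetherianRing B]
    (hJ : ∀ (q : Ideal B) [q.IsPrime], q ∈ minimalPrimes B → CAlg.IsN2 (B ⧸ q))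
    (S : Type u) [CommRing S] [Algebra B S] [Module.Flat B S] [Algebra.EssFiniteType B S] :
    Module.Finite B (integralClosure B (S ⧸ nilradical S)) := by
  haveI : IsNoetherianRing S := Algebra.EssFiniteType.isNoetherianRing B S
  haveI : Finite (minimalPrimes S) := (minimalPrimes.finite_of_isNoetherianRing S).to_subtype
  haveI : ∀ P : minimalPrimes S, (P.1).IsPrime := fun P => P.2.1.1
  have hnilP : ∀ P : minimalPrimes S, nilradical S ≤ P.1 := fun P => nilradical_le_prime P.1
  let ψ : (P : minimalPrimes S) → S ⧸ nilradical S →ₐ[B] FractionRing (S ⧸ P.1) := fun P =>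
    (IsScalarTower.toAlgHom B (S ⧸ P.1) (FractionRing (S ⧸ P.1))).comp (Ideal.Quotient.factorₐ B (hnilP P))
  haveI : ∀ P : minimalPrimes S, Algebra.EssFiniteType B (FractionRing (S ⧸ P.1)) := fun P =>
    haveI : Algebra.EssFiniteType S (S ⧸ P.1) := inferInstance
    haveI : Algebra.EssFiniteType B (S ⧸ P.1) := Algebra.EssFiniteType.comp B S _
    haveI : Algebra.EssFiniteType (S ⧸ P.1) (FractionRing (S ⧸ P.1)) :=
      Algebra.EssFiniteType.of_isLocalization _ (nonZeroDivisors (S ⧸ P.1))
    Algebra.EssFiniteType.comp B (S ⧸ P.1) _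
  haveI : Algebra.HasGoingDown B S := Algebra.HasGoingDown.of_flat
  haveI : ∀ P : minimalPrimes S, Module.Finite B (integralClosure B (FractionRing (S ⧸ P.1))) := fun P => by
    refine finite_integralClosure_field_of_isN2 _ (@hJ _ (RingHom.ker_isPrime _) ?_)
    have hker : RingHom.ker (algebraMap B (FractionRing (S ⧸ P.1))) = P.1.under B := by
      rw [IsScalarTower.algebraMap_eq B (S ⧸ P.1) (FractionRing (S ⧸ P.1)),
        RingHom.ker_comp_of_injective _ (IsFractionRing.injective _ _)]
      ext b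
      rw [RingHom.mem_ker, IsScalarTower.algebraMap_apply B S (S ⧸ P.1), Ideal.Quotient.algebraMap_eq,
        Ideal.Quotient.eq_zero_iff_mem]
      rfl
    rw [hker]
    refine ⟨⟨inferInstance, bot_le⟩, fun q' hq' hle => ?_⟩
    haveI := hq'.1
    haveI : (P.1).LiesOver (P.1.under B) := ⟨rfl⟩
    obtain ⟨P', hP'le, hP'prime, hP'over⟩ := Ideal.exists_ideal_le_liesOver_of_le P.1 (p := q') (q := P.1.under B) hle
    have heq : P.1 ≤ P' := P.2.2 ⟨hP'prime, bot_le⟩ hP'le
    rw [hP'over.1]
    exact Ideal.comap_mono heq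
  let Ψ : integralClosure B (S ⧸ nilradical S) →ₗ[B]
      (P : minimalPrimes S) → integralClosure B (FractionRing (S ⧸ P.1)) :=
    { toFun := fun x P => ⟨ψ P x.1, x.2.map (ψ P)⟩
      map_add' := fun x y => funext fun P => Subtype.ext (map_add (ψ P) _ _)
      map_smul' := fun c x => funext fun P => Subtype.ext (map_smul (ψ P) c x.1) }
  haveI : IsNoetherian B ((P : minimalPrimes S) → integralClosure B (FractionRing (S ⧸ P.1))) :=
    isNoetherian_of_isNoetherianRing_of_finite _ _
  refine Module.Finite.of_injective Ψ fun x y hxy => Subtype.ext (sub_eq_zero.1 ?_)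
  obtain ⟨a, ha⟩ := Ideal.Quotient.mk_surjective (x.1 - y.1)
  rw [← ha, Ideal.Quotient.eq_zero_iff_mem, nilradical, ← Ideal.sInf_minimalPrimes]
  refine Submodule.mem_sInf.2 fun P hP => ?_
  haveI := hP.1.1
  have h1 : ψ ⟨P, hP⟩ (x.1 - y.1) = 0 := by
    rw [map_sub, sub_eq_zero]
    exact congrArg Subtype.val (congrFun hxy ⟨P, hP⟩)
  rw [← ha] at h1
  refine Ideal.Quotient.eq_zero_iff_mem.1 (IsFractionRing.injective (S ⧸ P) (FractionRing (S ⧸ P)) ?_)
  rw [map_zero]
  exact h1

theorem stabilize {A B K' : Type u} [CommRing A]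
    [IsDomain A] [CommRing B] [Algebra A B] [IsNoetherianRing B] [Module.Flat A B]
    (hJ : ∀ (q : Ideal B) [q.IsPrime], q ∈ minimalPrimes B → CAlg.IsN2 (B ⧸ q))
    [Field K'] [Algebra A K'] [Algebra (FractionRing A) K'] [IsScalarTower A (FractionRing A) K']
    [FiniteDimensional (FractionRing A) K']
    (P : Subalgebra A K' → Prop)
    (hP : ∀ C, P C ↔ (Module.Finite A C ∧ ∀ x : K', ∃ a b : C, (b : K') ≠ 0 ∧ x * b = a)) :
    ∃ Cα : Subalgebra A K', P Cα ∧
      (∀ C : Subalgebra A K', P C → ∀ hle : Cα ≤ C,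
        (∀ x : ↥Cα ⊗[A] B, IsNilpotent (Algebra.TensorProduct.map (Subalgebra.inclusion hle) (AlgHom.id A B) x) →
          IsNilpotent x) ∧
        (∀ y : ↥C ⊗[A] B, ∃ x : ↥Cα ⊗[A] B,
          IsNilpotent (Algebra.TensorProduct.map (Subalgebra.inclusion hle) (AlgHom.id A B) x - y))) ∧
      (Module.FaithfullyFlat A B → ∀ hint : Cα ≤ integralClosure A K',
        UniversallyInjective (Spec.map (CommRingCat.ofHom (Subalgebra.inclusion hint).toRingHom))) := by
  classical
  let K := FractionRing A
  haveI : Algebra.EssFiniteType A K := Algebra.EssFiniteType.of_isLocalization _ (nonZeroDivisors A)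
  haveI : Algebra.EssFiniteType A K' := Algebra.EssFiniteType.comp A K K'
  haveI : Module.Flat A K := IsLocalization.flat K (nonZeroDivisors A)
  haveI : Module.Flat A K' := Module.Flat.trans A K K'
  let T := B ⊗[A] K'
  haveI hfin : Module.Finite B (integralClosure B (T ⧸ nilradical T)) := finite_integralClosure_of_minimal hJ T
  haveI : IsNoetherian B (integralClosure B (T ⧸ nilradical T)) := isNoetherian_of_isNoetherianRing_of_finite _ _
  -- the image of an element of `C`
  let ρ : K' →ₐ[A] T ⧸ nilradical T :=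
    (Ideal.Quotient.mkₐ A (nilradical T)).comp Algebra.TensorProduct.includeRight
  have hρint : ∀ c : K', IsIntegral A c → IsIntegral B (ρ c) := fun c hc => (hc.map ρ).tower_top
  let M : {C : Subalgebra A K' // P C} → Submodule B (integralClosure B (T ⧸ nilradical T)) := fun C =>
    Submodule.span B (Set.range fun c : C.1 =>
      (⟨ρ c, hρint _ (haveI := ((hP C.1).1 C.2).1
        (Algebra.IsIntegral.isIntegral (R := A) c).map C.1.val)⟩ : integralClosure B (T ⧸ nilradical T)))
  -- a member of `P`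
  obtain ⟨C₀, hC₀⟩ : ∃ C₀ : Subalgebra A K', P C₀ := by
    let b := Module.finBasis K K'
    have hb : ∀ j, ∃ m : nonZeroDivisors A, IsIntegral A (m • b j) := fun j =>
      IsIntegral.exists_multiple_integral_of_isLocalization (Rₘ := K) (nonZeroDivisors A) (b j)
        (Algebra.IsIntegral.isIntegral _)
    choose m hm using hb
    let C₀ := Algebra.adjoin A (Set.range fun j => m j • b j)
    refine ⟨C₀, (hP _).2 ⟨⟨(Submodule.fg_top _).2 (fg_adjoin_of_finite (Set.finite_range _) fun x hx => by
      obtain ⟨j, rfl⟩ := hx; exact hm j)⟩, fun z => ?_⟩⟩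
    obtain ⟨d, hd⟩ := IsLocalization.exist_integer_multiples_of_finite (nonZeroDivisors A) (fun j => b.repr z j)
    choose c hc using hd
    let N : A := d.1 * ∏ j, (m j).1
    have hN : algebraMap A K' N ≠ 0 := by
      rw [IsScalarTower.algebraMap_apply A K K', map_ne_zero]
      exact IsFractionRing.to_map_ne_zero_of_mem_nonZeroDivisors (mul_mem d.2 (prod_mem fun j _ => (m j).2))
    have hzT : z * algebraMap A K' N ∈ C₀ := by
      rw [← b.sum_repr z, Finset.sum_mul]
      refine Subalgebra.sum_mem _ fun j _ => ?_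
      have heq : (b.repr z j • b j) * algebraMap A K' N =
          algebraMap A K' (c j * ∏ i ∈ Finset.univ.erase j, (m i).1) * (m j • b j) := by
        have h1 : algebraMap A K' (c j) = algebraMap A K' d.1 * algebraMap K K' (b.repr z j) := by
          rw [IsScalarTower.algebraMap_apply A K K', hc, Algebra.smul_def, map_mul,
            ← IsScalarTower.algebraMap_apply]
        have hNj : N = d.1 * ((∏ i ∈ Finset.univ.erase j, (m i).1) * (m j).1) := by
          rw [Finset.prod_erase_mul _ _ (Finset.mem_univ j)]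
        rw [hNj, map_mul, map_mul, map_mul, h1, Submonoid.smul_def, Algebra.smul_def, Algebra.smul_def]
        ring
      rw [heq]
      exact mul_mem (Subalgebra.algebraMap_mem _ _) (Algebra.subset_adjoin ⟨j, rfl⟩)
    exact ⟨⟨_, hzT⟩, algebraMap A C₀ N, hN, rfl⟩
  obtain ⟨_, ⟨⟨Cα, hCα⟩, rfl⟩, hmax⟩ :=
    (inferInstance : WellFoundedGT (Submodule B (integralClosure B (T ⧸ nilradical T)))).wf.has_min
      (Set.range M) ⟨_, ⟨C₀, hC₀⟩, rfl⟩
  have hM : ∀ C (hC : P C), Cα ≤ C → M ⟨C, hC⟩ = M ⟨Cα, hCα⟩ := fun C hC hle =>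
    (eq_of_le_of_not_lt (Submodule.span_mono (by
      rintro _ ⟨c, rfl⟩
      exact ⟨⟨c.1, hle c.2⟩, rfl⟩)) (hmax _ ⟨⟨C, hC⟩, rfl⟩)).symm
  -- comparison maps
  let θ : (C : Subalgebra A K') → C ⊗[A] B →ₐ[A] T := fun C =>
    (Algebra.TensorProduct.comm A K' B).toAlgHom.comp (Algebra.TensorProduct.map C.val (AlgHom.id A B))
  have hθ : ∀ C, Function.Injective (θ C) := fun C =>
    (Algebra.TensorProduct.comm A K' B).injective.comp
      (Module.Flat.rTensor_preserves_injective_linearMap (M := B) C.val.toLinearMap Subtype.val_injective)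
  have hθmk : ∀ (C : Subalgebra A K') (c : C) (b : B),
      Ideal.Quotient.mk (nilradical T) (θ C (c ⊗ₜ b)) = b • ρ c := fun C c b => by
    show Ideal.Quotient.mk (nilradical T) (b ⊗ₜ[A] (c : K')) = _
    rw [show b ⊗ₜ[A] (c : K') = b • ((1 : B) ⊗ₜ[A] (c : K')) by rw [smul_tmul', smul_eq_mul, mul_one]]
    rfl
  have hmem : ∀ (C : Subalgebra A K') (hC : P C) (y : C ⊗[A] B),
      ∃ z ∈ M ⟨C, hC⟩, (z : T ⧸ nilradical T) = Ideal.Quotient.mk (nilradical T) (θ C y) := by
    intro C hC y
    induction y using TensorProduct.induction_on with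
    | zero => exact ⟨0, zero_mem _, by simp⟩
    | tmul c b => exact ⟨b • _, Submodule.smul_mem _ b (Submodule.subset_span ⟨c, rfl⟩), (hθmk C c b).symm⟩
    | add p q hp hq =>
      obtain ⟨u, hu, hu'⟩ := hp
      obtain ⟨v, hv, hv'⟩ := hq
      exact ⟨u + v, add_mem hu hv, by rw [map_add, map_add, ← hu', ← hv']; rfl⟩
  have hsurj : ∀ z ∈ M ⟨Cα, hCα⟩, ∃ x : Cα ⊗[A] B,
      Ideal.Quotient.mk (nilradical T) (θ Cα x) = (z : T ⧸ nilradical T) := by
    intro z hz
    induction hz using Submodule.span_induction with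
    | mem z hz =>
      obtain ⟨c, rfl⟩ := hz
      exact ⟨c ⊗ₜ 1, by rw [hθmk, one_smul]⟩
    | zero => exact ⟨0, by simp⟩
    | add u v _ _ hu hv =>
      obtain ⟨p, hp⟩ := hu
      obtain ⟨q, hq⟩ := hv
      exact ⟨p + q, by rw [map_add, map_add, hp, hq]; rfl⟩
    | smul b u _ hu =>
      obtain ⟨p, hp⟩ := hu
      refine ⟨((1 : Cα) ⊗ₜ b) * p, ?_⟩
      rw [map_mul, map_mul, hp, hθmk, show ρ ((1 : Cα) : K') = 1 from map_one ρ, smul_one_mul]
      rfl
  have hcomp : ∀ (C : Subalgebra A K') (hle : Cα ≤ C) (x : Cα ⊗[A] B),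
      θ C (Algebra.TensorProduct.map (Subalgebra.inclusion hle) (AlgHom.id A B) x) = θ Cα x := fun C hle x => by
    induction x using TensorProduct.induction_on with
    | zero => simp
    | tmul c b => rfl
    | add p q hp hq => rw [map_add, map_add, map_add, hp, hq]
  have hnil : ∀ (C : Subalgebra A K') (z : C ⊗[A] B), IsNilpotent z ↔ θ C z ∈ nilradical T := fun C z => by
    rw [mem_nilradical, IsNilpotent.map_iff (hθ C)]
  have happrox : ∀ (C : Subalgebra A K') (_ : P C) (hle : Cα ≤ C) (y : C ⊗[A] B), ∃ x : Cα ⊗[A] B,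
      IsNilpotent (Algebra.TensorProduct.map (Subalgebra.inclusion hle) (AlgHom.id A B) x - y) := by
    intro C hC hle y
    obtain ⟨z, hz, hz'⟩ := hmem C hC y
    rw [hM C hC hle] at hz
    obtain ⟨x, hx⟩ := hsurj z hz
    refine ⟨x, (hnil C _).2 ?_⟩
    rw [map_sub, hcomp, ← Ideal.Quotient.eq_zero_iff_mem, map_sub, hx, hz', sub_self]
  refine ⟨Cα, hCα, fun C hC hle => ⟨fun x hx => ?_, happrox C hC hle⟩, fun hff hint => ?_⟩
  · rw [hnil, hcomp] at hx
    exact (hnil Cα x).2 hx
  · rw [GrothLib.UHTower.universallyInjective_iff_radic]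
    intro F _ f g hfg
    ext x
    haveI := ((hP Cα).1 hCα).1
    haveI : Module.Finite A (Algebra.adjoin A ({(x : K')} : Set K')) :=
      ⟨(Submodule.fg_top _).2 (IsIntegral.fg_adjoin_singleton x.2)⟩
    let C := Cα ⊔ Algebra.adjoin A ({(x : K')} : Set K')
    have hle : Cα ≤ C := le_sup_left
    haveI : Module.Finite A C := Subalgebra.finite_sup _ _
    have hC : P C := (hP C).2 ⟨inferInstance, fun z => by
      obtain ⟨a, b, hb, hab⟩ := ((hP Cα).1 hCα).2 z
      exact ⟨⟨a, hle a.2⟩, ⟨b, hle b.2⟩, hb, hab⟩⟩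
    have hCint : C ≤ integralClosure A K' := fun z hz =>
      (Algebra.IsIntegral.isIntegral (R := A) (⟨z, hz⟩ : C)).map C.val
    let xC : C := ⟨x, (le_sup_right : _ ≤ C) (Algebra.self_mem_adjoin_singleton A (x : K'))⟩
    letI : Algebra Cα C := (Subalgebra.inclusion hle).toRingHom.toAlgebra
    haveI : IsScalarTower A Cα C := IsScalarTower.of_algebraMap_eq fun _ => rfl
    let fC : C →+* F := f.comp (Subalgebra.inclusion hCint).toRingHom
    let gC : C →+* F := g.comp (Subalgebra.inclusion hCint).toRingHom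
    letI : Algebra Cα F := (fC.comp (algebraMap Cα C)).toAlgebra
    let fA : C →ₐ[Cα] F := { fC with commutes' := fun _ => rfl }
    let gA : C →ₐ[Cα] F :=
      { gC with commutes' := fun c => (RingHom.congr_fun hfg c).symm }
    let h : C ⊗[Cα] C →ₐ[Cα] F := Algebra.TensorProduct.lift fA gA fun _ _ => Commute.all _ _
    let d : C ⊗[Cα] C := xC ⊗ₜ 1 - 1 ⊗ₜ xC
    suffices hd : IsNilpotent d by
      have h1 : h d = 0 := (hd.map h).eq_zero
      rw [map_sub, Algebra.TensorProduct.lift_tmul, Algebra.TensorProduct.lift_tmul, map_one, map_one, mul_one,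
        one_mul, sub_eq_zero] at h1
      exact h1
    let j₁ : C →ₐ[A] C ⊗[Cα] C := Algebra.TensorProduct.includeLeft
    let j₂ : C →ₐ[A] C ⊗[Cα] C := (Algebra.TensorProduct.includeRight : C →ₐ[Cα] C ⊗[Cα] C).restrictScalars A
    let ι₁ := Algebra.TensorProduct.map j₁ (AlgHom.id A B)
    let ι₂ := Algebra.TensorProduct.map j₂ (AlgHom.id A B)
    obtain ⟨x', hx'⟩ := happrox C hC hle (xC ⊗ₜ 1)
    have hagree : ι₁ (Algebra.TensorProduct.map (Subalgebra.inclusion hle) (AlgHom.id A B) x') =
        ι₂ (Algebra.TensorProduct.map (Subalgebra.inclusion hle) (AlgHom.id A B) x') := by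
      clear hx'
      induction x' using TensorProduct.induction_on with
      | zero => simp
      | tmul c b =>
        show (algebraMap Cα C c ⊗ₜ[Cα] (1 : C)) ⊗ₜ[A] b = ((1 : C) ⊗ₜ[Cα] algebraMap Cα C c) ⊗ₜ[A] b
        rw [Algebra.algebraMap_eq_smul_one, smul_tmul]
      | add p q hp hq => rw [map_add, map_add, map_add, hp, hq]
    have hd1 : IsNilpotent (d ⊗ₜ[A] (1 : B)) := by
      have h2 : ι₂ (Algebra.TensorProduct.map (Subalgebra.inclusion hle) (AlgHom.id A B) x' - xC ⊗ₜ 1) -
          ι₁ (Algebra.TensorProduct.map (Subalgebra.inclusion hle) (AlgHom.id A B) x' - xC ⊗ₜ 1) = d ⊗ₜ[A] (1 : B) := by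
        rw [map_sub, map_sub, hagree, sub_sub_sub_cancel_left]
        exact (sub_tmul _ _ _).symm
      rw [← h2]
      refine Commute.isNilpotent_sub ?_ (hx'.map ι₂) (hx'.map ι₁)
      exact @mul_comm ((C ⊗[Cα] C) ⊗[A] B) _ _ _
    haveI := hff
    have hinj : Function.Injective (fun e : C ⊗[Cα] C => e ⊗ₜ[A] (1 : B)) := fun a b hab =>
      Module.FaithfullyFlat.tensorProduct_mk_injective (A := A) (B := B) (C ⊗[Cα] C)
        (show (1 : B) ⊗ₜ[A] a = (1 : B) ⊗ₜ[A] b from congrArg (Algebra.TensorProduct.comm A (C ⊗[Cα] C) B) hab)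
    exact (IsNilpotent.map_iff (f := (Algebra.TensorProduct.includeLeft : C ⊗[Cα] C →ₐ[A] (C ⊗[Cα] C) ⊗[A] B)) hinj).1 hd1

end GrothLib.N2
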