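import Groth.Agent.Lib.N2.KrullFamily
import Groth.Agent.Lib.N2.Stabilize
import Groth.Agent.Lib.Cohen.NagataMain
import Groth.Agent.Lib.AdicExtra.Completion
import Groth.Agent.Lib.NormalSerre.AssPrincipal
import Mathlib.RingTheory.Finiteness.Descent
import Mathlib.RingTheory.AdicCompletion.AsTensorProduct

/-!
Mori–Nagata: the integral closure of a Noetherian local domain is a Krull domain.
-/

set_option autoImplicit false

open TensorProduct

namespace GrothLib.MoriNagata

universe u

/-- `addVal` at a height one prime. -/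
noncomputable def ordAt {D : Type u} [CommRing D] [IsDomain D] [IsNoetherianRing D] [IsIntegrallyClosed D]
    (Q : Ideal D) [Q.IsPrime] [IsDiscreteValuationRing (Localization.AtPrime Q)] (x : D) : ℕ∞ :=
  IsDiscreteValuationRing.addVal (Localization.AtPrime Q) (algebraMap D _ x)

theorem isDiscreteValuationRing_of_height_one {D : Type u} [CommRing D] [IsDomain D] [IsNoetherianRing D]
    [IsIntegrallyClosed D] (Q : Ideal D) [Q.IsPrime] (hQ : Q.height = 1) :
    IsDiscreteValuationRing (Localization.AtPrime Q) := by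
  let L := Localization.AtPrime Q
  haveI : IsDomain L := IsLocalization.isDomain_localization Q.primeCompl_le_nonZeroDivisors
  haveI : IsIntegrallyClosed L :=
    isIntegrallyClosed_of_isLocalization L Q.primeCompl Q.primeCompl_le_nonZeroDivisors
  haveI : IsNoetherianRing L := IsLocalization.isNoetherianRing Q.primeCompl L inferInstance
  have h1 : (IsLocalRing.maximalIdeal L).height = 1 := by
    rw [← IsLocalization.height_under Q.primeCompl (IsLocalRing.maximalIdeal L),
      show (IsLocalRing.maximalIdeal L).under D = Q from IsLocalization.AtPrime.comap_maximalIdeal L Q, hQ]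
  haveI : Ring.DimensionLEOne L := ⟨fun {P} hP hPp => by
    by_contra hmax
    have hlt : P < IsLocalRing.maximalIdeal L := lt_of_le_of_ne (IsLocalRing.le_maximalIdeal hPp.ne_top)
      fun e => hmax (e ▸ IsLocalRing.maximalIdeal.isMaximal L)
    have hb : (⊥ : Ideal L) < P := bot_lt_iff_ne_bot.2 hP
    have h2 := Ideal.height_strict_mono_of_isPrime_of_isPrime hb
    have h3 := Ideal.height_strict_mono_of_isPrime_of_isPrime hlt
    rw [Ideal.height_bot] at h2
    exact absurd (h3.trans_le h1.le) (not_lt.2 (Order.one_le_iff_pos.2 h2))⟩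
  haveI : IsDedekindRing L := { }
  haveI : IsDedekindDomain L := { }
  haveI : IsPrincipalIdealRing L := IsPrincipalIdealRing.of_finite_primes
    (Set.Finite.subset ((Set.finite_singleton (IsLocalRing.maximalIdeal L)).insert ⊥) fun P (hP : P.IsPrime) => by
      by_cases h : P = ⊥
      · exact Or.inl h
      · exact Or.inr (IsLocalRing.eq_maximalIdeal (hP.isMaximal h)))
  exact { not_a_field' := fun h => by rw [h, Ideal.height_bot] at h1; exact zero_ne_one h1 }

/-- A finite product of Noetherian normal domains induces a finite-character family. -/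
theorem nonempty_family_of_embedding {R : Type u} [CommRing R] [IsDomain R] {κ : Type u} [Finite κ]
    (D : κ → Type u) [∀ k, CommRing (D k)] [∀ k, IsDomain (D k)] [∀ k, IsNoetherianRing (D k)]
    [∀ k, IsIntegrallyClosed (D k)] (φ : ∀ k, R →+* D k) (hφ : ∀ k, Function.Injective (φ k))
    (hdvd : ∀ a b : R, b ≠ 0 → (∀ k, φ k b ∣ φ k a) → b ∣ a) :
    ∃ ι : Type u, Nonempty (GrothLib.Krull.Family R ι) := by
  classical
  let ι := Σ k : κ, {Q : PrimeSpectrum (D k) // Q.asIdeal.height = 1}
  haveI hdvr : ∀ j : ι, IsDiscreteValuationRing (Localization.AtPrime j.2.1.asIdeal) := fun j =>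
    isDiscreteValuationRing_of_height_one _ j.2.2
  have hinjL : ∀ j : ι, Function.Injective (algebraMap (D j.1) (Localization.AtPrime j.2.1.asIdeal)) := fun j =>
    IsLocalization.injective _ j.2.1.asIdeal.primeCompl_le_nonZeroDivisors
  refine ⟨ι, ⟨{
    val := fun j x => ordAt j.2.1.asIdeal (φ j.1 x)
    val_mul := fun j x y => by simp only [ordAt, map_mul, IsDiscreteValuationRing.addVal_mul]
    val_ne_top := fun j x hx => by
      rw [ordAt, ne_eq, IsDiscreteValuationRing.addVal_eq_top_iff]
      exact fun h => hx (hφ _ ((hinjL j (h.trans (map_zero _).symm)).trans (map_zero _).symm))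
    finite := fun b hb => ?_
    dvd := fun a b hb hle => hdvd a b hb fun k => ?_ }⟩⟩
  · have hsub : {j : ι | ordAt j.2.1.asIdeal (φ j.1 b) ≠ 0} ⊆
        ⋃ k : κ, (fun Q => (⟨k, Q⟩ : ι)) '' {Q | Q.1.asIdeal ∈ (Ideal.span {φ k b}).minimalPrimes} := by
      intro j hj
      refine Set.mem_iUnion.2 ⟨j.1, j.2, ?_, rfl⟩
      have hmem : φ j.1 b ∈ j.2.1.asIdeal := by
        by_contra h
        refine hj ?_
        rw [ordAt, IsDiscreteValuationRing.addVal_eq_zero_iff]
        exact IsLocalization.map_units _ (⟨_, h⟩ : j.2.1.asIdeal.primeCompl)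
      refine ⟨⟨inferInstance, (Ideal.span_singleton_le_iff_mem _).2 hmem⟩, fun Q hQ hle => ?_⟩
      haveI := hQ.1
      rcases hle.eq_or_lt with heq | hlt
      · exact heq.ge
      · exfalso
        have hQ0 : (⊥ : Ideal _) < Q := bot_lt_iff_ne_bot.2 fun h0 => hb (hφ j.1 (by
          rw [map_zero]
          have := hQ.2 (Ideal.subset_span rfl)
          rwa [h0, Ideal.mem_bot] at this))
        have h1 := Ideal.height_add_one_le_of_lt_of_isPrime hQ0
        have h2 := Ideal.height_add_one_le_of_lt_of_isPrime hlt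
        rw [Ideal.height_bot, zero_add] at h1
        rw [j.2.2] at h2
        exact absurd (le_trans (add_le_add h1 le_rfl) h2) (by decide)
    refine Set.Finite.subset (Set.finite_iUnion fun k => Set.Finite.image _ ?_) hsub
    exact Set.Finite.preimage (f := fun Q : {Q : PrimeSpectrum (D k) // Q.asIdeal.height = 1} => Q.1.asIdeal)
      (fun x _ y _ h => Subtype.ext (PrimeSpectrum.ext h)) (Ideal.span {φ k b}).finite_minimalPrimes_of_isNoetherianRing
  · have hb' : algebraMap (D k) (FractionRing (D k)) (φ k b) ≠ 0 := fun h =>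
      hb (hφ k ((IsFractionRing.injective (D k) (FractionRing (D k)) (h.trans (map_zero _).symm)).trans (map_zero _).symm))
    obtain ⟨d, hd⟩ := GrothLib.NormalSerre.mem_range_of_forall_height_one (A := D k)
      (algebraMap (D k) (FractionRing (D k)) (φ k a) / algebraMap (D k) (FractionRing (D k)) (φ k b)) (by
        intro Q hQ hQ1
        let j : ι := ⟨k, ⟨⟨Q, hQ⟩, hQ1⟩⟩
        haveI := hdvr j
        obtain ⟨w, hw⟩ : algebraMap (D k) (Localization.AtPrime Q) (φ k b) ∣
            algebraMap (D k) (Localization.AtPrime Q) (φ k a) := IsDiscreteValuationRing.addVal_le_iff_dvd.1 (hle j)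
        obtain ⟨⟨r, s⟩, hs⟩ := IsLocalization.surj Q.primeCompl w
        refine ⟨r, s, s.2, ?_⟩
        have he : φ k b * r = φ k a * s := hinjL j (by
          show algebraMap (D k) (Localization.AtPrime Q) (φ k b * r) = algebraMap (D k) (Localization.AtPrime Q) (φ k a * s)
          rw [map_mul, map_mul, hw, ← hs, mul_assoc])
        rw [div_mul_eq_mul_div, ← map_mul, ← he, map_mul, mul_div_cancel_left₀ _ hb'])
    refine ⟨d, IsFractionRing.injective (D k) (FractionRing (D k)) ?_⟩
    rw [map_mul, hd, mul_div_cancel₀ _ hb']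

variable {A : Type u} [CommRing A] [IsDomain A] [IsNoetherianRing A] [IsLocalRing A]

/-- The integral closure of a Noetherian local domain has a finite-character family. -/
theorem nonempty_family :
    ∃ ι : Type u, Nonempty (GrothLib.Krull.Family (integralClosure A (FractionRing A)) ι) := by
  classical
  let K := FractionRing A
  let B := AdicCompletion (IsLocalRing.maximalIdeal A) A
  let T := B ⊗[A] K
  let R := integralClosure A K
  haveI : Module.FaithfullyFlat A B := Module.FaithfullyFlat.of_flat_of_isLocalHom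
  haveI : Algebra.EssFiniteType A K := Algebra.EssFiniteType.of_isLocalization _ (nonZeroDivisors A)
  haveI : IsNoetherianRing T := Algebra.EssFiniteType.isNoetherianRing B T
  have hN := GrothLib.Cohen.isNagata_of_isAdicComplete B
  haveI hfinP : Finite (minimalPrimes T) := (minimalPrimes.finite_of_isNoetherianRing T).to_subtype
  haveI : ∀ P : minimalPrimes T, (P.1).IsPrime := fun P => P.2.1.1
  let F : minimalPrimes T → Type u := fun P => FractionRing (T ⧸ P.1)
  haveI : ∀ P : minimalPrimes T, Algebra.EssFiniteType B (F P) := fun P =>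
    haveI : Algebra.EssFiniteType T (T ⧸ P.1) := inferInstance
    haveI : Algebra.EssFiniteType B (T ⧸ P.1) := Algebra.EssFiniteType.comp B T _
    haveI : Algebra.EssFiniteType (T ⧸ P.1) (F P) :=
      Algebra.EssFiniteType.of_isLocalization _ (nonZeroDivisors (T ⧸ P.1))
    Algebra.EssFiniteType.comp B (T ⧸ P.1) _
  let D : minimalPrimes T → Type u := fun P => integralClosure B (F P)
  haveI hDfin : ∀ P, Module.Finite B (D P) := fun P => GrothLib.N2.finite_integralClosure_field hN _
  haveI : ∀ P, IsNoetherianRing (D P) := fun P => IsNoetherianRing.of_finite B (D P)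
  -- every element of the tensor product has a denominator in `A`
  have hden : ∀ t : T, ∃ a : A, a ≠ 0 ∧ ∃ b : B, algebraMap A T a * t = algebraMap B T b := by
    intro t
    induction t using TensorProduct.induction_on with
    | zero => exact ⟨1, one_ne_zero, 0, by simp⟩
    | tmul b k =>
      obtain ⟨⟨n, s⟩, hs⟩ := IsLocalization.surj (nonZeroDivisors A) k
      refine ⟨s, nonZeroDivisors.ne_zero s.2, n • b, ?_⟩
      show algebraMap A T s * b ⊗ₜ[A] k = (n • b) ⊗ₜ[A] (1 : K)
      rw [smul_tmul, ← Algebra.algebraMap_eq_smul_one n, ← hs, ← Algebra.smul_def, ← tmul_smul,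
        Algebra.smul_def, mul_comm]
    | add p q hp hq =>
      obtain ⟨a, ha, b, hb⟩ := hp
      obtain ⟨a', ha', b', hb'⟩ := hq
      refine ⟨a * a', mul_ne_zero ha ha', algebraMap A B a' * b + algebraMap A B a * b', ?_⟩
      rw [map_mul, map_add, map_mul, map_mul, ← hb, ← hb', ← IsScalarTower.algebraMap_apply,
        ← IsScalarTower.algebraMap_apply]
      ring
  let ρ : (P : minimalPrimes T) → T →ₐ[A] F P := fun P =>
    (IsScalarTower.toAlgHom A (T ⧸ P.1) (F P)).comp (Ideal.Quotient.mkₐ A P.1)
  have hρB : ∀ P (b : B), ρ P (algebraMap B T b) = algebraMap B (F P) b := fun P b => rfl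
  let γ : (P : minimalPrimes T) → K →ₐ[A] F P := fun P => (ρ P).comp Algebra.TensorProduct.includeRight
  have hγ : ∀ P, Function.Injective (γ P) := fun P => (γ P).toRingHom.injective
  haveI hDfrac : ∀ P, IsFractionRing (D P) (F P) := fun P => by
    haveI : FaithfulSMul (D P) (F P) := (faithfulSMul_iff_algebraMap_injective (D P) (F P)).2 Subtype.val_injective
    refine IsFractionRing.of_field (D P) (F P) fun z => ?_
    obtain ⟨u, v, hv, rfl⟩ := IsFractionRing.div_surjective (T ⧸ P.1) (K := F P) z
    obtain ⟨u, rfl⟩ := Ideal.Quotient.mk_surjective u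
    obtain ⟨v, rfl⟩ := Ideal.Quotient.mk_surjective v
    obtain ⟨a, ha, b, hb⟩ := hden u
    obtain ⟨a', ha', b', hb'⟩ := hden v
    have h0 : ∀ c : A, c ≠ 0 → algebraMap A (F P) c ≠ 0 := fun c hc h => hc (IsFractionRing.injective A K
      ((hγ P) (by rw [(γ P).commutes, h, map_zero, map_zero])))
    refine ⟨algebraMap B (D P) (algebraMap A B a' * b), algebraMap B (D P) (algebraMap A B a * b'), ?_⟩
    show ρ P u / ρ P v = algebraMap B (F P) (algebraMap A B a' * b) / algebraMap B (F P) (algebraMap A B a * b')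
    rw [map_mul, map_mul, ← hρB P b, ← hρB P b', ← hb, ← hb', map_mul, map_mul, (ρ P).commutes, (ρ P).commutes,
      ← IsScalarTower.algebraMap_apply, ← IsScalarTower.algebraMap_apply, ← mul_assoc, ← mul_assoc,
      mul_comm (algebraMap A (F P) a') (algebraMap A (F P) a),
      mul_div_mul_left _ _ (mul_ne_zero (h0 a ha) (h0 a' ha'))]
  haveI : ∀ P, IsIntegrallyClosed (D P) := fun P => (isIntegrallyClosed_iff (F P)).2 fun {z} hz =>
    ⟨⟨z, isIntegral_trans (R := B) z hz⟩, rfl⟩
  -- the maps `R → D P`
  let φ : (P : minimalPrimes T) → R →+* D P := fun P =>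
    ((γ P).toRingHom.comp (algebraMap R K)).codRestrict (integralClosure B (F P)).toSubring
      fun x => ((x.2 : IsIntegral A (x : K)).map (γ P)).tower_top
  have hφ : ∀ P, Function.Injective (φ P) := fun P x y hxy =>
    Subtype.ext (hγ P (congrArg Subtype.val hxy))
  haveI : ∀ P, IsDomain (D P) := fun P => inferInstanceAs (IsDomain (integralClosure B (F P)))
  refine nonempty_family_of_embedding (κ := minimalPrimes T) D φ hφ fun a b hb hle => ?_
  · have hb' : (b : K) ≠ 0 := fun h => hb (Subtype.ext h)
    suffices hint : IsIntegral A ((a : K) / (b : K)) by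
      exact ⟨⟨_, hint⟩, Subtype.ext (mul_div_cancel₀ _ hb').symm⟩
    set z : K := (a : K) / (b : K)
    have hz : ∀ P, IsIntegral B (γ P z) := by
      intro P
      obtain ⟨d, hd⟩ := hle P
      have hnum : γ P (a : K) = γ P (b : K) * (d : F P) := congrArg Subtype.val hd
      have : γ P z = (d : F P) := by
        rw [map_div₀, div_eq_iff ((map_ne_zero _).2 hb'), hnum, mul_comm]
      rw [this]
      exact d.2
    -- integrality in the tensor product
    choose p hpm hp using hz
    haveI := Fintype.ofFinite (minimalPrimes T)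
    let Z : T := (1 : B) ⊗ₜ[A] z
    have hnil : IsNilpotent (Polynomial.aeval Z (∏ P, p P)) := by
      rw [← mem_nilradical, nilradical, ← Ideal.sInf_minimalPrimes]
      refine Submodule.mem_sInf.2 fun P hP => ?_
      haveI := hP.1.1
      rw [map_prod]
      refine (Ideal.IsPrime.prod_mem_iff (p := P)).2 ⟨⟨P, hP⟩, Finset.mem_univ _, ?_⟩
      refine Ideal.Quotient.eq_zero_iff_mem.1 (IsFractionRing.injective (T ⧸ P) (FractionRing (T ⧸ P)) ?_)
      rw [map_zero]
      let ρB : T →ₐ[B] F ⟨P, hP⟩ :=
        (IsScalarTower.toAlgHom B (T ⧸ P) (F ⟨P, hP⟩)).comp (Ideal.Quotient.mkₐ B P)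
      have h1 := Polynomial.aeval_algHom_apply ρB Z (p ⟨P, hP⟩)
      exact h1.symm.trans (hp ⟨P, hP⟩)
    have hZ : IsIntegral B Z := by
      obtain ⟨k, hk⟩ := hnil
      exact ⟨(∏ P, p P) ^ k, (Polynomial.monic_prod_of_monic _ _ fun P _ => hpm P).pow k, by
        rw [← Polynomial.aeval_def, map_pow, hk]⟩
    -- descend
    let A' := Algebra.adjoin A ({z} : Set K)
    let f : B ⊗[A] A' →ₐ[B] T := Algebra.TensorProduct.map (AlgHom.id B B) A'.val
    have hf : Function.Injective f :=
      Module.Flat.lTensor_preserves_injective_linearMap (M := B) A'.val.toLinearMap Subtype.val_injective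
    have hrange : ∀ w, f w ∈ Algebra.adjoin B ({Z} : Set T) := by
      intro w
      induction w using TensorProduct.induction_on with
      | zero => rw [map_zero]; exact zero_mem _
      | tmul c x =>
        obtain ⟨x, hx⟩ := x
        show c ⊗ₜ[A] x ∈ _
        induction hx using Algebra.adjoin_induction generalizing c with
        | mem x hx =>
          rw [Set.mem_singleton_iff.1 hx, show c ⊗ₜ[A] z = c • Z by rw [smul_tmul', smul_eq_mul, mul_one]]
          exact Subalgebra.smul_mem _ (Algebra.self_mem_adjoin_singleton B Z) c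
        | algebraMap r =>
          rw [show c ⊗ₜ[A] algebraMap A K r = algebraMap B T (r • c) by
            rw [Algebra.algebraMap_eq_smul_one, tmul_smul, smul_tmul']; rfl]
          exact Subalgebra.algebraMap_mem _ _
        | add x y _ _ hx hy => rw [tmul_add]; exact add_mem (hx c) (hy c)
        | mul x y _ _ hx hy =>
          rw [show c ⊗ₜ[A] (x * y) = (c ⊗ₜ[A] x) * ((1 : B) ⊗ₜ[A] y) by
            rw [Algebra.TensorProduct.tmul_mul_tmul, mul_one]]
          exact mul_mem (hx c) (hy 1)
      | add x y hx hy => rw [map_add]; exact add_mem hx hy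
    haveI : Module.Finite B (Algebra.adjoin B ({Z} : Set T)) :=
      ⟨(Submodule.fg_top _).2 hZ.fg_adjoin_singleton⟩
    haveI : IsNoetherian B (Algebra.adjoin B ({Z} : Set T)) :=
      isNoetherian_of_fg_of_noetherian (Subalgebra.toSubmodule (Algebra.adjoin B ({Z} : Set T))) hZ.fg_adjoin_singleton
    haveI : Module.Finite B (B ⊗[A] A') :=
      Module.Finite.of_injective (f.codRestrict _ hrange).toLinearMap fun x y h => hf (congrArg Subtype.val h :)
    haveI : Module.Finite A A' := Module.Finite.of_finite_tensorProduct_of_faithfullyFlat (T := B)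
    exact (Algebra.IsIntegral.isIntegral (R := A) (⟨z, Algebra.self_mem_adjoin_singleton A z⟩ : A')).map A'.val

/-- Mori–Nagata with a finite subalgebra detecting the essential valuations. -/
theorem exists_finite_subalgebra :
    ∃ C : Subalgebra A (FractionRing A), Module.Finite A C ∧
      (∀ (p : Ideal C) [p.IsPrime], p.height = 1 →
        ∃ V : ValuationSubring (FractionRing A), IsDiscreteValuationRing V ∧
          ∀ x : FractionRing A, x ∈ V ↔ ∃ s : C, s ∉ p ∧ IsIntegral C ((s : FractionRing A) * x)) ∧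
      (∀ x : FractionRing A, x ∈ integralClosure A (FractionRing A) ↔
        ∀ (p : Ideal C) [p.IsPrime], p.height = 1 → ∃ s : C, s ∉ p ∧ IsIntegral C ((s : FractionRing A) * x)) ∧
      (∀ x : FractionRing A, {p : Ideal C | p.IsPrime ∧ p.height = 1 ∧
        ¬ ∃ s : C, s ∉ p ∧ IsIntegral C ((s : FractionRing A) * x)}.Finite) := by
  classical
  let K := FractionRing A
  let Ah := AdicCompletion (IsLocalRing.maximalIdeal A) A
  haveI : Module.FaithfullyFlat A Ah := Module.FaithfullyFlat.of_flat_of_isLocalHom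
  obtain ⟨C, hC, -, hUI⟩ := GrothLib.N2.stabilize (A := A) (B := Ah) (K' := K)
    (fun q _ _ => (GrothLib.Cohen.isNagata_of_isAdicComplete Ah).2 q) _ (fun _ => Iff.rfl)
  haveI := hC.1
  let R := integralClosure A K
  have hCR : C ≤ R := fun z hz => (Algebra.IsIntegral.isIntegral (R := A) (⟨z, hz⟩ : C)).map C.val
  have hinjSpec : Function.Injective (PrimeSpectrum.comap (Subalgebra.inclusion hCR).toRingHom) := by
    haveI := hUI inferInstance hCR
    exact (AlgebraicGeometry.Spec.map (CommRingCat.ofHom (Subalgebra.inclusion hCR).toRingHom)).injective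
  obtain ⟨ι, ⟨F⟩⟩ := nonempty_family (A := A)
  letI : Algebra C R := (Subalgebra.inclusion hCR).toRingHom.toAlgebra
  haveI : IsScalarTower A C R := IsScalarTower.of_algebraMap_eq fun _ => rfl
  haveI : Algebra.IsIntegral A R := ⟨fun x => (isIntegral_algHom_iff R.val Subtype.val_injective).1 x.2⟩
  haveI : Algebra.IsIntegral C R := Algebra.IsIntegral.tower_top A
  have hint : ∀ y : K, IsIntegral C y ↔ y ∈ R := fun y =>
    ⟨fun h => isIntegral_trans (R := A) y h, fun h => h.tower_top⟩
  haveI : IsFractionRing R K := by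
    haveI : FaithfulSMul R K := (faithfulSMul_iff_algebraMap_injective R K).2 Subtype.val_injective
    refine IsFractionRing.of_field R K fun z => ?_
    obtain ⟨a, b, -, rfl⟩ := IsFractionRing.div_surjective A (K := K) z
    exact ⟨algebraMap A R a, algebraMap A R b, rfl⟩
  -- comparison of primes
  have hover : ∀ P : Ideal R, P.IsPrime → ∀ P' : Ideal R, P'.IsPrime →
      P.comap (algebraMap C R) ≤ P'.comap (algebraMap C R) → P ≤ P' := by
    intro P hP P' hP' hle
    haveI := hP
    obtain ⟨Q, hQle, hQ, hQc⟩ := Ideal.exists_ideal_over_prime_of_isIntegral (P'.comap (algebraMap C R)) P hle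
    have : Q = P' := congrArg PrimeSpectrum.asIdeal (hinjSpec (a₁ := ⟨Q, hQ⟩) (a₂ := ⟨P', hP'⟩) (PrimeSpectrum.ext hQc))
    exact this ▸ hQle
  have hsurj : ∀ p : Ideal C, p.IsPrime → ∃ P : Ideal R, P.IsPrime ∧ P.comap (algebraMap C R) = p := by
    intro p hp
    obtain ⟨Q, -, hQ, hQc⟩ := Ideal.exists_ideal_over_prime_of_isIntegral p (⊥ : Ideal R) (by
      rw [← RingHom.ker_eq_comap_bot, show RingHom.ker (algebraMap C R) = ⊥ from
        (RingHom.injective_iff_ker_eq_bot _).1 (Subalgebra.inclusion_injective hCR)]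
      exact bot_le)
    exact ⟨Q, hQ, hQc⟩
  let e : PrimeSpectrum R ≃o PrimeSpectrum C :=
    { toEquiv := Equiv.ofBijective (PrimeSpectrum.comap (algebraMap C R)) ⟨hinjSpec, fun p => by
        obtain ⟨P, hP, hPc⟩ := hsurj p.asIdeal p.2
        exact ⟨⟨P, hP⟩, PrimeSpectrum.ext hPc⟩⟩
      map_rel_iff' := fun {a b} => ⟨fun h => hover a.asIdeal a.2 b.asIdeal b.2 h, fun h => Ideal.comap_mono h⟩ }
  have hht : ∀ (P : Ideal R) [P.IsPrime], (P.comap (algebraMap C R)).height = P.height := fun P _ => by
    have h := Order.height_orderIso e (⟨P, inferInstance⟩ : PrimeSpectrum R)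
    rw [← PrimeSpectrum.height_eq_orderHeight, ← PrimeSpectrum.height_eq_orderHeight] at h
    exact h
  -- denominators can be taken in `C`
  have hden : ∀ (P : Ideal R) [P.IsPrime] (r : R), r ∉ P → ∃ s : C, s ∉ P.comap (algebraMap C R) ∧ r ∣ algebraMap C R s := by
    intro P _ r hr
    by_contra! h
    have hle : (Ideal.span {r}).comap (algebraMap C R) ≤ P.comap (algebraMap C R) := fun s hs => by
      by_contra hsP
      exact h s hsP (Ideal.mem_span_singleton.1 hs)
    obtain ⟨Q, hQle, hQ, hQc⟩ :=
      Ideal.exists_ideal_over_prime_of_isIntegral (P.comap (algebraMap C R)) (Ideal.span {r}) hle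
    have : Q = P := congrArg PrimeSpectrum.asIdeal
      (hinjSpec (a₁ := ⟨Q, hQ⟩) (a₂ := ⟨P, ‹_›⟩) (PrimeSpectrum.ext hQc))
    exact hr (this ▸ hQle (Ideal.subset_span rfl))
  have hiff : ∀ (P : Ideal R) [P.IsPrime] (x : K),
      (∃ s : C, s ∉ P.comap (algebraMap C R) ∧ IsIntegral C ((s : K) * x)) ↔
        ∃ s r : R, s ∉ P ∧ algebraMap R K s * x = algebraMap R K r := by
    intro P _ x
    constructor
    · rintro ⟨s, hs, hsx⟩
      exact ⟨algebraMap C R s, ⟨_, (hint _).1 hsx⟩, hs, rfl⟩
    · rintro ⟨s, r, hs, hsr⟩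
      obtain ⟨t, ht, w, hw⟩ := hden P s hs
      refine ⟨t, ht, (hint _).2 ?_⟩
      have : (t : K) * x = ((w * r : R) : K) := by
        rw [show (t : K) = algebraMap R K (algebraMap C R t) from rfl, hw, map_mul, mul_comm (algebraMap R K s),
          mul_assoc, hsr]
        rfl
      rw [this]
      exact (w * r).2
  refine ⟨C, hC.1, fun p _ hp => ?_, fun x => ⟨fun hx p _ _ => ?_, fun hx => ?_⟩, fun x => ?_⟩
  · obtain ⟨P, hP, rfl⟩ := hsurj p inferInstance
    haveI := hP
    obtain ⟨c, hc⟩ := F.exists_uniformizer_of_height_one P (by rw [← hht P]; exact hp)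
    obtain ⟨V, hV, hVmem⟩ := hc.exists_valuationSubring (K := K)
    exact ⟨V, hV, fun x => (hVmem x).trans (hiff P x).symm⟩
  · exact ⟨1, fun h => Ideal.IsPrime.ne_top ‹_› ((Ideal.eq_top_iff_one p).2 h),
      (hint _).2 (by rw [OneMemClass.coe_one, one_mul]; exact hx)⟩
  · obtain ⟨a, b, hb, rfl⟩ := IsFractionRing.div_surjective R (K := K) x
    have hb0 : algebraMap R K b ≠ 0 := IsFractionRing.to_map_ne_zero_of_mem_nonZeroDivisors hb
    obtain ⟨w, hw⟩ : b ∣ a := by
      refine F.dvd_of_forall_height_one (nonZeroDivisors.ne_zero hb) fun P hP hP1 => ?_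
      haveI := hP
      obtain ⟨s, r, hs, hsr⟩ := (hiff P _).1 (hx (P.comap (algebraMap C R)) (by rw [hht P]; exact hP1))
      refine ⟨s, hs, r, IsFractionRing.injective R K ?_⟩
      rw [map_mul, map_mul, ← hsr, ← mul_assoc, mul_comm (algebraMap R K b), mul_assoc, mul_div_cancel₀ _ hb0]
    rw [hw, map_mul, mul_div_cancel_left₀ _ hb0]
    exact w.2
  · obtain ⟨a, b, hb, rfl⟩ := IsFractionRing.div_surjective R (K := K) x
    have hb0 : algebraMap R K b ≠ 0 := IsFractionRing.to_map_ne_zero_of_mem_nonZeroDivisors hb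
    let centre : ι → Set R := fun i => {r | F.val i r ≠ 0}
    refine Set.Finite.subset ((F.finite b (nonZeroDivisors.ne_zero hb)).image
      (fun i => if h : ∃ P : Ideal R, (P : Set R) = centre i then h.choose.comap (algebraMap C R) else ⊥)) ?_
    rintro p ⟨hp, hp1, hno⟩
    haveI := hp
    obtain ⟨P, hP, rfl⟩ := hsurj p hp
    haveI := hP
    have hndvd : ¬ b ∣ a := fun ⟨w, hw⟩ => hno ((hiff P _).2 ⟨1, w,
      fun h => hP.ne_top ((Ideal.eq_top_iff_one P).2 h), by
        rw [map_one, one_mul, hw, map_mul, mul_div_cancel_left₀ _ hb0]⟩)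
    have hP1 : P.height = 1 := by rw [← hht P]; exact hp1
    by_cases hbP : b ∈ P
    · obtain ⟨c, i, -, hi, hPi⟩ := F.exists_centre_of_height_one P hP1 hbP (nonZeroDivisors.ne_zero hb)
      refine ⟨i, hi, ?_⟩
      have hset : (P : Set R) = centre i := Set.ext hPi
      have hex : ∃ P : Ideal R, (P : Set R) = centre i := ⟨P, hset⟩
      simp only [dif_pos hex]
      congr 1
      exact SetLike.coe_injective (hex.choose_spec.trans hset.symm)
    · exact absurd ((hiff P _).2 ⟨b, a, hbP, by rw [mul_div_cancel₀ _ hb0]⟩) hno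

end GrothLib.MoriNagata
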