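import Mathlib.RingTheory.DiscreteValuationRing.Basic
import Mathlib.RingTheory.Valuation.ValuationSubring
import Mathlib.RingTheory.Ideal.Height
import Mathlib.Data.ENat.Basic

/-!
Domains defined by a finite-character family of discrete valuations: height one primes suffice.
-/

set_option autoImplicit false

namespace GrothLib.Krull

universe u v

variable {R : Type u} [CommRing R] [IsDomain R]

/-- Divisibility in `R` is tested by a finite-character family of `ℕ∞`-valued multiplicative functions. -/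
structure Family (R : Type u) [CommRing R] (ι : Type v) where
  val : ι → R → ℕ∞
  val_mul : ∀ i x y, val i (x * y) = val i x + val i y
  val_ne_top : ∀ i x, x ≠ 0 → val i x ≠ ⊤
  finite : ∀ b : R, b ≠ 0 → {i | val i b ≠ 0}.Finite
  dvd : ∀ a b : R, b ≠ 0 → (∀ i, val i b ≤ val i a) → b ∣ a

/-- A uniformizer at a prime. -/
def IsUniformizer (P : Ideal R) (c : R) : Prop :=
  c ∈ P ∧ c ≠ 0 ∧ ∀ z : R, z ≠ 0 → ∃ (n : ℕ) (u w : R), u ∉ P ∧ w ∉ P ∧ u * z = c ^ n * w

theorem IsUniformizer.height_eq_one {P : Ideal R} [P.IsPrime] {c : R} (h : IsUniformizer P c) : P.height = 1 := by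
  have hmin : ∀ Q : Ideal R, Q.IsPrime → Q ≠ ⊥ → Q ≤ P → Q = P := by
    intro Q hQ hQ0 hQP
    haveI := hQ
    have hcQ : c ∈ Q := by
      obtain ⟨z, hzQ, hz0⟩ := Submodule.exists_mem_ne_zero_of_ne_bot hQ0
      obtain ⟨n, u, w, hu, hw, he⟩ := h.2.2 z hz0
      refine hQ.mem_of_pow_mem n ((hQ.mem_or_mem (show c ^ n * w ∈ Q from he ▸ Q.mul_mem_left u hzQ)).resolve_right
        fun hwQ => hw (hQP hwQ))
    refine le_antisymm hQP fun z hz => ?_
    by_cases hz0 : z = 0
    · subst hz0; exact zero_mem _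
    obtain ⟨n, u, w, hu, hw, he⟩ := h.2.2 z hz0
    rcases n with _ | n
    · exact absurd (by rw [pow_zero, one_mul] at he; exact he ▸ P.mul_mem_left u hz) hw
    · exact (hQ.mem_or_mem (show u * z ∈ Q by
        rw [he, pow_succ, mul_comm (c ^ n) c, mul_assoc]; exact Q.mul_mem_right _ hcQ)).resolve_left
        fun huQ => hu (hQP huQ)
  have hP0 : P ≠ ⊥ := fun h0 => h.2.1 (by simpa [h0] using h.1)
  refine le_antisymm ?_ ?_
  · rw [show (1 : ℕ∞) = ((1 : ℕ) : ℕ∞) from rfl, Ideal.height_le_iff]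
    intro Q hQ hlt
    have hQ0 : Q = ⊥ := by
      by_contra h0
      exact hlt.ne (hmin Q hQ h0 hlt.le)
    subst hQ0
    rw [Ideal.height_bot]
    exact one_pos
  · have := Ideal.height_add_one_le_of_lt_of_isPrime (bot_lt_iff_ne_bot.2 hP0)
    rwa [Ideal.height_bot, zero_add] at this

variable {ι : Type v} (F : Family R ι)

theorem Family.val_one [Nonempty ι] (i : ι) : F.val i 1 = 0 := by
  have h := F.val_mul i 1 1
  rw [one_mul] at h
  have hne := F.val_ne_top i 1 one_ne_zero
  lift F.val i 1 to ℕ using hne with k hk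
  have : k = k + k := by exact_mod_cast h
  simp; omega

/-- The defect of divisibility of `a` by `b`. -/
noncomputable def Family.defect (a b : R) (hb : b ≠ 0) : ℕ :=
  ∑ i ∈ (F.finite b hb).toFinset, ((F.val i b).toNat - (F.val i a).toNat)

/-- A failure of divisibility is witnessed at a prime with a uniformizer. -/
theorem Family.exists_prime_of_not_dvd {a b : R} (hb : b ≠ 0) (hab : ¬ b ∣ a) :
    ∃ (P : Ideal R) (c : R), P.IsPrime ∧ IsUniformizer P c ∧ (∀ s, s ∉ P → ¬ b ∣ s * a) ∧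
      ∃ i, F.val i b ≠ 0 ∧ ∀ r, r ∈ P ↔ F.val i r ≠ 0 := by
  classical
  -- minimal multiple
  have hex : ∃ N, ∃ r : R, ¬ b ∣ r * a ∧ F.defect (r * a) b hb = N :=
    ⟨_, 1, by rwa [one_mul], rfl⟩
  obtain ⟨r0, hr0, hN⟩ := Nat.find_spec hex
  let y := r0 * a
  have hy0 : y ≠ 0 := fun h => hr0 (by show b ∣ y; rw [h]; exact dvd_zero b)
  obtain ⟨i, hi⟩ : ∃ i, F.val i y < F.val i b := by
    by_contra! h
    exact hr0 (F.dvd y b hb h)
  have hib : F.val i b ≠ 0 := fun h => not_lt_bot (h ▸ hi : F.val i y < 0)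
  have hiS : i ∈ (F.finite b hb).toFinset := (F.finite b hb).mem_toFinset.2 hib
  have htoNat : ∀ (j : ι) (z : R), z ≠ 0 → ((F.val j z).toNat : ℕ∞) = F.val j z := fun j z hz =>
    ENat.coe_toNat (F.val_ne_top j z hz)
  have hlt : (F.val i y).toNat < (F.val i b).toNat := by
    rw [← htoNat i y hy0, ← htoNat i b hb] at hi
    exact_mod_cast hi
  -- the key dichotomy
  have hkey : ∀ r : R, b ∣ r * y ↔ F.val i r ≠ 0 := by
    intro r
    constructor
    · intro ⟨d, hd⟩ hr
      have h1 := F.val_mul i r y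
      rw [hd, F.val_mul, hr, zero_add] at h1
      exact absurd (le_self_add.trans h1.le) (not_le.2 hi)
    · intro hr
      by_cases hr0' : r = 0
      · rw [hr0', zero_mul]; exact dvd_zero b
      by_contra hndvd
      have hmin := Nat.find_min' hex (m := F.defect (r * y) b hb) ⟨r * r0, by rwa [mul_assoc], by rw [mul_assoc]⟩
      refine absurd (hN ▸ hmin) (not_le.2 ?_)
      refine Finset.sum_lt_sum (fun j _ => ?_) ⟨i, hiS, ?_⟩
      · rw [F.val_mul, ENat.toNat_add (F.val_ne_top j r hr0') (F.val_ne_top j y hy0)]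
        show _ ≤ (F.val j b).toNat - (F.val j y).toNat
        omega
      · rw [F.val_mul, ENat.toNat_add (F.val_ne_top i r hr0') (F.val_ne_top i y hy0)]
        show _ < (F.val i b).toNat - (F.val i y).toNat
        have : 0 < (F.val i r).toNat := by
          by_contra h
          push Not at h
          refine hr ?_
          rw [← htoNat i r hr0', Nat.le_zero.1 h]
          rfl
        omega
  let P : Ideal R := Submodule.comap (LinearMap.mulRight R y) (Ideal.span {b})
  have hP : ∀ r, r ∈ P ↔ b ∣ r * y := fun r => Ideal.mem_span_singleton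
  have hPi : ∀ r, r ∈ P ↔ F.val i r ≠ 0 := fun r => (hP r).trans (hkey r)
  haveI hPprime : P.IsPrime := by
    refine ⟨fun h => hr0 ?_, fun {x z} hxz => ?_⟩
    · have := (hP 1).1 (h ▸ Submodule.mem_top)
      rwa [one_mul] at this
    · rw [hPi, F.val_mul] at hxz
      rw [hPi, hPi]
      by_contra! h
      exact hxz (by rw [h.1, h.2, add_zero])
  obtain ⟨c, hcP, d, hd, hdP⟩ : ∃ c ∈ P, ∃ d, c * y = b * d ∧ d ∉ P := by
    by_contra! h
    -- every element of `P` is mapped into `P`; so `y / b` is almost integral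
    have hbP : b ∈ P := (hP b).2 (dvd_mul_right b y)
    have hall : ∀ n : ℕ, ∃ d ∈ P, b * y ^ n = b ^ n * d := by
      intro n
      induction n with
      | zero => exact ⟨b, hbP, by simp⟩
      | succ n ih =>
        obtain ⟨d, hdP, hd⟩ := ih
        obtain ⟨d', hd'⟩ := (hP d).1 hdP
        refine ⟨d', h d hdP d' hd', ?_⟩
        rw [pow_succ, ← mul_assoc, hd, mul_assoc, hd', pow_succ, mul_assoc]
    obtain ⟨d, -, hd⟩ := hall ((F.val i b).toNat + 1)
    have h1 := congrArg (F.val i) hd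
    have hpow : ∀ (z : R) (n : ℕ), z ≠ 0 → (F.val i (z ^ n)).toNat = n * (F.val i z).toNat := by
      intro z n hz
      induction n with
      | zero =>
        haveI : Nonempty ι := ⟨i⟩
        rw [pow_zero, F.val_one]; simp
      | succ n ih =>
        rw [pow_succ, F.val_mul, ENat.toNat_add (F.val_ne_top i _ (pow_ne_zero n hz)) (F.val_ne_top i z hz), ih]
        ring
    have hd0 : d ≠ 0 := fun h0 => (mul_ne_zero hb (pow_ne_zero _ hy0)) (by rw [hd, h0, mul_zero])
    rw [F.val_mul, F.val_mul] at h1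
    have h2 := congrArg ENat.toNat h1
    rw [ENat.toNat_add (F.val_ne_top i b hb) (F.val_ne_top i _ (pow_ne_zero _ hy0)),
      ENat.toNat_add (F.val_ne_top i _ (pow_ne_zero _ hb)) (F.val_ne_top i d hd0), hpow y _ hy0, hpow b _ hb] at h2
    nlinarith
  have hd0 : d ≠ 0 := fun h0 => hdP (by rw [h0]; exact zero_mem _)
  have hc0 : c ≠ 0 := fun h0 => hdP (by
    rw [h0, zero_mul] at hd
    rw [(mul_eq_zero.1 hd.symm).resolve_left hb]; exact zero_mem _)
  refine ⟨P, c, hPprime, ⟨hcP, hc0, fun z hz => ?_⟩, fun s hs hdvd => hs ((hP s).2 ?_), i, hib, hPi⟩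
  · suffices H : ∀ (k : ℕ) (z : R), z ≠ 0 → (F.val i z).toNat = k →
        ∃ (n : ℕ) (u w : R), u ∉ P ∧ w ∉ P ∧ u * z = c ^ n * w from H _ z hz rfl
    intro k
    induction k using Nat.strong_induction_on with
    | _ k ih =>
    intro z hz hk
    by_cases hzP : z ∈ P
    · obtain ⟨z1, hz1⟩ := (hP z).1 hzP
      have he : z * d = c * z1 := mul_left_cancel₀ hb (by linear_combination c * hz1 - z * hd)
      have hz10 : z1 ≠ 0 := fun h0 => (mul_ne_zero hz hd0) (by rw [he, h0, mul_zero])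
      have hlt1 : (F.val i z1).toNat < k := by
        have h1 := congrArg ENat.toNat (congrArg (F.val i) he)
        rw [F.val_mul, F.val_mul, ENat.toNat_add (F.val_ne_top i z hz) (F.val_ne_top i d hd0),
          ENat.toNat_add (F.val_ne_top i c hc0) (F.val_ne_top i z1 hz10)] at h1
        have hdz : F.val i d = 0 := not_not.1 (mt (hPi d).2 hdP)
        rw [hdz] at h1
        have hcpos : 0 < (F.val i c).toNat := by
          by_contra h
          push Not at h
          refine (hPi c).1 hcP ?_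
          rw [← htoNat i c hc0, Nat.le_zero.1 h]
          rfl
        simp at h1
        omega
      obtain ⟨n, u, w, hu, hw, hn⟩ := ih _ hlt1 z1 hz10 rfl
      refine ⟨n + 1, u * d, w, fun h => (hPprime.mem_or_mem h).elim hu hdP, hw, ?_⟩
      linear_combination u * he + c * hn
    · exact ⟨0, 1, z, fun h => hPprime.ne_top ((Ideal.eq_top_iff_one P).2 h), hzP, by simp⟩
  · show b ∣ s * (r0 * a)
    rw [mul_left_comm]
    exact dvd_mul_of_dvd_right hdvd r0

include F in
/-- Elements divisible at all height one primes are divisible. -/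
theorem Family.dvd_of_forall_height_one {a b : R} (hb : b ≠ 0)
    (h : ∀ P : Ideal R, P.IsPrime → P.height = 1 → ∃ s, s ∉ P ∧ b ∣ s * a) : b ∣ a := by
  by_contra hab
  obtain ⟨P, c, hP, hc, hno, -⟩ := F.exists_prime_of_not_dvd hb hab
  obtain ⟨s, hs, hdvd⟩ := h P hP hc.height_eq_one
  exact hno s hs hdvd

include F in
/-- Every height one prime has a uniformizer and is a centre of the family. -/
theorem Family.exists_centre_of_height_one (P : Ideal R) [P.IsPrime] (hP : P.height = 1) {b : R} (hbP : b ∈ P)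
    (hb : b ≠ 0) : ∃ c i, IsUniformizer P c ∧ F.val i b ≠ 0 ∧ ∀ r, r ∈ P ↔ F.val i r ≠ 0 := by
  classical
  by_contra hno
  have hG : ∀ (Q : Ideal R) (c : R), Q.IsPrime → IsUniformizer Q c →
      (∃ i, F.val i b ≠ 0 ∧ ∀ r, r ∈ Q ↔ F.val i r ≠ 0) → ¬ Q ≤ P := fun Q c hQ hc ⟨i, hi⟩ hle => by
    refine hno ⟨c, i, ?_⟩
    rcases hle.eq_or_lt with rfl | hlt
    · exact ⟨hc, hi⟩
    · have := Ideal.height_add_one_le_of_lt_of_isPrime hlt
      rw [hc.height_eq_one, hP] at this
      exact absurd this (by decide)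
  let T := {i ∈ (F.finite b hb).toFinset | ∃ r, r ∉ P ∧ F.val i r ≠ 0}
  choose! t htP ht using fun (i : ι) (hi : i ∈ T) => (Finset.mem_filter.1 hi).2
  let c := ∏ i ∈ T, t i
  have hcP : c ∉ P := fun h => by
    obtain ⟨i, hi, hti⟩ := (Ideal.IsPrime.prod_mem_iff).1 h
    exact htP i hi hti
  have hc0 : c ≠ 0 := fun h => hcP (h ▸ zero_mem P)
  let N := ∑ i ∈ (F.finite b hb).toFinset, (F.val i b).toNat
  have hdvd : b ∣ c ^ N := by
    by_contra hnd
    obtain ⟨Q, cQ, hQ, hcQ, hQno, i, hib, hQi⟩ := F.exists_prime_of_not_dvd hb hnd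
    obtain ⟨r, hrQ, hrP⟩ := SetLike.not_le_iff_exists.1 (hG Q cQ hQ hcQ ⟨i, hib, hQi⟩)
    have hiT : i ∈ T := Finset.mem_filter.2 ⟨(F.finite b hb).mem_toFinset.2 hib, r, hrP, (hQi r).1 hrQ⟩
    have htQ : t i ∈ Q := (hQi _).2 (ht i hiT)
    have hcQ' : c ∈ Q := (Ideal.IsPrime.prod_mem_iff (p := Q)).2 ⟨i, hiT, htQ⟩
    -- at `Q` the power `c ^ N` is divisible enough
    obtain ⟨n, u, w, hu, hw, he⟩ := hcQ.2.2 b hb
    obtain ⟨m, u', w', hu', hw', he'⟩ := hcQ.2.2 c hc0
    have hm : 0 < m := Nat.pos_of_ne_zero fun h0 => hw' (by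
      rw [h0, pow_zero, one_mul] at he'
      exact he' ▸ Q.mul_mem_left u' hcQ')
    have hpow : ∀ (z : R) (k : ℕ), z ≠ 0 → (F.val i (z ^ k)).toNat = k * (F.val i z).toNat := by
      intro z k hz
      induction k with
      | zero =>
        haveI : Nonempty ι := ⟨i⟩
        rw [pow_zero, F.val_one]; simp
      | succ k ih =>
        rw [pow_succ, F.val_mul, ENat.toNat_add (F.val_ne_top i _ (pow_ne_zero k hz)) (F.val_ne_top i z hz), ih]
        ring
    have hn : n ≤ N := by
      have h1 := congrArg (fun x => (F.val i x).toNat) he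
      have hu0 : u ≠ 0 := fun h0 => hu (h0 ▸ zero_mem Q)
      have hw0 : w ≠ 0 := fun h0 => hw (h0 ▸ zero_mem Q)
      simp only [F.val_mul] at h1
      rw [not_not.1 (mt (hQi u).2 hu), not_not.1 (mt (hQi w).2 hw), zero_add, add_zero, hpow cQ n hcQ.2.1] at h1
      have h2 : 0 < (F.val i cQ).toNat := by
        by_contra h
        push Not at h
        refine (hQi cQ).1 hcQ.1 ?_
        rw [← ENat.coe_toNat (F.val_ne_top i cQ hcQ.2.1), Nat.le_zero.1 h]
        rfl
      have h3 : (F.val i b).toNat ≤ N :=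
        Finset.single_le_sum (f := fun i => (F.val i b).toNat) (fun _ _ => Nat.zero_le _)
          ((F.finite b hb).mem_toFinset.2 hib)
      nlinarith
    refine hQno (u' ^ N * w) (fun h => (hQ.mem_or_mem h).elim (fun h' => hu' (hQ.mem_of_pow_mem N h')) hw)
      ⟨u * cQ ^ (m * N - n) * w' ^ N, ?_⟩
    have hmn : n + (m * N - n) = m * N := by
      have : 1 * N ≤ m * N := Nat.mul_le_mul_right N hm
      omega
    calc u' ^ N * w * c ^ N = w * (u' * c) ^ N := by ring
      _ = w * (cQ ^ m * w') ^ N := by rw [he']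
      _ = (cQ ^ n * w) * cQ ^ (m * N - n) * w' ^ N := by
        rw [mul_pow, ← pow_mul, show cQ ^ (m * N) = cQ ^ n * cQ ^ (m * N - n) by rw [← pow_add, hmn]]; ring
      _ = b * (u * cQ ^ (m * N - n) * w' ^ N) := by rw [← he]; ring
  exact hcP (Ideal.IsPrime.mem_of_pow_mem ‹P.IsPrime› N (Ideal.mem_of_dvd _ hdvd hbP))

include F in
/-- Every height one prime has a uniformizer. -/
theorem Family.exists_uniformizer_of_height_one (P : Ideal R) [P.IsPrime] (hP : P.height = 1) :
    ∃ c, IsUniformizer P c := by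
  have hP0 : P ≠ ⊥ := fun h => by rw [h, Ideal.height_bot] at hP; exact zero_ne_one hP
  obtain ⟨b, hbP, hb⟩ := Submodule.exists_mem_ne_zero_of_ne_bot hP0
  obtain ⟨c, -, hc, -⟩ := F.exists_centre_of_height_one P hP hbP hb
  exact ⟨c, hc⟩

/-- The discrete valuation ring at a prime with a uniformizer. -/
theorem IsUniformizer.exists_valuationSubring {K : Type u} [Field K] [Algebra R K] [IsFractionRing R K]
    {P : Ideal R} [P.IsPrime] {c : R} (h : IsUniformizer P c) :
    ∃ V : ValuationSubring K, IsDiscreteValuationRing V ∧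
      ∀ x : K, x ∈ V ↔ ∃ (s r : R), s ∉ P ∧ algebraMap R K s * x = algebraMap R K r := by
  classical
  have hinj := IsFractionRing.injective R K
  have hne : ∀ {s : R}, s ∉ P → algebraMap R K s ≠ 0 := fun {s} hs h0 =>
    hs ((hinj (h0.trans (map_zero _).symm)) ▸ zero_mem P)
  have h1 : (1 : R) ∉ P := fun h1 => ‹P.IsPrime›.ne_top ((Ideal.eq_top_iff_one P).2 h1)
  let S : Subring K :=
    { carrier := {x | ∃ s r : R, s ∉ P ∧ algebraMap R K s * x = algebraMap R K r}
      mul_mem' := by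
        rintro x z ⟨s, r, hs, hr⟩ ⟨s', r', hs', hr'⟩
        exact ⟨s * s', r * r', fun h => (‹P.IsPrime›.mem_or_mem h).elim hs hs', by
          rw [map_mul, map_mul, ← hr, ← hr']; ring⟩
      one_mem' := ⟨1, 1, h1, by simp⟩
      add_mem' := by
        rintro x z ⟨s, r, hs, hr⟩ ⟨s', r', hs', hr'⟩
        exact ⟨s * s', r * s' + s * r', fun h => (‹P.IsPrime›.mem_or_mem h).elim hs hs', by
          rw [map_mul, map_add, map_mul, map_mul, ← hr, ← hr']; ring⟩
      zero_mem' := ⟨1, 0, h1, by simp⟩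
      neg_mem' := by
        rintro x ⟨s, r, hs, hr⟩
        exact ⟨s, -r, hs, by rw [map_neg, ← hr]; ring⟩ }
  -- normal form
  have hform : ∀ x : K, x ≠ 0 → ∃ (n m : ℕ) (u w : R), u ∉ P ∧ w ∉ P ∧
      x * (algebraMap R K c ^ m * algebraMap R K u) = algebraMap R K c ^ n * algebraMap R K w := by
    intro x hx
    obtain ⟨r, s, hs, rfl⟩ := IsFractionRing.div_surjective R x
    have hr : r ≠ 0 := fun h0 => hx (by rw [h0, map_zero, zero_div])
    have hs0 : algebraMap R K s ≠ 0 := IsFractionRing.to_map_ne_zero_of_mem_nonZeroDivisors hs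
    obtain ⟨n, u, w, hu, hw, he⟩ := h.2.2 r hr
    obtain ⟨m, u', w', hu', hw', he'⟩ := h.2.2 s (nonZeroDivisors.ne_zero hs)
    refine ⟨n, m, u * w', u' * w, fun h => (‹P.IsPrime›.mem_or_mem h).elim hu hw',
      fun h => (‹P.IsPrime›.mem_or_mem h).elim hu' hw, mul_right_cancel₀ hs0 ?_⟩
    rw [div_mul_eq_mul_div, div_mul_cancel₀ _ hs0, map_mul, map_mul, ← map_pow, ← map_pow, ← map_mul, ← map_mul,
      ← map_mul, ← map_mul, ← map_mul, ← map_mul]
    congr 1
    linear_combination (c ^ m * w') * he - (c ^ n * w) * he'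
  have hc0 : algebraMap R K c ≠ 0 := fun h0 => h.2.1 (hinj (h0.trans (map_zero _).symm))
  have hge : ∀ (x : K) (n m : ℕ) (u w : R), u ∉ P →
      x * (algebraMap R K c ^ m * algebraMap R K u) = algebraMap R K c ^ n * algebraMap R K w → m ≤ n → x ∈ S := by
    intro x n m u w hu he hmn
    refine ⟨u, c ^ (n - m) * w, hu, mul_left_cancel₀ (pow_ne_zero m hc0) ?_⟩
    rw [map_mul, map_pow, ← mul_assoc (algebraMap R K c ^ m) (algebraMap R K c ^ (n - m)), ← pow_add,
      Nat.add_sub_cancel' hmn, ← he]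
    ring
  let V : ValuationSubring K := ValuationSubring.ofSubring S fun x => by
    by_cases hx : x = 0
    · exact Or.inl (hx ▸ S.zero_mem)
    obtain ⟨n, m, u, w, hu, hw, he⟩ := hform x hx
    rcases le_total m n with hmn | hmn
    · exact Or.inl (hge x n m u w hu he hmn)
    · refine Or.inr (hge x⁻¹ m n w u hw ?_ hmn)
      rw [← he, inv_mul_cancel_left₀ hx]
  let cV : V := ⟨algebraMap R K c, 1, c, h1, by simp⟩
  have hmem : ∀ {x : K}, x ∈ V ↔ ∃ (s r : R), s ∉ P ∧ algebraMap R K s * x = algebraMap R K r := Iff.rfl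
  have hunit : ∀ {x : V} {s r : R}, s ∉ P → r ∉ P → algebraMap R K s * x.1 = algebraMap R K r → IsUnit x := by
    intro x s r hs hr he
    refine isUnit_iff_exists_inv.2 ⟨⟨x.1⁻¹, r, s, hr, ?_⟩, Subtype.ext (mul_inv_cancel₀ fun h0 => hne hr ?_)⟩
    · rw [← he, mul_assoc, mul_inv_cancel₀, mul_one]
      intro h0
      exact hne hr (by rw [← he, h0, mul_zero])
    · rw [← he, h0, mul_zero]
  have hnotunit : ¬ IsUnit cV := by
    intro hu
    obtain ⟨d, hd⟩ := hu.exists_right_inv
    obtain ⟨s, r, hs, hr⟩ := d.2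
    have hd' : algebraMap R K c * d.1 = 1 := congrArg Subtype.val hd
    have : algebraMap R K (r * c) = algebraMap R K s := by
      rw [map_mul, ← hr, mul_assoc, mul_comm d.1, hd', mul_one]
    exact hs (hinj this ▸ P.mul_mem_left r h.1)
  have hdec : ∀ x : V, x ≠ 0 → ∃ n : ℕ, Associated (cV ^ n) x := by
    intro x hx
    obtain ⟨s, r, hs, hr⟩ := x.2
    have hr0 : r ≠ 0 := by
      intro h0
      rw [h0, map_zero, mul_eq_zero] at hr
      exact hr.elim (hne hs) fun h1 => hx (Subtype.ext h1)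
    obtain ⟨n, u, w, hu, hw, he⟩ := h.2.2 r hr0
    have hsu : s * u ∉ P := fun h => (‹P.IsPrime›.mem_or_mem h).elim hs hu
    let e : V := ⟨algebraMap R K w / algebraMap R K (s * u), s * u, w, hsu, mul_div_cancel₀ _ (hne hsu)⟩
    have he' : IsUnit e := hunit (x := e) hsu hw (mul_div_cancel₀ _ (hne hsu))
    refine ⟨n, he'.unit, Subtype.ext ?_⟩
    show algebraMap R K c ^ n * (algebraMap R K w / algebraMap R K (s * u)) = x.1
    rw [← mul_div_assoc, div_eq_iff (hne hsu), ← map_pow, ← map_mul, ← he, map_mul, map_mul, ← hr]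
    ring
  have hirr : Irreducible cV := by
    refine ⟨hnotunit, fun x z hxz => ?_⟩
    have hx : x ≠ 0 := fun h0 => hc0 (by rw [h0, zero_mul] at hxz; exact congrArg Subtype.val hxz)
    have hz : z ≠ 0 := fun h0 => hc0 (by rw [h0, mul_zero] at hxz; exact congrArg Subtype.val hxz)
    obtain ⟨n, eu, hn⟩ := hdec x hx
    obtain ⟨m, eu', hm⟩ := hdec z hz
    by_contra! hboth
    rcases n with _ | n
    · exact hboth.1 (by rw [← hn, pow_zero, one_mul]; exact eu.isUnit)
    rcases m with _ | m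
    · exact hboth.2 (by rw [← hm, pow_zero, one_mul]; exact eu'.isUnit)
    refine hnotunit (isUnit_iff_exists_inv.2 ⟨cV ^ (n + m) * ↑eu * ↑eu', ?_⟩)
    have hcV : cV ≠ 0 := fun h0 => hc0 (congrArg Subtype.val h0)
    refine mul_left_cancel₀ hcV ?_
    calc cV * (cV * (cV ^ (n + m) * ↑eu * ↑eu')) = (cV ^ (n + 1) * ↑eu) * (cV ^ (m + 1) * ↑eu') := by ring
      _ = cV * 1 := by rw [hn, hm, ← hxz, mul_one]
  refine ⟨V, IsDiscreteValuationRing.ofHasUnitMulPowIrreducibleFactorization ⟨cV, hirr, fun {x} hx => hdec x hx⟩,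
    fun x => hmem⟩

end GrothLib.Krull
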