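import Groth.Agent.Lib.N2.AnUnram
import Groth.Agent.Lib.N2.Completion

/-!
Nagata local rings via analytically unramified finite local domains.
-/

set_option autoImplicit false

open TensorProduct IsLocalRing

namespace GrothLib.N2

universe u

section

variable {A : Type u} [CommRing A] [IsLocalRing A] [IsNoetherianRing A]
  (S : Type u) [CommRing S] [Algebra A S]

/-- `Â ⊗ S → S / mⁿ S`. -/
noncomputable def piMap (n : ℕ) : AdicCompletion (maximalIdeal A) A ⊗[A] S →ₐ[A]
    S ⧸ (maximalIdeal A ^ n).map (algebraMap A S) :=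
  Algebra.TensorProduct.lift
    ((Ideal.Quotient.liftₐ (maximalIdeal A ^ n)
      (Algebra.ofId A (S ⧸ (maximalIdeal A ^ n).map (algebraMap A S))) (fun a ha => by
        show algebraMap A (S ⧸ (maximalIdeal A ^ n).map (algebraMap A S)) a = 0
        rw [IsScalarTower.algebraMap_apply A S, Ideal.Quotient.algebraMap_eq, Ideal.Quotient.eq_zero_iff_mem]
        exact Ideal.mem_map_of_mem _ ha)).comp (AdicCompletion.evalₐ (maximalIdeal A) n))
    (Ideal.Quotient.mkₐ A _) fun _ _ => Commute.all _ _

theorem mem_of_piMap_eq_zero (n : ℕ) (z : AdicCompletion (maximalIdeal A) A ⊗[A] S)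
    (h : piMap S n z = 0) :
    z ∈ ((maximalIdeal A ^ n).map (algebraMap A (AdicCompletion (maximalIdeal A) A ⊗[A] S))) := by
  let Â := AdicCompletion (maximalIdeal A) A
  let B := Â ⊗[A] S
  let J : Ideal B := (maximalIdeal A ^ n).map (algebraMap A B)
  show z ∈ J
  have key : ∀ w : B, ∃ s : S, w - (1 : Â) ⊗ₜ s ∈ J := by
    intro w
    induction w using TensorProduct.induction_on with
    | zero => exact ⟨0, by simp⟩
    | tmul c s =>
      obtain ⟨r, hr⟩ := Ideal.Quotient.mk_surjective (AdicCompletion.evalₐ (maximalIdeal A) n c)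
      refine ⟨r • s, ?_⟩
      have hc : c - algebraMap A Â r ∈ (maximalIdeal A ^ n).map (algebraMap A Â) := by
        rw [← Submodule.restrictScalars_mem A, ← Ideal.smul_top_eq_map,
          AdicCompletion.pow_smul_top_eq_ker_eval (maximalIdeal A).fg_of_isNoetherianRing, LinearMap.mem_ker,
          ← AdicCompletion.factor_evalₐ_eq_eval (maximalIdeal A) _ (le_of_eq (Ideal.mul_top _).symm), map_sub,
          AlgHom.commutes, Ideal.Quotient.algebraMap_eq, ← hr, sub_self, map_zero]
      have h1 : c ⊗ₜ[A] s - (1 : Â) ⊗ₜ (r • s) = (c - algebraMap A Â r) ⊗ₜ[A] s := by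
        rw [sub_tmul, Algebra.algebraMap_eq_smul_one, smul_tmul]
      rw [h1, show (c - algebraMap A Â r) ⊗ₜ[A] s = ((c - algebraMap A Â r) ⊗ₜ[A] (1 : S)) * ((1 : Â) ⊗ₜ s) by simp]
      refine Ideal.mul_mem_right _ _ ?_
      have h2 := Ideal.mem_map_of_mem (Algebra.TensorProduct.includeLeftRingHom : Â →+* B) hc
      rw [Ideal.map_map] at h2
      exact h2
    | add a b ha hb =>
      obtain ⟨s, hs⟩ := ha
      obtain ⟨t, ht⟩ := hb
      exact ⟨s + t, by rw [tmul_add, add_sub_add_comm]; exact add_mem hs ht⟩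
  obtain ⟨s, hs⟩ := key z
  have hker : J ≤ RingHom.ker (piMap S n (A := A)).toRingHom := by
    rw [Ideal.map_le_iff_le_comap]
    intro a ha
    rw [Ideal.mem_comap, RingHom.mem_ker, AlgHom.toRingHom_eq_coe, RingHom.coe_coe, AlgHom.commutes,
      IsScalarTower.algebraMap_apply A S, Ideal.Quotient.algebraMap_eq, Ideal.Quotient.eq_zero_iff_mem]
    exact Ideal.mem_map_of_mem _ ha
  have hps : piMap S n ((1 : Â) ⊗ₜ s) = Ideal.Quotient.mk _ s := by
    rw [piMap, Algebra.TensorProduct.lift_tmul, map_one, one_mul]; rfl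
  have h0 : s ∈ (maximalIdeal A ^ n).map (algebraMap A S) := by
    rw [← Ideal.Quotient.eq_zero_iff_mem, ← hps]
    have := hker hs
    rw [RingHom.mem_ker, AlgHom.toRingHom_eq_coe, RingHom.coe_coe, map_sub, h, zero_sub, neg_eq_zero] at this
    exact this
  have h1 : (1 : Â) ⊗ₜ[A] s ∈ J := by
    have h2 := Ideal.mem_map_of_mem (Algebra.TensorProduct.includeRight : S →ₐ[A] B).toRingHom h0
    rw [Ideal.map_map, AlgHom.toRingHom_eq_coe, AlgHom.comp_algebraMap] at h2
    exact h2
  simpa using add_mem hs h1

theorem piMap_factor {m n : ℕ} (h : m ≤ n) (z : AdicCompletion (maximalIdeal A) A ⊗[A] S) :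
    Ideal.Quotient.factor (Ideal.map_mono (Ideal.pow_le_pow_right h)) (piMap S n z) = piMap S m z := by
  induction z using TensorProduct.induction_on with
  | zero => simp
  | tmul c s =>
    simp only [piMap, Algebra.TensorProduct.lift_tmul, map_mul, AlgHom.comp_apply]
    congr 1
    rw [← AdicCompletion.factor_eval_eq_evalₐ (maximalIdeal A) c (le_of_eq (Ideal.mul_top _)),
      ← AdicCompletion.factor_eval_eq_evalₐ (maximalIdeal A) (n := m) c (le_of_eq (Ideal.mul_top _))]
    obtain ⟨x, rfl⟩ : ∃ x, x = c := ⟨c, rfl⟩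
    rw [AdicCompletion.eval_apply, AdicCompletion.eval_apply, ← x.2 h]
    obtain ⟨a, ha⟩ := Submodule.Quotient.mk_surjective _ (x.1 n)
    rw [← ha]
    rfl
  | add a b ha hb => simp [ha, hb]

theorem isReduced_tensor_of_completion [IsLocalRing S] [IsLocalHom (algebraMap A S)] [Module.Finite A S]
    [IsReduced (AdicCompletion (maximalIdeal S) S)] :
    IsReduced (AdicCompletion (maximalIdeal A) A ⊗[A] S) := by
  haveI : IsNoetherianRing S := IsNoetherianRing.of_finite A S
  let B := AdicCompletion (maximalIdeal A) A ⊗[A] S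
  have hle : ∀ n, (maximalIdeal A ^ n).map (algebraMap A S) ≤ maximalIdeal S ^ n := fun n => by
    rw [Ideal.map_pow]
    exact Ideal.pow_right_mono (((local_hom_TFAE (algebraMap A S)).out 0 2 rfl rfl).1 inferInstance) n
  let f : ∀ n, B →+* S ⧸ maximalIdeal S ^ n := fun n =>
    (Ideal.Quotient.factor (hle n)).comp (piMap S n (A := A)).toRingHom
  have hf : ∀ {m n : ℕ} (h : m ≤ n), (Ideal.Quotient.factorPow (maximalIdeal S) h).comp (f n) = f m :=
    fun {m n} h => RingHom.ext fun z => by
      show Ideal.Quotient.factor (Ideal.pow_le_pow_right h) (Ideal.Quotient.factor (hle n) (piMap S n z)) =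
        Ideal.Quotient.factor (hle m) (piMap S m z)
      rw [← piMap_factor S h z]
      obtain ⟨s, hs⟩ := Ideal.Quotient.mk_surjective (piMap S n z)
      rw [← hs]
      simp
  let Ψ := AdicCompletion.liftRingHom (maximalIdeal S) f hf
  refine isReduced_of_injective Ψ ((injective_iff_map_eq_zero _).2 fun z hz => ?_)
  obtain ⟨c, hc⟩ : ∃ c : ℕ, maximalIdeal S ^ c ≤ (maximalIdeal A).map (algebraMap A S) := by
    refine Ideal.exists_pow_le_of_le_radical_of_fg ?_ (IsNoetherian.noetherian _)
    rw [Ideal.radical_eq_sInf]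
    refine le_sInf fun P hP => ?_
    haveI := hP.2
    have h1 : P.comap (algebraMap A S) = maximalIdeal A :=
      ((maximalIdeal.isMaximal A).eq_of_le (Ideal.comap_ne_top _ hP.2.ne_top) (Ideal.map_le_iff_le_comap.1 hP.1)).symm
    haveI : P.IsMaximal := Ideal.isMaximal_of_isIntegral_of_isMaximal_comap P (h1 ▸ maximalIdeal.isMaximal A)
    exact (eq_maximalIdeal ‹_›).ge
  have hzn : ∀ n, piMap S n z = 0 := by
    intro n
    have h1 := AdicCompletion.evalₐ_liftRingHom (maximalIdeal S) f hf ((c + 1) * n) z
    rw [show Ψ z = AdicCompletion.liftRingHom (maximalIdeal S) f hf z from rfl] at hz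
    rw [hz, map_zero] at h1
    obtain ⟨s, hs⟩ := Ideal.Quotient.mk_surjective (piMap S ((c + 1) * n) z)
    have h2 : s ∈ maximalIdeal S ^ ((c + 1) * n) := by
      rw [← Ideal.Quotient.eq_zero_iff_mem]
      have h3 : f ((c + 1) * n) z = Ideal.Quotient.mk _ s := by
        show Ideal.Quotient.factor (hle _) (piMap S _ z) = _
        rw [← hs, Ideal.Quotient.factor_mk]
      rw [← h3]; exact h1.symm
    rw [← piMap_factor S (Nat.le_mul_of_pos_left n (Nat.succ_pos c)) z, ← hs, Ideal.Quotient.factor_mk,
      Ideal.Quotient.eq_zero_iff_mem]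
    have h4 : maximalIdeal S ^ ((c + 1) * n) ≤ (maximalIdeal A ^ n).map (algebraMap A S) := by
      rw [pow_mul, Ideal.map_pow]
      exact Ideal.pow_right_mono ((Ideal.pow_le_pow_right (Nat.le_succ c)).trans hc) n
    exact h4 h2
  haveI : IsNoetherianRing (AdicCompletion (maximalIdeal A) A) := inferInstance
  refine IsHausdorff.haus (I := maximalIdeal (AdicCompletion (maximalIdeal A) A))
    (IsHausdorff.of_isLocalRing _ B (maximalIdeal.isMaximal _).ne_top) z fun n => ?_
  rw [SModEq.sub_mem, sub_zero]
  have h5 := mem_of_piMap_eq_zero S n z (hzn n)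
  rw [IsScalarTower.algebraMap_eq A (AdicCompletion (maximalIdeal A) A) B, ← Ideal.map_map, Ideal.map_pow,
    ← AdicCompletion.maximalIdeal_eq_map, ← Submodule.restrictScalars_mem (AdicCompletion (maximalIdeal A) A),
    ← Ideal.smul_top_eq_map] at h5
  exact h5

end

theorem isReduced_tensor_of_isFractionRing {A B S L : Type u} [CommRing A] [CommRing B] [Algebra A B]
    [Module.Flat A B] [CommRing S] [IsDomain S] [Algebra A S] [CommRing L] [IsDomain L] [Algebra A L] [Algebra S L]
    [IsScalarTower A S L] [IsFractionRing S L] [IsReduced (B ⊗[A] S)] : IsReduced (B ⊗[A] L) := by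
  let g : B ⊗[A] S →ₐ[A] B ⊗[A] L := Algebra.TensorProduct.map (AlgHom.id A B) (IsScalarTower.toAlgHom A S L)
  have hg : Function.Injective g :=
    Module.Flat.lTensor_preserves_injective_linearMap (M := B) (IsScalarTower.toAlgHom A S L).toLinearMap
      (IsFractionRing.injective S L)
  have hg1 : ∀ r : S, g ((1 : B) ⊗ₜ r) = (1 : B) ⊗ₜ algebraMap S L r := fun r => rfl
  have hgsurj : ∀ y : B ⊗[A] L, ∃ (s : S) (u : B ⊗[A] S), s ∈ nonZeroDivisors S ∧
      y * ((1 : B) ⊗ₜ algebraMap S L s) = g u := by
    intro y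
    induction y using TensorProduct.induction_on with
    | zero => exact ⟨1, 0, one_mem _, by simp⟩
    | tmul c z =>
      obtain ⟨⟨a, s⟩, hs⟩ := IsLocalization.surj (nonZeroDivisors S) z
      refine ⟨s, c ⊗ₜ a, s.2, ?_⟩
      rw [Algebra.TensorProduct.tmul_mul_tmul, mul_one]
      exact congrArg (c ⊗ₜ[A] ·) hs
    | add y w hy hw =>
      obtain ⟨s, u, hs, hu⟩ := hy
      obtain ⟨t, v, ht, hv⟩ := hw
      refine ⟨s * t, u * ((1 : B) ⊗ₜ t) + v * ((1 : B) ⊗ₜ s), mul_mem hs ht, ?_⟩
      have hst : (1 : B) ⊗ₜ[A] algebraMap S L (s * t) =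
          ((1 : B) ⊗ₜ algebraMap S L s) * ((1 : B) ⊗ₜ algebraMap S L t) := by
        rw [Algebra.TensorProduct.tmul_mul_tmul, mul_one, map_mul]
      simp only [map_add g, map_mul g, hg1]
      rw [← hu, ← hv, hst]
      ring
  refine ⟨fun y ⟨k, hk⟩ => ?_⟩
  obtain ⟨s, u, hs, hu⟩ := hgsurj y
  have hu0 : u = 0 := IsReduced.eq_zero u ⟨k, hg (by rw [map_pow, ← hu, mul_pow, hk, zero_mul, map_zero])⟩
  rw [hu0, map_zero] at hu
  have hunit : IsUnit ((1 : B) ⊗ₜ[A] algebraMap S L s) :=
    (IsLocalization.map_units L (⟨s, hs⟩ : nonZeroDivisors S)).map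
      (Algebra.TensorProduct.includeRight : L →ₐ[A] B ⊗[A] L)
  exact hunit.mul_left_eq_zero.1 hu

/-- A local domain finite below: a finite local subdomain with the same fraction field. -/
theorem isNagata_of_forall_analyticallyUnramified {R : Type u} [CommRing R] [IsLocalRing R] [IsNoetherianRing R]
    (h : ∀ (S : Type u) [CommRing S] [IsDomain S] [IsLocalRing S] [Algebra R S]
      [IsLocalHom (algebraMap R S)] [Module.Finite R S],
      IsReduced (AdicCompletion (maximalIdeal S) S)) : CAlg.IsNagata R := by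
  classical
  refine ⟨inferInstance, fun p _ => ?_⟩
  intro L _ _ _ _ hL
  haveI := hL
  let A := R ⧸ p
  haveI : IsLocalRing A := IsLocalRing.of_surjective' (Ideal.Quotient.mk p) Ideal.Quotient.mk_surjective
  let Â := AdicCompletion (maximalIdeal A) A
  let K := FractionRing A
  haveI : Algebra.EssFiniteType A K := Algebra.EssFiniteType.of_isLocalization _ (nonZeroDivisors A)
  haveI : Algebra.EssFiniteType A L := Algebra.EssFiniteType.comp A K L
  by_cases hfld : IsField A
  · haveI : Module.Finite A K :=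
      Module.Finite.of_surjective (Algebra.linearMap A K) (IsFractionRing.surjective_iff_isField.2 hfld)
    haveI : Module.Finite A L := Module.Finite.trans K L
    exact Module.Finite.of_injective (integralClosure A L).val.toLinearMap Subtype.val_injective
  suffices hred : IsReduced (Â ⊗[A] L) by
    haveI := hred
    haveI := faithfullyFlat_completion (A := A)
    exact finite_integralClosure_of_faithfullyFlat (B := Â) (GrothLib.Cohen.isNagata_of_isAdicComplete Â)
  -- integral basis
  let b := Module.finBasis K L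
  have hb : ∀ j, ∃ m : nonZeroDivisors A, IsIntegral A (m • b j) := fun j =>
    IsIntegral.exists_multiple_integral_of_isLocalization (Rₘ := K) (nonZeroDivisors A) (b j)
      (Algebra.IsIntegral.isIntegral _)
  choose m hm using hb
  let T := Algebra.adjoin A (Set.range fun j => m j • b j)
  haveI : Module.Finite A T :=
    ⟨(Submodule.fg_top _).2 (fg_adjoin_of_finite (Set.finite_range _) fun x hx => by
      obtain ⟨j, rfl⟩ := hx; exact hm j)⟩
  -- the local subring
  let J : Ideal T := (maximalIdeal A).map (algebraMap A T)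
  let S := Algebra.adjoin A ((fun t : T => (t : L)) '' (J : Set T))
  have hST : S ≤ T := Algebra.adjoin_le (by rintro _ ⟨t, -, rfl⟩; exact t.2)
  haveI : Module.Finite A S :=
    Module.Finite.of_injective (Subalgebra.inclusion hST).toLinearMap (Subalgebra.inclusion_injective hST)
  haveI : IsNoetherianRing S := IsNoetherianRing.of_finite A S
  have hcomap : ∀ M : Ideal S, M.IsMaximal → M.comap (algebraMap A S) = maximalIdeal A := fun M hM =>
    haveI := hM
    eq_maximalIdeal (Ideal.isMaximal_comap_of_isIntegral_of_isMaximal M)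
  have hJS : ∀ t ∈ J, (t : L) ∈ S := fun t ht => Algebra.subset_adjoin ⟨t, ht, rfl⟩
  have hgen : ∀ M : Ideal S, M.IsMaximal → ∀ t : T, ∀ ht : t ∈ J, (⟨(t : L), hJS t ht⟩ : S) ∈ M := by
    intro M hM t ht
    refine hM.isPrime.mem_of_pow_mem 2 ?_
    suffices H : ∀ u : T, u ∈ J → ∀ w : S, (w : L) = (t : L) * u → w ∈ M from
      H t ht _ (by rw [pow_two]; rfl)
    intro u hu
    have hu' : u ∈ (maximalIdeal A • ⊤ : Submodule A T) := by
      rw [Ideal.smul_top_eq_map, Submodule.restrictScalars_mem]; exact hu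
    refine Submodule.smul_induction_on hu' ?_ ?_
    · intro x hx a _ w hw
      have hta : t * a ∈ J := J.mul_mem_right _ ht
      have hw' : w = algebraMap A S x * ⟨((t * a : T) : L), hJS _ hta⟩ := Subtype.ext (by
        rw [hw, Subalgebra.coe_smul, Algebra.smul_def]
        show _ = algebraMap A L x * ((t : L) * (a : L))
        ring)
      rw [hw']
      exact M.mul_mem_right _ (Ideal.mem_comap.1 ((hcomap M hM).symm ▸ hx))
    · intro a c ha hc w hw
      by_cases hta : (t : L) * a ∈ S
      · have htc : (w : L) - (t : L) * a = (t : L) * c := by rw [hw, Subalgebra.coe_add, mul_add, add_sub_cancel_left]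
        have hw' : w = (⟨(t : L) * a, hta⟩ : S) + (w - ⟨(t : L) * a, hta⟩) := by ring
        rw [hw']
        exact M.add_mem (ha _ rfl) (hc _ (by rw [Subalgebra.coe_sub]; exact htc))
      · exact absurd (hJS (t * a) (J.mul_mem_right _ ht)) hta
  have happrox : ∀ s : S, ∃ a : A, ∀ M : Ideal S, M.IsMaximal → s - algebraMap A S a ∈ M := by
    rintro ⟨s, hs⟩
    induction hs using Algebra.adjoin_induction with
    | mem s hs =>
      obtain ⟨t, ht, rfl⟩ := hs
      exact ⟨0, fun M hM => by rw [map_zero, sub_zero]; exact hgen M hM t ht⟩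
    | algebraMap a => exact ⟨a, fun M hM => by
        convert M.zero_mem
        exact sub_eq_zero.2 rfl⟩
    | add x y hx hy ihx ihy =>
      obtain ⟨a, ha⟩ := ihx
      obtain ⟨c, hc⟩ := ihy
      refine ⟨a + c, fun M hM => ?_⟩
      have := M.add_mem (ha M hM) (hc M hM)
      convert this using 1
      rw [map_add, sub_add_sub_comm]
      rfl
    | mul x y hx hy ihx ihy =>
      obtain ⟨a, ha⟩ := ihx
      obtain ⟨c, hc⟩ := ihy
      refine ⟨a * c, fun M hM => ?_⟩
      have := M.add_mem (M.mul_mem_right ⟨y, hy⟩ (ha M hM)) (M.mul_mem_left (algebraMap A S a) (hc M hM))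
      convert this using 1
      rw [map_mul, sub_mul, mul_sub, sub_add_sub_cancel]
      rfl
  obtain ⟨M₀, hM₀⟩ := Ideal.exists_maximal S
  haveI : IsLocalRing S := IsLocalRing.of_unique_max_ideal ⟨M₀, hM₀, fun M hM => by
    refine SetLike.ext fun s => ?_
    obtain ⟨a, ha⟩ := happrox s
    have hiff : ∀ N : Ideal S, N.IsMaximal → (s ∈ N ↔ a ∈ maximalIdeal A) := fun N hN => by
      rw [← hcomap N hN, Ideal.mem_comap]
      constructor
      · intro h
        simpa using N.sub_mem h (ha N hN)
      · intro h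
        simpa using N.add_mem h (ha N hN)
    rw [hiff M hM, hiff M₀ hM₀]⟩
  haveI : IsLocalHom (algebraMap A S) := ((local_hom_TFAE (algebraMap A S)).out 0 4 rfl rfl).2
    (hcomap (maximalIdeal S) (maximalIdeal.isMaximal S))
  letI : Algebra R S := ((algebraMap A S).comp (Ideal.Quotient.mk p)).toAlgebra
  haveI : IsLocalHom (algebraMap R S) := by
    haveI : IsLocalHom (Ideal.Quotient.mk p) := IsLocalHom.of_surjective _ Ideal.Quotient.mk_surjective
    exact RingHom.isLocalHom_comp (algebraMap A S) (Ideal.Quotient.mk p)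
  haveI : IsScalarTower R A S := IsScalarTower.of_algebraMap_eq fun _ => rfl
  haveI : Module.Finite R A := Module.Finite.of_surjective (Algebra.linearMap R A) Ideal.Quotient.mk_surjective
  haveI : Module.Finite R S := Module.Finite.trans A S
  haveI := h S
  haveI : IsReduced (Â ⊗[A] S) := isReduced_tensor_of_completion S
  -- `L` is a localization of `S`
  haveI : IsFractionRing S L := by
    haveI : FaithfulSMul S L := (faithfulSMul_iff_algebraMap_injective S L).2 Subtype.val_injective
    refine IsFractionRing.of_field S L fun z => ?_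
    obtain ⟨x, hx, hx0⟩ : ∃ x ∈ maximalIdeal A, x ≠ 0 :=
      Submodule.exists_mem_ne_zero_of_ne_bot fun h0 => hfld (IsLocalRing.isField_iff_maximalIdeal_eq.2 h0)
    · have hxL : algebraMap A L x ≠ 0 := by
        rw [IsScalarTower.algebraMap_apply A K L, map_ne_zero]
        exact IsFractionRing.to_map_ne_zero_of_mem_nonZeroDivisors (mem_nonZeroDivisors_of_ne_zero hx0)
      obtain ⟨d, hd⟩ := IsLocalization.exist_integer_multiples_of_finite (nonZeroDivisors A) (fun j => b.repr z j)
      choose c hc using hd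
      let M : A := d.1 * ∏ j, (m j).1
      have hML : algebraMap A L M ≠ 0 := by
        rw [IsScalarTower.algebraMap_apply A K L, map_ne_zero]
        exact IsFractionRing.to_map_ne_zero_of_mem_nonZeroDivisors (mul_mem d.2 (prod_mem fun j _ => (m j).2))
      have hzT : algebraMap A L M * z ∈ T := by
        rw [← b.sum_repr z, Finset.mul_sum]
        refine Subalgebra.sum_mem _ fun j _ => ?_
        have heq : algebraMap A L M * (b.repr z j • b j) =
            algebraMap A L (c j * ∏ i ∈ Finset.univ.erase j, (m i).1) * (m j • b j) := by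
          have h1 : algebraMap A L (c j) = algebraMap A L d.1 * algebraMap K L (b.repr z j) := by
            rw [IsScalarTower.algebraMap_apply A K L, hc, Algebra.smul_def, map_mul,
              ← IsScalarTower.algebraMap_apply]
          have hMj : M = d.1 * ((∏ i ∈ Finset.univ.erase j, (m i).1) * (m j).1) := by
            rw [Finset.prod_erase_mul _ _ (Finset.mem_univ j)]
          rw [hMj, map_mul, map_mul, map_mul, h1, Submonoid.smul_def, Algebra.smul_def, Algebra.smul_def]
          ring
        rw [heq]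
        exact mul_mem (Subalgebra.algebraMap_mem _ _) (Algebra.subset_adjoin ⟨j, rfl⟩)
      have hnum : algebraMap A L x * (algebraMap A L M * z) ∈ S :=
        hJS (algebraMap A T x * (⟨_, hzT⟩ : T)) (J.mul_mem_right _ (Ideal.mem_map_of_mem _ hx))
      refine ⟨⟨_, hnum⟩, algebraMap A S (x * M), ?_⟩
      show z = algebraMap A L x * (algebraMap A L M * z) / algebraMap A L (x * M)
      rw [map_mul (algebraMap A L) x M, ← mul_assoc, mul_div_cancel_left₀ z (mul_ne_zero hxL hML)]
  exact isReduced_tensor_of_isFractionRing (A := A) (B := Â) (S := S) (L := L)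

end GrothLib.N2

namespace GrothLib.N2

universe v

theorem isNagata_of_finite {R S : Type v} [CommRing R] (hR : CAlg.IsNagata R) [CommRing S] [Algebra R S]
    [Module.Finite R S] : CAlg.IsNagata S := by
  haveI := hR.1
  refine ⟨IsNoetherianRing.of_finite R S, fun P _ => ?_⟩
  let q := P.comap (algebraMap R S)
  letI : Algebra (R ⧸ q) (S ⧸ P) := (Ideal.quotientMap P (algebraMap R S) le_rfl).toAlgebra
  haveI : Module.Finite (R ⧸ q) (S ⧸ P) := RingHom.Finite.of_comp_finite (f := Ideal.Quotient.mk q)
    (g := Ideal.quotientMap P (algebraMap R S) le_rfl) (by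
      rw [Ideal.quotientMap_comp_mk]
      exact ((RingHom.Finite.of_surjective _ Ideal.Quotient.mk_surjective).comp
        (RingHom.finite_algebraMap.2 ‹Module.Finite R S›)))
  exact GrothLib.Cohen.isN2_of_finite Ideal.quotientMap_injective (hR.2 q)

theorem isNagata_iff_analyticallyUnramified (R : Type v) [CommRing R] [IsLocalRing R] [IsNoetherianRing R] :
    CAlg.IsNagata R ↔ ∀ (S : Type v) [CommRing S] [IsDomain S] [IsLocalRing S] [Algebra R S]
      [IsLocalHom (algebraMap R S)] [Module.Finite R S],
      IsReduced (AdicCompletion (IsLocalRing.maximalIdeal S) S) :=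
  ⟨fun h S _ _ _ _ _ _ => isReduced_completion (isNagata_of_finite h), isNagata_of_forall_analyticallyUnramified⟩

end GrothLib.N2
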