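import Groth.Agent.Lib.NormalSerre.AssPrincipal
import Groth.Agent.Lib.N2.Local
import Groth.Agent.Lib.AdicExtra.Completion
import Mathlib.RingTheory.Flat.FaithfullyFlat.Algebra
import Mathlib.RingTheory.AdicCompletion.Noetherian
import Mathlib.LinearAlgebra.TensorProduct.RightExactness
import Mathlib.RingTheory.Flat.TorsionFree
import Mathlib.RingTheory.AdicCompletion.AsTensorProduct
import Mathlib.RingTheory.AdicCompletion.LocalRing
import Mathlib.RingTheory.Filtration

/-!
Nagata local rings are analytically unramified.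
-/

set_option autoImplicit false

open TensorProduct

namespace GrothLib.N2

universe u

open IsLocalRing

/-- A uniformizer at a height one prime of a normal Noetherian domain. -/
theorem exists_uniformizer_forall {A : Type u} [CommRing A] [IsDomain A] [IsNoetherianRing A] [IsIntegrallyClosed A]
    (p : Ideal A) [p.IsPrime] (hp : p.height = 1) :
    ∃ π ∈ p, π ≠ 0 ∧ (∀ y ∈ p, ∃ t ∉ p, π ∣ t * y) ∧
      ∀ x : A, x ≠ 0 → ∃ (e : ℕ) (t a : A), t ∉ p ∧ a ∉ p ∧ t * x = π ^ e * a := by
  let L := Localization.AtPrime p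
  haveI : IsDomain L := IsLocalization.isDomain_localization p.primeCompl_le_nonZeroDivisors
  haveI : IsIntegrallyClosed L :=
    isIntegrallyClosed_of_isLocalization L p.primeCompl p.primeCompl_le_nonZeroDivisors
  haveI : IsNoetherianRing L := IsLocalization.isNoetherianRing p.primeCompl L inferInstance
  have hinj : Function.Injective (algebraMap A L) := IsLocalization.injective L p.primeCompl_le_nonZeroDivisors
  have h1 : (maximalIdeal L).height = 1 := by
    rw [← IsLocalization.height_under p.primeCompl (maximalIdeal L),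
      show (maximalIdeal L).under A = p from IsLocalization.AtPrime.comap_maximalIdeal L p, hp]
  haveI : Ring.DimensionLEOne L := ⟨fun {P} hP hPp => by
    by_contra hmax
    have hlt : P < maximalIdeal L := lt_of_le_of_ne (le_maximalIdeal hPp.ne_top)
      fun e => hmax (e ▸ maximalIdeal.isMaximal L)
    have hb : (⊥ : Ideal L) < P := bot_lt_iff_ne_bot.2 hP
    have h2 := Ideal.height_strict_mono_of_isPrime_of_isPrime hb
    have h3 := Ideal.height_strict_mono_of_isPrime_of_isPrime hlt
    rw [Ideal.height_bot] at h2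
    exact absurd (h3.trans_le h1.le) (not_lt.2 (Order.one_le_iff_pos.2 h2))⟩
  haveI : IsDedekindRing L := { }
  haveI : IsDedekindDomain L := { }
  haveI : IsPrincipalIdealRing L := IsPrincipalIdealRing.of_finite_primes
    (Set.Finite.subset ((Set.finite_singleton (maximalIdeal L)).insert ⊥) fun P (hP : P.IsPrime) => by
      by_cases h : P = ⊥
      · exact Or.inl h
      · exact Or.inr (eq_maximalIdeal (hP.isMaximal h)))
  haveI : IsDiscreteValuationRing L :=
    { not_a_field' := fun h => by rw [h, Ideal.height_bot] at h1; exact zero_ne_one h1 }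
  obtain ⟨ϖ, hϖ⟩ := IsDiscreteValuationRing.exists_irreducible L
  obtain ⟨⟨π, s⟩, hs⟩ := IsLocalization.surj p.primeCompl ϖ
  have hu : ∀ t : p.primeCompl, IsUnit (algebraMap A L t) := IsLocalization.map_units L
  have hπirr : Irreducible (algebraMap A L π) := by
    rw [← hs, irreducible_mul_isUnit (hu s)]; exact hϖ
  have hmem : ∀ y : A, y ∈ p ↔ algebraMap A L π ∣ algebraMap A L y := fun y => by
    rw [← Ideal.mem_span_singleton, ← hπirr.maximalIdeal_eq]
    exact SetLike.ext_iff.1 (IsLocalization.AtPrime.comap_maximalIdeal L p).symm y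
  refine ⟨π, (hmem π).2 dvd_rfl, fun h => hπirr.ne_zero (by rw [h, map_zero]), fun y hy => ?_, ?_⟩
  · obtain ⟨c, hc⟩ := (hmem y).1 hy
    obtain ⟨⟨c', t⟩, ht⟩ := IsLocalization.surj p.primeCompl c
    refine ⟨t, t.2, c', hinj ?_⟩
    rw [map_mul, map_mul, hc, ← ht]; ring
  · intro x hx
    obtain ⟨e, u, hue⟩ := IsDiscreteValuationRing.eq_unit_mul_pow_irreducible ((map_ne_zero_iff _ hinj).2 hx) hπirr
    obtain ⟨⟨a, t⟩, ht⟩ := IsLocalization.surj p.primeCompl (u : L)
    refine ⟨e, t, a, t.2, ?_, hinj ?_⟩
    · intro ha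
      exact hπirr.not_isUnit (isUnit_of_dvd_unit ((hmem a).1 ha) (ht ▸ u.isUnit.mul (hu t)))
    · rw [map_mul, map_mul, map_pow, hue, ← ht]; ring

/-- The uniformizer and the order of one element. -/
theorem exists_uniformizer {A : Type u} [CommRing A] [IsDomain A] [IsNoetherianRing A] [IsIntegrallyClosed A]
    (p : Ideal A) [p.IsPrime] (hp : p.height = 1) {x : A} (hx : x ≠ 0) :
    ∃ π ∈ p, π ≠ 0 ∧ (∀ y ∈ p, ∃ t ∉ p, π ∣ t * y) ∧
      ∃ (e : ℕ) (t a : A), t ∉ p ∧ a ∉ p ∧ t * x = π ^ e * a := by
  obtain ⟨π, h1, h2, h3, h4⟩ := exists_uniformizer_forall p hp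
  exact ⟨π, h1, h2, h3, h4 x hx⟩

/-- In a flat algebra over a domain, reduced modulo the associated primes of `x`, which have uniformizers,
nilpotents are divisible by `x`. -/
theorem nilpotent_mem_of_uniformizer {A B : Type u} [CommRing A] [IsDomain A] [IsNoetherianRing A]
    [CommRing B] [Algebra A B] [Module.Flat A B] {x : A}
    (hunif : ∀ p ∈ associatedPrimes A (A ⧸ Ideal.span {x}), ∃ π ∈ p, π ≠ 0 ∧ (∀ y ∈ p, ∃ t ∉ p, π ∣ t * y) ∧
      ∃ (e : ℕ) (t a : A), t ∉ p ∧ a ∉ p ∧ t * x = π ^ e * a)
    (hred : ∀ p : Ideal A, p.IsPrime → x ∈ p → IsReduced (B ⧸ p.map (algebraMap A B)))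
    {f : B} (hf : IsNilpotent f) : algebraMap A B x ∣ f := by
  classical
  have hreg : ∀ a : A, a ≠ 0 → IsSMulRegular B a := fun a ha =>
    Module.Flat.isSMulRegular_of_isRegular (isRegular_iff_ne_zero.2 ha)
  have hnil : ∀ (a : A) (g : B), a ≠ 0 → IsNilpotent (algebraMap A B a * g) → IsNilpotent g := by
    rintro a g ha ⟨m, hm⟩
    refine ⟨m, hreg (a ^ m) (pow_ne_zero _ ha) ?_⟩
    show a ^ m • g ^ m = a ^ m • 0
    rw [smul_zero, Algebra.smul_def, map_pow, ← mul_pow, hm]
  let N := A ⧸ Ideal.span {x}
  let J : Ideal A := Submodule.comap ((LinearMap.mulRight A f).comp (Algebra.linearMap A B))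
    ((Ideal.span {algebraMap A B x}).restrictScalars A)
  have hJ : ∀ a, a ∈ J ↔ algebraMap A B x ∣ algebraMap A B a * f := fun a => by
    show algebraMap A B a * f ∈ Ideal.span {algebraMap A B x} ↔ _
    rw [Ideal.mem_span_singleton]
  have hloc : ∀ p ∈ associatedPrimes A N, ¬ J ≤ p := by
    intro p hp hle
    haveI := hp.isPrime
    obtain ⟨π, hπp, hπ0, hunif, e, t, a, ht, ha, hxe⟩ := hunif p hp
    have hxp : x ∈ p := by
      obtain ⟨-, z, hz⟩ := isAssociatedPrime_iff.1 (AssociatedPrimes.mem_iff.1 hp)
      obtain ⟨c, rfl⟩ := Ideal.Quotient.mk_surjective z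
      rw [hz, Submodule.mem_colon_singleton, Submodule.mem_bot]
      show x • Ideal.Quotient.mk _ c = 0
      rw [Algebra.smul_def, Ideal.Quotient.algebraMap_eq, ← map_mul, Ideal.Quotient.eq_zero_iff_mem,
        Ideal.mem_span_singleton]
      exact dvd_mul_right x c
    have key : ∀ k : ℕ, ∃ s ∉ p, ∃ g : B, IsNilpotent g ∧
        algebraMap A B s * f = algebraMap A B (π ^ k) * g := by
      intro k
      induction k with
      | zero => exact ⟨1, fun h => Ideal.IsPrime.ne_top ‹_› ((Ideal.eq_top_iff_one p).2 h), f, hf, by simp⟩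
      | succ k ih =>
        obtain ⟨s, hs, g, hg, hsg⟩ := ih
        haveI := hred p inferInstance hxp
        have hgp : g ∈ p.map (algebraMap A B) :=
          Ideal.Quotient.eq_zero_iff_mem.1 (hg.map (Ideal.Quotient.mk _)).eq_zero
        -- multiply into `π B`
        obtain ⟨u, hu, g', hg'⟩ : ∃ u ∉ p, ∃ g' : B, algebraMap A B u * g = algebraMap A B π * g' := by
          refine Submodule.span_induction (p := fun z _ => ∃ u ∉ p, ∃ g' : B,
            algebraMap A B u * z = algebraMap A B π * g') ?_ ?_ ?_ ?_ hgp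
          · rintro _ ⟨y, hy, rfl⟩
            obtain ⟨u, hu, c, hc⟩ := hunif y hy
            exact ⟨u, hu, algebraMap A B c, by rw [← map_mul, ← map_mul, hc]⟩
          · exact ⟨1, fun h => Ideal.IsPrime.ne_top ‹_› ((Ideal.eq_top_iff_one p).2 h), 0, by simp⟩
          · rintro z w - - ⟨u, hu, g1, h1⟩ ⟨v, hv, g2, h2⟩
            refine ⟨u * v, fun h => (Ideal.IsPrime.mem_or_mem ‹_› h).elim hu hv,
              algebraMap A B v * g1 + algebraMap A B u * g2, ?_⟩
            rw [map_mul, mul_add, mul_add, mul_left_comm (algebraMap A B π), ← h1, mul_left_comm (algebraMap A B π), ← h2]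
            ring
          · rintro c z - ⟨u, hu, g1, h1⟩
            exact ⟨u, hu, c * g1, by rw [smul_eq_mul, mul_left_comm, h1, mul_left_comm]⟩
        refine ⟨u * s, fun h => (Ideal.IsPrime.mem_or_mem ‹_› h).elim hu hs, g', ?_, ?_⟩
        · exact hnil π g' hπ0 (hg' ▸ Commute.isNilpotent_mul_left (Commute.all _ _) hg)
        · rw [map_mul, mul_assoc, hsg, mul_left_comm, hg', ← mul_assoc, ← map_mul, ← pow_succ]
    obtain ⟨s, hs, g, -, hsg⟩ := key e
    refine (Ideal.IsPrime.mem_or_mem ‹p.IsPrime› (hle ((hJ (a * s)).2 ⟨algebraMap A B t * g, ?_⟩))).elim ha hs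
    rw [map_mul, mul_assoc, hsg, ← mul_assoc, ← map_mul, ← mul_assoc, ← map_mul, mul_comm x t, hxe, mul_comm a]
  haveI : Finite (associatedPrimes A N) := (associatedPrimes.finite A N).to_subtype
  obtain ⟨s, hsJ, hs⟩ : ∃ s ∈ J, s ∉ ⋃ p ∈ associatedPrimes A N, (p : Set A) := by
    by_contra! h
    obtain ⟨p, hp, hle⟩ := (Ideal.subset_union_prime_finite (associatedPrimes.finite A N) (f := id) ⊥ ⊥
      fun p hp _ _ => hp.isPrime).1 h
    exact hloc p hp hle
  rw [biUnion_associatedPrimes_eq_zero_divisors] at hs
  have hinjN : Function.Injective (LinearMap.lsmul A N s) := by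
    rw [injective_iff_map_eq_zero]
    intro z hz
    by_contra hz0
    exact hs ⟨z, hz0, hz⟩
  have h2 := Module.Flat.lTensor_preserves_injective_linearMap (M := B) _ hinjN
  obtain ⟨c, hc⟩ := (hJ s).1 hsJ
  have h3 : f ⊗ₜ[A] (1 : N) = 0 := h2 (by
    rw [map_zero, LinearMap.lTensor_tmul, LinearMap.lsmul_apply, tmul_smul, smul_tmul', Algebra.smul_def, hc,
      ← Algebra.smul_def, smul_tmul,
      show x • (1 : N) = 0 by
        rw [Algebra.smul_def, mul_one, Ideal.Quotient.algebraMap_eq, Ideal.Quotient.eq_zero_iff_mem]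
        exact Ideal.subset_span rfl, tmul_zero])
  have h4 := congrArg (TensorProduct.tensorQuotEquivQuotSMul B (Ideal.span {x})) h3
  rw [map_zero, show (1 : N) = Ideal.Quotient.mk _ 1 from rfl, TensorProduct.tensorQuotEquivQuotSMul_tmul_mk,
    one_smul, Submodule.Quotient.mk_eq_zero, Ideal.smul_top_eq_map, Submodule.restrictScalars_mem,
    Ideal.map_span, Set.image_singleton, Ideal.mem_span_singleton] at h4
  exact h4

/-- In a flat algebra over a normal domain, reduced modulo height one primes, nilpotents are divisible by `x`. -/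
theorem nilpotent_mem_of_reduced_height_one {A B : Type u} [CommRing A] [IsDomain A] [IsNoetherianRing A]
    [IsIntegrallyClosed A] [CommRing B] [Algebra A B] [Module.Flat A B] {x : A} (hx : x ≠ 0)
    (hred : ∀ p : Ideal A, p.IsPrime → x ∈ p → IsReduced (B ⧸ p.map (algebraMap A B)))
    {f : B} (hf : IsNilpotent f) : algebraMap A B x ∣ f :=
  nilpotent_mem_of_uniformizer (fun p hp =>
    haveI := hp.isPrime
    exists_uniformizer p (GrothLib.NormalSerre.height_eq_one_of_mem_associatedPrimes hx hp) hx) hred hf

/-- Completions of finite domains over a Nagata local ring are reduced. -/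
theorem isReduced_completion_tensor {A : Type u} [CommRing A] [IsLocalRing A] (hA : CAlg.IsNagata A)
    (T : Type u) [CommRing T] [IsDomain T] [Algebra A T] [Module.Finite A T] :
    IsReduced (AdicCompletion (maximalIdeal A) A ⊗[A] T) := by
  haveI := hA.1
  let Â := AdicCompletion (maximalIdeal A) A
  suffices H : ∀ q : Ideal A, ∀ (T : Type u) [CommRing T] [IsDomain T] [Algebra A T] [Module.Finite A T],
      RingHom.ker (algebraMap A T) = q → IsReduced (Â ⊗[A] T) from H _ T rfl
  intro q
  induction q using WellFoundedGT.induction with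
  | _ q ih =>
  intro T _ _ _ _ hq
  -- pass to the integral closure in the fraction field
  let L := FractionRing T
  haveI : q.IsPrime := hq ▸ RingHom.ker_isPrime _
  haveI : Algebra.EssFiniteType T L := Algebra.EssFiniteType.of_isLocalization _ (nonZeroDivisors T)
  haveI : Algebra.EssFiniteType A L := Algebra.EssFiniteType.comp A T L
  let T' := integralClosure A L
  have hT'fin : Module.Finite A T' := by
    let D := A ⧸ q
    letI : Algebra D L := (Ideal.Quotient.lift q (algebraMap A L) fun a ha => by
      rw [← hq, RingHom.mem_ker] at ha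
      rw [IsScalarTower.algebraMap_apply A T L, ha, map_zero]).toAlgebra
    haveI : IsScalarTower A D L := IsScalarTower.of_algebraMap_eq fun _ => rfl
    have hD : Function.Injective (algebraMap D L) := (injective_iff_map_eq_zero _).2 fun d hd => by
      obtain ⟨a, rfl⟩ := Ideal.Quotient.mk_surjective d
      rw [Ideal.Quotient.eq_zero_iff_mem, ← hq, RingHom.mem_ker]
      refine IsFractionRing.injective T L ?_
      rw [map_zero, ← IsScalarTower.algebraMap_apply]
      exact hd
    let K := FractionRing D
    letI : Algebra K L := (IsFractionRing.lift hD).toAlgebra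
    haveI : IsScalarTower D K L := IsScalarTower.of_algebraMap_eq fun d => (IsFractionRing.lift_algebraMap hD d).symm
    haveI : IsScalarTower A K L := IsScalarTower.of_algebraMap_eq fun a => by
      rw [IsScalarTower.algebraMap_apply A D K, ← IsScalarTower.algebraMap_apply D K L,
        ← IsScalarTower.algebraMap_apply A D L]
    haveI : Algebra.EssFiniteType K L := Algebra.EssFiniteType.of_comp A K L
    haveI : Algebra.IsAlgebraic K L := ⟨fun z => by
      obtain ⟨a, b, -, rfl⟩ := IsFractionRing.div_surjective T (K := L) z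
      rw [div_eq_mul_inv]
      refine IsIntegral.isAlgebraic (IsIntegral.mul ?_ (IsIntegral.inv ?_)) <;>
        exact ((Algebra.IsIntegral.isIntegral (R := A) _).map (IsScalarTower.toAlgHom A T L)).tower_top⟩
    haveI : FiniteDimensional K L := Algebra.finite_of_essFiniteType_of_isAlgebraic
    haveI : Module.Finite D (integralClosure D L) := hA.2 q L inferInstance
    haveI : Module.Finite A (integralClosure D L) := Module.Finite.trans D _
    haveI : IsNoetherian A (integralClosure D L) := isNoetherian_of_isNoetherianRing_of_finite _ _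
    let ι : T' →ₗ[A] integralClosure D L :=
      { toFun := fun x => ⟨x.1, x.2.tower_top⟩
        map_add' := fun _ _ => rfl
        map_smul' := fun c x => Subtype.ext rfl }
    exact Module.Finite.of_injective ι fun a b h => Subtype.ext (congrArg Subtype.val h :)
  let j : T →ₐ[A] T' := (IsScalarTower.toAlgHom A T L).codRestrict T'
    fun y => (Algebra.IsIntegral.isIntegral y).map (IsScalarTower.toAlgHom A T L)
  have hj : Function.Injective j := fun a b hab => IsFractionRing.injective T L (congrArg Subtype.val hab)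
  suffices hred : IsReduced (Â ⊗[A] T') from
    isReduced_of_injective (Algebra.TensorProduct.map (AlgHom.id A Â) j)
      (Module.Flat.lTensor_preserves_injective_linearMap (M := Â) j.toLinearMap hj)
  haveI := hT'fin
  haveI : IsNoetherianRing T' := IsNoetherianRing.of_finite A T'
  haveI : IsFractionRing T' L := by
    haveI : FaithfulSMul T' L := (faithfulSMul_iff_algebraMap_injective T' L).2 Subtype.val_injective
    refine IsFractionRing.of_field T' L fun z => ?_
    obtain ⟨a, b, -, rfl⟩ := IsFractionRing.div_surjective T (K := L) z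
    exact ⟨j a, j b, rfl⟩
  haveI : IsIntegrallyClosed T' := (isIntegrallyClosed_iff L).2 fun {z} hz =>
    ⟨⟨z, isIntegral_trans (R := A) z hz⟩, rfl⟩
  have hqT' : ∀ a : A, a ∈ q → algebraMap A T' a = 0 := fun a ha => by
    rw [← hq, RingHom.mem_ker] at ha
    rw [← j.commutes, ha, map_zero]
  by_cases hm : maximalIdeal A ≤ q
  · -- closed point: `T'` is killed by the maximal ideal
    let φ : T' →ₐ[A] Â ⊗[A] T' := Algebra.TensorProduct.includeRight
    have hφ : Function.Surjective φ := by
      intro z
      induction z using TensorProduct.induction_on with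
      | zero => exact ⟨0, map_zero _⟩
      | tmul c y =>
        obtain ⟨r, hr⟩ := Ideal.Quotient.mk_surjective (AdicCompletion.evalOneₐ (maximalIdeal A) c)
        have hc : c - algebraMap A Â r ∈ RingHom.ker (AdicCompletion.evalOneₐ (maximalIdeal A)).toRingHom := by
          rw [RingHom.mem_ker, AlgHom.toRingHom_eq_coe, RingHom.coe_coe, map_sub, AlgHom.commutes, Ideal.Quotient.algebraMap_eq, ← hr, sub_self]
        rw [AdicCompletion.ker_evalOneₐ_eq_map _ (maximalIdeal A).fg_of_isNoetherianRing] at hc
        refine ⟨r • y, ?_⟩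
        have h0 : (c - algebraMap A Â r) ⊗ₜ[A] y = 0 := by
          refine Submodule.span_induction (p := fun d _ => d ⊗ₜ[A] y = 0) ?_ ?_ ?_ ?_ hc
          · rintro _ ⟨m, hmm, rfl⟩
            rw [Algebra.algebraMap_eq_smul_one, smul_tmul, Algebra.smul_def, hqT' m (hm hmm), zero_mul, tmul_zero]
          · exact zero_tmul _ _
          · intro a b _ _ ha hb; rw [add_tmul, ha, hb, add_zero]
          · intro d a _ ha
            rw [smul_eq_mul, show (d * a) ⊗ₜ[A] y = (d ⊗ₜ[A] (1 : T')) * (a ⊗ₜ[A] y) by simp, ha, mul_zero]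
        rw [sub_tmul, sub_eq_zero] at h0
        rw [h0]
        show (1 : Â) ⊗ₜ[A] (r • y) = _
        rw [← smul_tmul, Algebra.algebraMap_eq_smul_one]
      | add a b ha hb =>
        obtain ⟨a, rfl⟩ := ha
        obtain ⟨b, rfl⟩ := hb
        exact ⟨a + b, map_add _ _ _⟩
    refine ⟨fun z hz => ?_⟩
    have hq' : (maximalIdeal A).map (algebraMap A T') = ⊥ := by
      rw [Ideal.map_eq_bot_iff_le_ker]
      exact fun a ha => RingHom.mem_ker.2 (hqT' a (hm ha))
    obtain ⟨y, rfl⟩ := hφ z
    haveI : Module.FaithfullyFlat A Â := Module.FaithfullyFlat.of_flat_of_isLocalHom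
    have hinj : Function.Injective φ := Module.FaithfullyFlat.tensorProduct_mk_injective (A := A) (B := Â) T'
    rw [(IsNilpotent.map_iff hinj).1 hz |>.eq_zero, map_zero]
  · obtain ⟨x, hxm, hxq⟩ := SetLike.not_le_iff_exists.1 hm
    letI : Algebra T' (Â ⊗[A] T') := Algebra.TensorProduct.rightAlgebra
    haveI : Module.Flat T' (Â ⊗[A] T') := by
      haveI : Module.Flat T' (T' ⊗[A] Â) := Module.Flat.baseChange A T' Â
      exact Module.Flat.of_linearEquiv
        (AlgEquiv.ofRingEquiv (f := (Algebra.TensorProduct.comm A Â T').toRingEquiv) fun r => by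
          simp [RingHom.algebraMap_toAlgebra, Algebra.TensorProduct.algebraMap_apply]).toLinearEquiv
    have hx0 : algebraMap A T' x ≠ 0 := fun h0 => hxq (by
      rw [← hq, RingHom.mem_ker]
      refine hj ?_
      rw [map_zero, j.commutes, h0])
    haveI : Module.Finite Â (Â ⊗[A] T') := inferInstance
    haveI : IsNoetherianRing Â := inferInstance
    refine ⟨fun f hf => ?_⟩
    have hstep : ∀ g : Â ⊗[A] T', IsNilpotent g → algebraMap T' (Â ⊗[A] T') (algebraMap A T' x) ∣ g := by
      refine fun g hg => nilpotent_mem_of_reduced_height_one hx0 (fun p hp hxp => ?_) hg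
      haveI := hp
      haveI := ih (RingHom.ker (algebraMap A (T' ⧸ p))) ?_ (T' ⧸ p) rfl
      · let g : T' →ₐ[A] T' ⧸ p := Ideal.Quotient.mkₐ A p
        have hker := Algebra.TensorProduct.lTensor_ker (A := Â) (g := g) Ideal.Quotient.mk_surjective
        have hk : p.map (algebraMap T' (Â ⊗[A] T')) =
            RingHom.ker (Algebra.TensorProduct.map (AlgHom.id A Â) g) := by
          rw [hker, show RingHom.ker g = p from Ideal.mk_ker]
          rfl
        rw [hk]
        exact isReduced_of_injective _ (RingHom.kerLift_injective _)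
      · refine lt_of_le_of_ne (fun a ha => ?_) ?_
        · rw [RingHom.mem_ker, IsScalarTower.algebraMap_apply A T' (T' ⧸ p), hqT' a ha, map_zero]
        · intro heq
          apply hxq
          rw [heq, RingHom.mem_ker, IsScalarTower.algebraMap_apply A T' (T' ⧸ p),
            Ideal.Quotient.algebraMap_eq, Ideal.Quotient.eq_zero_iff_mem]
          exact hxp
    -- divide repeatedly and use Krull intersection
    have hpow : ∀ n : ℕ, ∃ g, IsNilpotent g ∧ x ^ n • g = f := by
      intro n
      induction n with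
      | zero => exact ⟨f, hf, by simp⟩
      | succ n ihn =>
        obtain ⟨g, ⟨m, hgm⟩, hg⟩ := ihn
        obtain ⟨h, rfl⟩ := hstep g ⟨m, hgm⟩
        refine ⟨h, ⟨m, ?_⟩, ?_⟩
        · refine Module.Flat.isSMulRegular_of_isRegular (M := Â ⊗[A] T')
            (isRegular_iff_ne_zero.2 (pow_ne_zero m hx0)) ?_
          show (algebraMap A T' x) ^ m • h ^ m = (algebraMap A T' x) ^ m • 0
          simp only [Algebra.smul_def, map_pow, ← mul_pow, hgm, mul_zero]
        · rw [← hg, pow_succ, mul_smul]
          congr 1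
          show x • h = ((1 : Â) ⊗ₜ[A] algebraMap A T' x) * h
          rw [Algebra.algebraMap_eq_smul_one, tmul_smul, smul_mul_assoc]
          exact (congrArg (x • ·) (one_mul h)).symm
    refine IsHausdorff.haus (I := maximalIdeal Â)
      (IsHausdorff.of_isLocalRing _ _ (maximalIdeal.isMaximal Â).ne_top : IsHausdorff (maximalIdeal Â) (Â ⊗[A] T')) f fun n => ?_
    obtain ⟨g, -, hg⟩ := hpow n
    rw [SModEq.sub_mem, sub_zero, ← hg, ← algebraMap_smul Â (x ^ n)]
    refine Submodule.smul_mem_smul ?_ trivial
    rw [map_pow]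
    refine Ideal.pow_mem_pow ?_ n
    rw [AdicCompletion.maximalIdeal_eq_map]
    exact Ideal.mem_map_of_mem _ hxm

/-- A Nagata local domain is analytically unramified. -/
theorem isReduced_completion {R : Type u} [CommRing R] [IsDomain R] [IsLocalRing R] (hR : CAlg.IsNagata R) :
    IsReduced (AdicCompletion (maximalIdeal R) R) := by
  haveI := isReduced_completion_tensor hR R
  exact isReduced_of_injective (Algebra.TensorProduct.rid R R _).symm
    (Algebra.TensorProduct.rid R R (AdicCompletion (maximalIdeal R) R)).symm.injective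

end GrothLib.N2
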