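import Groth.Agent.Lib.N2.AnUnram
import Groth.Agent.Lib.N2.LocalCriterion
import Groth.Agent.S4710
import Mathlib.RingTheory.TensorProduct.Quotient

/-!
Analytic unramifiedness of `R[x]` at primes containing `x`, for `R` normal Nagata and `x` in the fraction field.
-/

set_option autoImplicit false
set_option linter.style.haveILetI false

open TensorProduct IsLocalRing Polynomial

namespace GrothLib.N2

universe u

variable {R K : Type u} [CommRing R] [Field K] [Algebra R K] [IsFractionRing R K]

/-- For normal `R`, an element `c / x` of `R[x]` with `c ∈ R` lies in `R`. -/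
theorem exists_eq_of_mul_eq [IsDomain R] [IsIntegrallyClosed R] {x y : K} (hy : y ∈ Algebra.adjoin R {x}) {c : R}
    (h : algebraMap R K c = x * y) : ∃ d, algebraMap R K d = y := by
  refine IsIntegrallyClosed.isIntegral_iff.1 ?_
  obtain ⟨p, hp⟩ := Algebra.adjoin_singleton_eq_range_aeval R x ▸ hy
  let n := p.natDegree
  let q : R[X] := ∑ i ∈ Finset.range (n + 1), Polynomial.C (p.coeff i * c ^ i) * Polynomial.X ^ (n - i)
  have hq : q.degree < (n + 1 : ℕ) := by
    refine (Polynomial.degree_sum_le _ _).trans_lt ((Finset.sup_lt_iff (WithBot.bot_lt_coe _)).2 fun i _ => ?_)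
    refine (Polynomial.degree_C_mul_X_pow_le _ _).trans_lt ?_
    exact_mod_cast Nat.lt_succ_of_le (Nat.sub_le n i)
  refine ⟨Polynomial.X ^ (n + 1) - q, Polynomial.monic_X_pow_sub hq, ?_⟩
  rw [← Polynomial.aeval_def, map_sub, map_pow, Polynomial.aeval_X, sub_eq_zero]
  have hy' : y = ∑ i ∈ Finset.range (n + 1), algebraMap R K (p.coeff i) * x ^ i := by
    rw [← hp]
    show Polynomial.aeval x p = _
    rw [Polynomial.aeval_eq_sum_range]
    exact Finset.sum_congr rfl fun i _ => Algebra.smul_def _ _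
  simp only [q, map_sum, map_mul, map_pow, Polynomial.aeval_C, Polynomial.aeval_X, h]
  calc y ^ (n + 1) = (∑ i ∈ Finset.range (n + 1), algebraMap R K (p.coeff i) * x ^ i) * y ^ n := by
        rw [← hy', pow_succ']
    _ = _ := by
      rw [Finset.sum_mul]
      refine Finset.sum_congr rfl fun i hi => ?_
      have hin : i ≤ n := Nat.lt_succ_iff.1 (Finset.mem_range.1 hi)
      obtain ⟨j, hj⟩ := Nat.exists_eq_add_of_le hin
      rw [hj, Nat.add_sub_cancel_left, mul_pow, pow_add]
      ring

section

variable {x : K}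

/-- The generator, as an element of `R[x]`. -/
abbrev gen (R : Type u) [CommRing R] [Algebra R K] (x : K) : Algebra.adjoin R ({x} : Set K) :=
  ⟨x, Algebra.self_mem_adjoin_singleton R x⟩

theorem exists_eq_add_gen_mul (z : Algebra.adjoin R ({x} : Set K)) :
    ∃ (r : R) (z' : Algebra.adjoin R ({x} : Set K)), z = algebraMap R _ r + gen R x * z' := by
  obtain ⟨z, hz⟩ := z
  obtain ⟨p, hp⟩ := Algebra.adjoin_singleton_eq_range_aeval R x ▸ hz
  refine ⟨p.coeff 0, ⟨Polynomial.aeval x p.divX, Polynomial.aeval_mem_adjoin_singleton R x⟩, Subtype.ext ?_⟩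
  show z = algebraMap R K (p.coeff 0) + x * Polynomial.aeval x p.divX
  rw [← hp]
  show Polynomial.aeval x p = _
  conv_lhs => rw [← Polynomial.X_mul_divX_add p]
  rw [map_add, map_mul, Polynomial.aeval_X, Polynomial.aeval_C, add_comm]

variable (M : Ideal (Algebra.adjoin R ({x} : Set K))) [M.IsPrime] (hxM : gen R x ∈ M)
  (T : Type u) [CommRing T] [Algebra (Algebra.adjoin R ({x} : Set K)) T] [IsLocalization.AtPrime T M]
  [Algebra R T] [IsScalarTower R (Algebra.adjoin R ({x} : Set K)) T]

include hxM in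
theorem not_mem_of_eq_add {z z' : Algebra.adjoin R ({x} : Set K)} {r : R}
    (h : z = algebraMap R _ r + gen R x * z') (hz : z ∉ M) : r ∉ M.comap (algebraMap R _) := fun hr => hz (by
  rw [h]
  exact add_mem hr (M.mul_mem_right _ hxM))

include hxM in
/-- A quotient of `R[x]_M` by a prime containing `x` is a Nagata ring. -/
theorem isNagata_quotient_of_mem (hR : CAlg.IsNagata R) (P : Ideal T) [P.IsPrime]
    (hxP : algebraMap _ T (gen R x) ∈ P) : CAlg.IsNagata (T ⧸ P) := by
  let m := M.comap (algebraMap R (Algebra.adjoin R ({x} : Set K)))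
  let g : R →+* T ⧸ P := (Ideal.Quotient.mk P).comp (algebraMap R T)
  have hu : ∀ s : m.primeCompl, IsUnit (g s) := fun s => by
    refine IsUnit.map (Ideal.Quotient.mk P) ?_
    rw [IsScalarTower.algebraMap_apply R (Algebra.adjoin R ({x} : Set K)) T]
    exact IsLocalization.map_units T (⟨algebraMap R _ s.1, s.2⟩ : M.primeCompl)
  let ψ : Localization.AtPrime m →+* T ⧸ P := IsLocalization.lift hu
  have hψ : Function.Surjective ψ := by
    intro q
    obtain ⟨y, rfl⟩ := Ideal.Quotient.mk_surjective q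
    obtain ⟨⟨z, s⟩, hzs⟩ := IsLocalization.surj M.primeCompl y
    obtain ⟨r, z', hr⟩ := exists_eq_add_gen_mul z
    obtain ⟨r', s', hr'⟩ := exists_eq_add_gen_mul (s : Algebra.adjoin R ({x} : Set K))
    have hr'm : r' ∈ m.primeCompl := not_mem_of_eq_add M hxM hr' s.2
    refine ⟨IsLocalization.mk' _ r ⟨r', hr'm⟩, ?_⟩
    rw [IsLocalization.lift_mk'_spec]
    have key : ∀ (a : R) (b c : Algebra.adjoin R ({x} : Set K)), b = algebraMap R _ a + gen R x * c →
        Ideal.Quotient.mk P (algebraMap _ T b) = g a := fun a b c hb => by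
      rw [hb, map_add, map_mul, map_add, map_mul, Ideal.Quotient.eq_zero_iff_mem.2 hxP, zero_mul, add_zero,
        ← IsScalarTower.algebraMap_apply]
      rfl
    show g r = g r' * _
    rw [← key r z z' hr, ← key r' _ s' hr', ← hzs, map_mul, mul_comm]
  letI : Algebra (Localization.AtPrime m) (T ⧸ P) := ψ.toAlgebra
  haveI : Module.Finite (Localization.AtPrime m) (T ⧸ P) :=
    Module.Finite.of_surjective (Algebra.linearMap _ _) hψ
  exact isNagata_of_finite (Groth.Agent.S4710.result R hR m.primeCompl)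

include hxM in
theorem exists_colon_of_dvd [IsDomain R] [IsIntegrallyClosed R] {a b : R}
    (hab : x * algebraMap R K b = algebraMap R K a) {c : R}
    (h : algebraMap _ T (gen R x) ∣ algebraMap R T c) :
    ∃ s ∉ M.comap (algebraMap R _), a ∣ s * c * b := by
  obtain ⟨w, hw⟩ := h
  obtain ⟨⟨v, s⟩, hvs⟩ := IsLocalization.surj M.primeCompl w
  have hinj : Function.Injective (algebraMap (Algebra.adjoin R ({x} : Set K)) T) := by
    refine IsLocalization.injective T (M := M.primeCompl) (fun z hz => mem_nonZeroDivisors_of_ne_zero fun h0 => hz ?_)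
    rw [h0]; exact zero_mem _
  have h1 : algebraMap R _ c * s.1 = gen R x * v := hinj (by
    rw [map_mul, map_mul, ← IsScalarTower.algebraMap_apply, hw, mul_assoc, hvs])
  obtain ⟨s0, s', hs⟩ := exists_eq_add_gen_mul (s : Algebra.adjoin R ({x} : Set K))
  have h2 : algebraMap R K (s0 * c) = x * ((v - s' * algebraMap R _ c : Algebra.adjoin R ({x} : Set K)) : K) := by
    have h3 := congrArg Subtype.val h1
    rw [hs] at h3
    simp only [MulMemClass.coe_mul, AddMemClass.coe_add, Subalgebra.coe_algebraMap] at h3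
    simp only [AddSubgroupClass.coe_sub, MulMemClass.coe_mul, Subalgebra.coe_algebraMap, map_mul]
    linear_combination h3
  obtain ⟨d, hd⟩ := exists_eq_of_mul_eq (Subtype.coe_prop _) h2
  refine ⟨s0, not_mem_of_eq_add M hxM hs s.2, d, IsFractionRing.injective R K ?_⟩
  rw [map_mul, h2, ← hd, map_mul, ← hab]
  ring

theorem dvd_of_colon [IsDomain R] {a b : R} (hb : b ≠ 0) (hab : x * algebraMap R K b = algebraMap R K a) {s c : R}
    (hs : s ∉ M.comap (algebraMap R _)) (h : a ∣ s * c * b) :
    algebraMap _ T (gen R x) ∣ algebraMap R T c := by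
  obtain ⟨d, hd⟩ := h
  have h1 : algebraMap R (Algebra.adjoin R ({x} : Set K)) (s * c) = gen R x * algebraMap R _ d := Subtype.ext (by
    show algebraMap R K (s * c) = x * algebraMap R K d
    refine mul_right_cancel₀ (fun h0 => hb (IsFractionRing.injective R K (h0.trans (map_zero _).symm))) (?_ :
      algebraMap R K (s * c) * algebraMap R K b = x * algebraMap R K d * algebraMap R K b)
    rw [← map_mul, hd, map_mul, ← hab]
    ring)
  have hu : IsUnit (algebraMap R T s) := by
    rw [IsScalarTower.algebraMap_apply R (Algebra.adjoin R ({x} : Set K)) T]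
    exact IsLocalization.map_units T (⟨algebraMap R _ s, hs⟩ : M.primeCompl)
  have h2 := congrArg (algebraMap _ T) h1
  rw [← IsScalarTower.algebraMap_apply, map_mul, map_mul] at h2
  exact hu.dvd_mul_left.1 ⟨_, h2⟩

include hxM in
/-- The associated primes of `R[x]_M / x` have uniformizers. -/
theorem exists_uniformizer_adjoin [IsDomain R] [IsNoetherianRing R] [IsIntegrallyClosed R] [IsDomain T]
    [IsNoetherianRing T] {a b : R} (ha : a ≠ 0) (hb : b ≠ 0) (hab : x * algebraMap R K b = algebraMap R K a)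
    (P : Ideal T) (hP : P ∈ associatedPrimes T (T ⧸ Ideal.span {algebraMap _ T (gen R x)})) :
    ∃ π ∈ P, π ≠ 0 ∧ (∀ y ∈ P, ∃ t ∉ P, π ∣ t * y) ∧
      ∃ (e : ℕ) (t a' : T), t ∉ P ∧ a' ∉ P ∧ t * algebraMap _ T (gen R x) = π ^ e * a' := by
  classical
  let S := Algebra.adjoin R ({x} : Set K)
  let xT := algebraMap S T (gen R x)
  haveI := hP.isPrime
  obtain ⟨-, q, hq⟩ := isAssociatedPrime_iff.1 (AssociatedPrimes.mem_iff.1 hP)
  obtain ⟨w, rfl⟩ := Ideal.Quotient.mk_surjective q
  obtain ⟨⟨z, σ⟩, hzσ⟩ := IsLocalization.surj M.primeCompl w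
  obtain ⟨r, z', hr⟩ := exists_eq_add_gen_mul z
  have hPc : ∀ y : T, y ∈ P ↔ xT ∣ y * algebraMap R T r := fun y => by
    rw [hq, Submodule.mem_colon_singleton, Submodule.mem_bot, Algebra.smul_def, Ideal.Quotient.algebraMap_eq,
      ← map_mul, Ideal.Quotient.eq_zero_iff_mem, Ideal.mem_span_singleton,
      ← (IsLocalization.map_units T σ).dvd_mul_right, mul_assoc, hzσ, hr, map_add, map_mul,
      ← IsScalarTower.algebraMap_apply, mul_add]
    exact dvd_add_left (dvd_mul_of_dvd_right (dvd_mul_right _ _) _)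
  have hxP : xT ∈ P := (hPc _).2 (dvd_mul_right _ _)
  let p := P.comap (algebraMap R T)
  have hpc : ∀ c, c ∈ p ↔ xT ∣ algebraMap R T (c * r) := fun c => by
    rw [Ideal.mem_comap, hPc, map_mul]
  have hx1 : ∀ c ∈ p, ∃ s ∉ M.comap (algebraMap R S), a ∣ s * (c * r) * b := fun c hc =>
    exists_colon_of_dvd M hxM T hab ((hpc c).1 hc)
  choose s hs hsc using hx1
  obtain ⟨gens, hgens⟩ := IsNoetherian.noetherian p
  let σ0 : R := ∏ g ∈ gens.attach, s g.1 (hgens ▸ Submodule.subset_span g.2)
  have hσ0 : σ0 ∈ (M.comap (algebraMap R S)).primeCompl := prod_mem fun g _ => hs _ _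
  have hpcol : p = (⊥ : Submodule R (R ⧸ Ideal.span {a})).colon {Ideal.Quotient.mk _ (σ0 * r * b)} := by
    ext c
    rw [Submodule.mem_colon_singleton, Submodule.mem_bot, Algebra.smul_def, Ideal.Quotient.algebraMap_eq, ← map_mul,
      Ideal.Quotient.eq_zero_iff_mem, Ideal.mem_span_singleton]
    constructor
    · intro hc
      rw [← hgens] at hc
      induction hc using Submodule.span_induction with
      | mem g hg =>
        have h1 := hsc g (hgens ▸ Submodule.subset_span hg)
        obtain ⟨k, hk⟩ : s g (hgens ▸ Submodule.subset_span hg) ∣ σ0 :=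
          Finset.dvd_prod_of_mem (fun g => s g.1 (hgens ▸ Submodule.subset_span g.2)) (Finset.mem_attach gens ⟨g, hg⟩)
        rw [hk]
        exact (Dvd.dvd.mul_right h1 k).trans (dvd_of_eq (by ring))
      | zero => simp
      | add u v _ _ hu hv => rw [add_mul]; exact dvd_add hu hv
      | smul t u _ hu => rw [smul_eq_mul, mul_assoc]; exact Dvd.dvd.mul_left hu t
    · intro hc
      exact (hpc c).2 (dvd_of_colon M T hb hab hσ0 (by rwa [show σ0 * (c * r) * b = c * (σ0 * r * b) by ring]))
  have hpa : p ∈ associatedPrimes R (R ⧸ Ideal.span {a}) :=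
    AssociatedPrimes.mem_iff.2 (isAssociatedPrime_iff.2 ⟨Ideal.comap_isPrime _ _, _, hpcol⟩)
  obtain ⟨π, hπp, hπ0, hunif, hord⟩ :=
    exists_uniformizer_forall p (GrothLib.NormalSerre.height_eq_one_of_mem_associatedPrimes ha hpa)
  obtain ⟨e1, t1, a1, ht1, ha1, h1⟩ := hord a ha
  obtain ⟨e2, t2, b1, ht2, hb1, h2⟩ := hord b hb
  have hp : ∀ {u v : R}, u ∉ p → v ∉ p → u * v ∉ p := fun {u v} hu hv h =>
    ((Ideal.comap_isPrime (algebraMap R T) P).mem_or_mem h).elim hu hv
  have hK : x * algebraMap R K (π ^ e2 * (t1 * b1)) = algebraMap R K (π ^ e1 * (t2 * a1)) := by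
    have h1' := congrArg (algebraMap R K) h1
    have h2' := congrArg (algebraMap R K) h2
    simp only [map_mul, map_pow] at h1' h2' ⊢
    linear_combination (-(x * algebraMap R K t1)) * h2' + algebraMap R K t2 * h1' +
      algebraMap R K t1 * algebraMap R K t2 * hab
  have hπK : algebraMap R K π ≠ 0 := fun h => hπ0 (IsFractionRing.injective R K (h.trans (map_zero _).symm))
  have hee : e2 ≤ e1 := by
    by_contra hlt
    push Not at hlt
    obtain ⟨j, rfl⟩ := Nat.exists_eq_add_of_le hlt.le
    refine hp ht2 ha1 (show algebraMap R T (t2 * a1) ∈ P from ?_)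
    have h3 : algebraMap R S (t2 * a1) = gen R x * algebraMap R S (π ^ j * (t1 * b1)) := Subtype.ext (by
      show algebraMap R K (t2 * a1) = x * algebraMap R K (π ^ j * (t1 * b1))
      refine mul_left_cancel₀ (pow_ne_zero e1 hπK) ?_
      simp only [map_mul, map_pow] at hK ⊢
      rw [pow_add] at hK
      linear_combination -hK)
    rw [IsScalarTower.algebraMap_apply R S T, h3, map_mul]
    exact P.mul_mem_right _ hxP
  obtain ⟨e, rfl⟩ := Nat.exists_eq_add_of_le hee
  have hxe : algebraMap R S (t1 * b1) * gen R x = algebraMap R S (π ^ e * (t2 * a1)) := Subtype.ext (by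
    show algebraMap R K (t1 * b1) * x = algebraMap R K (π ^ e * (t2 * a1))
    refine mul_left_cancel₀ (pow_ne_zero e2 hπK) ?_
    simp only [map_mul, map_pow] at hK ⊢
    rw [pow_add] at hK
    linear_combination hK)
  have hclear : ∀ v : S, ∃ (k : ℕ) (c : R), algebraMap R S ((t1 * b1) ^ k) * v = algebraMap R S c := by
    rintro ⟨v, hv⟩
    induction hv using Algebra.adjoin_induction with
    | mem v hv =>
      refine ⟨1, π ^ e * (t2 * a1), ?_⟩
      rw [pow_one, ← hxe]
      exact congrArg (algebraMap R S (t1 * b1) * ·) (Subtype.ext (Set.mem_singleton_iff.1 hv))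
    | algebraMap c => exact ⟨0, c, Subtype.ext (by simp)⟩
    | add u v _ _ hu hv =>
      obtain ⟨k, c, hc⟩ := hu
      obtain ⟨l, d, hd⟩ := hv
      refine ⟨k + l, (t1 * b1) ^ l * c + (t1 * b1) ^ k * d, Subtype.ext ?_⟩
      have hc' := congrArg Subtype.val hc
      have hd' := congrArg Subtype.val hd
      simp only [MulMemClass.coe_mul, Subalgebra.coe_algebraMap, map_mul, map_pow, map_add, AddMemClass.coe_add,
        pow_add] at hc' hd' ⊢
      rw [← hc', ← hd']
      ring
    | mul u v _ _ hu hv =>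
      obtain ⟨k, c, hc⟩ := hu
      obtain ⟨l, d, hd⟩ := hv
      refine ⟨k + l, c * d, Subtype.ext ?_⟩
      have hc' := congrArg Subtype.val hc
      have hd' := congrArg Subtype.val hd
      simp only [MulMemClass.coe_mul, Subalgebra.coe_algebraMap, map_mul, map_pow, pow_add] at hc' hd' ⊢
      rw [← hc', ← hd']
      ring
  refine ⟨algebraMap R T π, hπp, ?_, fun y hy => ?_, e, algebraMap R T (t1 * b1), algebraMap R T (t2 * a1),
    hp ht1 hb1, hp ht2 ha1, ?_⟩
  · rw [IsScalarTower.algebraMap_apply R S T]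
    intro h
    refine hπK (congrArg Subtype.val (IsLocalization.injective T (M := M.primeCompl)
      (fun z hz => mem_nonZeroDivisors_of_ne_zero fun h0 => hz ?_) (h.trans (map_zero _).symm)) :)
    rw [h0]; exact zero_mem _
  · obtain ⟨⟨v, τ⟩, hvτ⟩ := IsLocalization.surj M.primeCompl y
    obtain ⟨k, c, hc⟩ := hclear v
    have hcy : algebraMap R T c = algebraMap R T ((t1 * b1) ^ k) * (y * algebraMap S T τ) := by
      rw [hvτ, IsScalarTower.algebraMap_apply R S T c, ← hc, map_mul, ← IsScalarTower.algebraMap_apply]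
    obtain ⟨t', ht', d, hd⟩ := hunif c (show algebraMap R T c ∈ P by
      rw [hcy]; exact P.mul_mem_left _ (P.mul_mem_right _ hy))
    refine ⟨algebraMap R T (t' * (t1 * b1) ^ k) * algebraMap S T τ, fun h => ?_, algebraMap R T d, ?_⟩
    · rcases (Ideal.IsPrime.mem_or_mem ‹P.IsPrime› h) with h | h
      · exact hp ht' (fun h' => hp ht1 hb1 ((Ideal.comap_isPrime (algebraMap R T) P).mem_of_pow_mem _ h')) h
      · exact Ideal.IsPrime.ne_top ‹P.IsPrime› (Ideal.eq_top_of_isUnit_mem _ h (IsLocalization.map_units T τ))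
    · rw [← map_mul (algebraMap R T) π, ← hd, map_mul (algebraMap R T) t' c, hcy, map_mul]
      ring
  · rw [IsScalarTower.algebraMap_apply R S T (t1 * b1), ← map_mul, hxe, ← IsScalarTower.algebraMap_apply, map_mul,
      map_pow]

include hxM in
/-- `R[x]` is analytically unramified at every prime containing `x`. -/
theorem isReduced_completion_adjoin [IsDomain R] [IsIntegrallyClosed R] (hR : CAlg.IsNagata R) [IsDomain T]
    [IsLocalRing T] [IsNoetherianRing T] : IsReduced (AdicCompletion (maximalIdeal T) T) := by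
  haveI := hR.1
  let S := Algebra.adjoin R ({x} : Set K)
  let xT := algebraMap S T (gen R x)
  by_cases hx0 : x = 0
  · have hxT : xT = 0 := by
      rw [show xT = algebraMap S T (gen R x) from rfl, show gen R x = 0 from Subtype.ext hx0, map_zero]
    haveI : (⊥ : Ideal T).IsPrime := Ideal.isPrime_bot
    letI : Algebra (T ⧸ (⊥ : Ideal T)) T := (RingEquiv.quotientBot T).toRingHom.toAlgebra
    haveI : Module.Finite (T ⧸ (⊥ : Ideal T)) T :=
      Module.Finite.of_surjective (Algebra.linearMap _ _) (RingEquiv.quotientBot T).surjective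
    exact isReduced_completion (isNagata_of_finite
      (isNagata_quotient_of_mem M hxM T hR ⊥ (show xT ∈ (⊥ : Ideal T) by rw [hxT]; exact zero_mem _)))
  obtain ⟨a, b, hb, hab⟩ := IsFractionRing.div_surjective R x
  have hb0 : b ≠ 0 := nonZeroDivisors.ne_zero hb
  have hbK : algebraMap R K b ≠ 0 := IsFractionRing.to_map_ne_zero_of_mem_nonZeroDivisors hb
  have hab' : x * algebraMap R K b = algebraMap R K a := by rw [← hab, div_mul_cancel₀ _ hbK]
  have ha0 : a ≠ 0 := fun h => hx0 (by rw [← hab, h, map_zero, zero_div])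
  have hxT0 : xT ≠ 0 := fun h => hx0 (congrArg Subtype.val (IsLocalization.injective T (M := M.primeCompl)
    (fun z hz => mem_nonZeroDivisors_of_ne_zero fun h0 => hz (by rw [h0]; exact zero_mem _))
    (h.trans (map_zero _).symm)) :)
  let B := AdicCompletion (maximalIdeal T) T
  haveI := faithfullyFlat_completion (A := T)
  have hxm : xT ∈ maximalIdeal T := (IsLocalization.AtPrime.to_map_mem_maximal_iff T M _).2 hxM
  have hred : ∀ p : Ideal T, p.IsPrime → xT ∈ p → IsReduced (B ⧸ p.map (algebraMap T B)) := fun p hp hxp => by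
    haveI := hp
    haveI : IsLocalRing (T ⧸ p) := IsLocalRing.of_surjective' (Ideal.Quotient.mk p) Ideal.Quotient.mk_surjective
    haveI : IsLocalHom (algebraMap T (T ⧸ p)) := IsLocalHom.of_surjective _ Ideal.Quotient.mk_surjective
    haveI : Module.Finite T (T ⧸ p) := Module.Finite.of_surjective (Algebra.linearMap T (T ⧸ p)) Ideal.Quotient.mk_surjective
    haveI := isReduced_completion (isNagata_quotient_of_mem M hxM T hR p hxp)
    haveI := isReduced_tensor_of_completion (A := T) (T ⧸ p)
    exact isReduced_of_injective (Algebra.TensorProduct.quotIdealMapEquivTensorQuot B p)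
      (Algebra.TensorProduct.quotIdealMapEquivTensorQuot B p).injective
  refine ⟨fun f hf => ?_⟩
  have hpow : ∀ n : ℕ, ∃ g, IsNilpotent g ∧ xT ^ n • g = f := by
    intro n
    induction n with
    | zero => exact ⟨f, hf, by rw [pow_zero, one_smul]⟩
    | succ n ih =>
      obtain ⟨g, hg, hgf⟩ := ih
      obtain ⟨h, rfl⟩ := nilpotent_mem_of_uniformizer (B := B)
        (exists_uniformizer_adjoin M hxM T ha0 hb0 hab') hred hg
      obtain ⟨k, hk⟩ := hg
      refine ⟨h, ⟨k, Module.Flat.isSMulRegular_of_isRegular (M := B)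
        (isRegular_iff_ne_zero.2 (pow_ne_zero k hxT0)) (show xT ^ k • h ^ k = xT ^ k • 0 from ?_)⟩, ?_⟩
      · rw [smul_zero, Algebra.smul_def, map_pow, ← mul_pow, hk]
      · rw [← hgf, pow_succ, mul_smul, Algebra.smul_def xT h]
  refine IsHausdorff.haus (I := maximalIdeal B)
    (IsHausdorff.of_isLocalRing _ B (maximalIdeal.isMaximal B).ne_top) f fun n => ?_
  obtain ⟨g, -, hgf⟩ := hpow n
  rw [SModEq.sub_mem, sub_zero, ← hgf, ← algebraMap_smul B (xT ^ n)]
  refine Submodule.smul_mem_smul ?_ trivial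
  rw [map_pow]
  refine Ideal.pow_mem_pow ?_ n
  rw [AdicCompletion.maximalIdeal_eq_map]
  exact Ideal.mem_map_of_mem _ hxm

end

end GrothLib.N2
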