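import Groth.Agent.Lib.N2.Local
import Groth.Agent.Lib.Cohen.Nagata
import Mathlib.RingTheory.Ideal.AssociatedPrime.Finiteness
import Mathlib.RingTheory.Algebraic.Integral

/-!
Finiteness of an integral closure: normal after inverting one element and finite at every maximal ideal.
-/

set_option autoImplicit false
set_option linter.style.haveILetI false

namespace GrothLib.N2

universe u

/-- One maximal ideal: after a fixed `g ∉ m`, everything with `f ^ n • x ∈ M` lands in `M`. -/
theorem exists_pow_smul_mem {R : Type u} [CommRing R] [IsNoetherianRing R] {K : Type u} [Field K] [Algebra R K]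
    (f : R) (hf : algebraMap R K f ≠ 0) (T M : Submodule R K) (hM : M.FG) (m : Ideal R) [m.IsPrime]
    (hloc : ∀ x ∈ T, ∃ s ∉ m, s • x ∈ M) :
    ∃ g ∉ m, ∀ x ∈ T, (∃ n : ℕ, f ^ n • x ∈ M) → ∃ k : ℕ, g ^ k • x ∈ M := by
  classical
  haveI : Module.Finite R M := Module.Finite.of_fg hM
  let fM : Submodule R M := (M.map (f • LinearMap.id : K →ₗ[R] K)).comap M.subtype
  let Q := M ⧸ fM
  haveI : IsNoetherian R Q := isNoetherian_of_isNoetherianRing_of_finite R Q
  let S : Finset (Ideal R) := (associatedPrimes.finite R Q).toFinset.filter fun P => ¬ P ≤ m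
  obtain ⟨g, hgS, hgm⟩ : ∃ g ∈ S.inf id, g ∉ m := by
    refine Set.not_subset.1 fun h => ?_
    obtain ⟨P, hP, hPm⟩ := (Ideal.IsPrime.inf_le' ‹m.IsPrime›).1 h
    exact (Finset.mem_filter.1 hP).2 hPm
  refine ⟨g, hgm, ?_⟩
  have step : ∀ x ∈ T, f • x ∈ M → ∃ k : ℕ, g ^ k • x ∈ M := by
    intro x hx hfx
    let I : ℕ →o Ideal R :=
      { toFun := fun k => M.comap (LinearMap.toSpanSingleton R K (g ^ k • x))
        monotone' := monotone_nat_of_le_succ fun k r hr => by
          rw [Submodule.mem_comap, LinearMap.toSpanSingleton_apply] at hr ⊢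
          rw [pow_succ', mul_smul, smul_comm r g]
          exact M.smul_mem g hr }
    obtain ⟨k, hk⟩ := monotone_stabilizes_iff_noetherian.2 ‹IsNoetherianRing R› I
    refine ⟨k, by_contra fun hy => ?_⟩
    let y := g ^ k • x
    have hfy : f • y ∈ M := by rw [smul_comm]; exact M.smul_mem _ hfx
    let c : Q := Submodule.Quotient.mk ⟨f • y, hfy⟩
    have hc0 : ∀ r : R, r • c = 0 ↔ r • y ∈ M := fun r => by
      rw [show r • c = Submodule.Quotient.mk (r • (⟨f • y, hfy⟩ : M)) from rfl, Submodule.Quotient.mk_eq_zero,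
        Submodule.mem_comap, Submodule.mem_map]
      constructor
      · rintro ⟨z, hz, hzy⟩
        have hzy' : f • z = f • (r • y) := by rw [smul_comm f r]; exact hzy
        rw [Algebra.smul_def, Algebra.smul_def] at hzy'
        exact mul_left_cancel₀ hf hzy' ▸ hz
      · exact fun h => ⟨r • y, h, smul_comm f r y⟩
    have hc : c ≠ 0 := fun h => hy (by
      have h1 := (hc0 1).1 (by rw [one_smul]; exact h)
      rwa [one_smul] at h1)
    let N : Submodule R Q := Submodule.span R {c}
    let cN : N := ⟨c, Submodule.mem_span_singleton_self c⟩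
    obtain ⟨P, hP, hcP⟩ := exists_le_isAssociatedPrime_of_isNoetherianRing R cN fun h => hc (congrArg Subtype.val h)
    have hPm : ¬ P ≤ m := fun h => by
      obtain ⟨s, hs, hsy⟩ := hloc y (T.smul_mem _ hx)
      refine hs (h (hcP ?_))
      rw [Submodule.mem_colon_singleton, Submodule.mem_bot]
      exact Subtype.ext ((hc0 s).2 hsy)
    have hgP : g ∈ P := (Finset.inf_le (f := id)
      (Finset.mem_filter.2 ⟨(associatedPrimes.finite R Q).mem_toFinset.2
        (associatedPrimes.subset_of_injective (f := N.subtype) Subtype.val_injective hP), hPm⟩) : S.inf id ≤ P) hgS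
    obtain ⟨hPp, ⟨z, hz⟩, hPz⟩ := isAssociatedPrime_iff.1 hP
    obtain ⟨r, rfl⟩ := Submodule.mem_span_singleton.1 hz
    have hgr : g • (r • c) = 0 := by
      rw [hPz, Submodule.mem_colon_singleton, Submodule.mem_bot] at hgP
      exact congrArg Subtype.val hgP
    have hr1 : r ∈ I (k + 1) := by
      show r • (g ^ (k + 1) • x) ∈ M
      have h1 := (hc0 (g * r)).1 (by rw [mul_smul]; exact hgr)
      rwa [pow_succ', mul_smul, smul_comm r g, ← mul_smul g r]
    have hr0 : r • c = 0 := (hc0 r).2 (by rw [← hk (k + 1) (Nat.le_succ k)] at hr1; exact hr1)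
    refine hPp.ne_top (hPz.trans (eq_top_iff.2 fun a _ => ?_))
    rw [Submodule.mem_colon_singleton, Submodule.mem_bot]
    exact Subtype.ext (show a • (r • c) = 0 by rw [hr0, smul_zero])
  intro x hx hn
  obtain ⟨n, hn⟩ := hn
  induction n generalizing x with
  | zero => exact ⟨0, by rw [pow_zero] at hn ⊢; exact hn⟩
  | succ n ih =>
    rw [pow_succ', mul_smul] at hn
    obtain ⟨k, hk⟩ := step (f ^ n • x) (T.smul_mem _ hx) hn
    rw [smul_comm] at hk
    obtain ⟨l, hl⟩ := ih (g ^ k • x) (T.smul_mem _ hx) hk
    exact ⟨l + k, by rw [pow_add, mul_smul]; exact hl⟩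

/-- Finiteness from: finite after inverting `f`, and finite at every maximal ideal. -/
theorem finite_integralClosure_of_local {R : Type u} [CommRing R] [IsNoetherianRing R] {K : Type u} [Field K]
    [Algebra R K] (f : R) (hf : algebraMap R K f ≠ 0) (M : Submodule R K) (hM : M.FG)
    (hMT : M ≤ (integralClosure R K).toSubmodule)
    (hgen : ∀ x ∈ integralClosure R K, ∃ n : ℕ, f ^ n • x ∈ M)
    (hloc : ∀ (m : Ideal R) [m.IsMaximal], ∃ N : Submodule R K, N.FG ∧ N ≤ (integralClosure R K).toSubmodule ∧
      ∀ x ∈ integralClosure R K, ∃ s ∉ m, s • x ∈ N) :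
    Module.Finite R (integralClosure R K) := by
  classical
  let T := (integralClosure R K).toSubmodule
  choose N hN hNT hNl using fun m : {m : Ideal R // m.IsMaximal} => @hloc m.1 m.2
  have key : ∀ m : {m : Ideal R // m.IsMaximal}, ∃ g ∉ m.1, ∀ x ∈ T, ∃ k : ℕ, g ^ k • x ∈ M ⊔ N m := fun m => by
    haveI := m.2.isPrime
    obtain ⟨g, hg, h⟩ := exists_pow_smul_mem f hf T (M ⊔ N m) (hM.sup (hN m)) m.1 fun x hx => by
      obtain ⟨s, hs, h⟩ := hNl m x hx
      exact ⟨s, hs, Submodule.mem_sup_right h⟩
    exact ⟨g, hg, fun x hx => by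
      obtain ⟨n, hn⟩ := hgen x hx
      exact h x hx ⟨n, Submodule.mem_sup_left hn⟩⟩
  choose g hg hgx using key
  have htop : Ideal.span (Set.range g) = ⊤ := by
    by_contra h
    obtain ⟨m, hm, hle⟩ := Ideal.exists_le_maximal _ h
    exact hg ⟨m, hm⟩ (hle (Ideal.subset_span ⟨⟨m, hm⟩, rfl⟩))
  obtain ⟨s, hs, hs'⟩ := Submodule.mem_span_finite_of_mem_span ((Ideal.eq_top_iff_one _).1 htop)
  choose idx hidx using fun z : {z // z ∈ s} => hs z.2
  let M' : Submodule R K := M ⊔ s.attach.sup fun z => N (idx z)
  have hM'T : M' ≤ T := sup_le hMT (Finset.sup_le fun z _ => hNT _)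
  have hM'fg : M'.FG := hM.sup (Submodule.fg_finset_sup _ _ fun z _ => hN _)
  have hTM' : T ≤ M' := fun x hx => by
    refine Submodule.mem_of_span_eq_top_of_smul_pow_mem M' (s : Set R) ((Ideal.eq_top_iff_one _).2 hs') x fun z => ?_
    obtain ⟨k, hk⟩ := hgx (idx ⟨z.1, z.2⟩) x hx
    refine ⟨k, ?_⟩
    rw [hidx ⟨z.1, z.2⟩] at hk
    exact (sup_le_sup_left (Finset.le_sup (f := fun z => N (idx z)) (Finset.mem_attach s ⟨z.1, z.2⟩)) M) hk
  exact Module.Finite.of_fg (le_antisymm hM'T hTM' ▸ hM'fg : T.FG)

/-- Generators of the integral closure of a localization give generators up to denominators. -/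
theorem exists_fg_of_localization {B : Type u} [CommRing B] {K : Type u} [Field K] [Algebra B K] (m : Ideal B)
    (Mon : Submonoid B) (hMon : ∀ s ∈ Mon, s ∉ m) (S : Type u) [CommRing S] [Algebra B S] [IsLocalization Mon S]
    [Algebra S K] [IsScalarTower B S K] (h : Module.Finite S (integralClosure S K)) :
    ∃ N : Submodule B K, N.FG ∧ N ≤ (integralClosure B K).toSubmodule ∧
      ∀ x ∈ integralClosure B K, ∃ s ∉ m, s • x ∈ N := by
  classical
  obtain ⟨F, hF⟩ := h.fg_top
  choose t ht using fun y : integralClosure S K =>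
    IsIntegral.exists_multiple_integral_of_isLocalization (R := B) Mon y.1 y.2
  let N : Submodule B K := Submodule.span B (F.image fun y => (t y : B) • y.1 : Finset K)
  refine ⟨N, Submodule.fg_span (Finset.finite_toSet _), Submodule.span_le.2 ?_, fun x hx => ?_⟩
  · intro z hz
    obtain ⟨y, -, rfl⟩ := Finset.mem_image.1 hz
    exact ht y
  · have hu : ∀ y, IsUnit (algebraMap B S (t y : B)) := fun y => IsLocalization.map_units S (t y)
    have hxS : x ∈ Submodule.span S ((F.image fun y => (t y : B) • y.1 : Finset K) : Set K) := by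
      have h1 : (⟨x, IsIntegral.tower_top hx⟩ : integralClosure S K) ∈ Submodule.span S (F : Set (integralClosure S K)) :=
        hF.symm ▸ trivial
      have h2 := Submodule.mem_map_of_mem (f := (integralClosure S K).val.toLinearMap) h1
      rw [Submodule.map_span] at h2
      refine Submodule.span_le.2 ?_ h2
      rintro _ ⟨y, hy, rfl⟩
      obtain ⟨u, hu⟩ := hu y
      have h3 : y.1 = (↑u⁻¹ : S) • ((t y : B) • y.1) := by
        rw [← algebraMap_smul S (t y : B) y.1, smul_smul, ← hu, Units.inv_mul, one_smul]
      rw [SetLike.mem_coe]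
      show y.1 ∈ _
      rw [h3]
      exact Submodule.smul_mem _ _ (Submodule.subset_span (Finset.mem_coe.2 (Finset.mem_image_of_mem _ hy)))
    obtain ⟨s, hs⟩ := multiple_mem_span_of_mem_localization_span Mon S _ x hxS
    exact ⟨s, hMon s s.2, hs⟩

/-- An N-1 domain is normal on a dense open. -/
theorem exists_normal_away {R : Type u} [CommRing R] [IsDomain R] (h : CAlg.IsN1 R) :
    ∃ f : R, f ≠ 0 ∧ IsIntegrallyClosed (Localization.Away f) := by
  classical
  let K := FractionRing R
  obtain ⟨s, hs⟩ := (h : Module.Finite R (integralClosure R K)).fg_top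
  obtain ⟨d, hd⟩ := IsLocalization.exist_integer_multiples (nonZeroDivisors R) s (fun y => (y.1 : K))
  have hd0 : d.1 ≠ 0 := nonZeroDivisors.coe_ne_zero d
  have hdR : ∀ z : integralClosure R K, d.1 • z.1 ∈ (1 : Submodule R K) := fun z => by
    have hz : z ∈ Submodule.span R (s : Set (integralClosure R K)) := hs.symm ▸ trivial
    induction hz using Submodule.span_induction with
    | mem y hy => exact Submodule.mem_one.2 (hd y hy)
    | zero => simp
    | add a b _ _ ha hb => rw [AddMemClass.coe_add, smul_add]; exact add_mem ha hb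
    | smul r a _ ha => rw [SetLike.val_smul, smul_comm]; exact Submodule.smul_mem _ r ha
  refine ⟨d.1, hd0, ?_⟩
  let Rd := Localization.Away d.1
  haveI : IsDomain Rd := IsLocalization.isDomain_localization (powers_le_nonZeroDivisors_of_noZeroDivisors hd0)
  have hu : ∀ y : Submonoid.powers d.1, IsUnit (algebraMap R K y) := by
    rintro ⟨_, n, rfl⟩
    rw [map_pow]
    exact (isUnit_iff_ne_zero.2 (IsFractionRing.to_map_ne_zero_of_mem_nonZeroDivisors d.2)).pow n
  letI : Algebra Rd K := (IsLocalization.lift hu).toAlgebra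
  haveI : IsScalarTower R Rd K := IsScalarTower.of_algebraMap_eq fun r => (IsLocalization.lift_eq hu r).symm
  haveI : IsFractionRing Rd K :=
    IsFractionRing.isFractionRing_of_isDomain_of_isLocalization (Submonoid.powers d.1) Rd K
  refine (isIntegrallyClosed_iff K).2 fun {x} hx => ?_
  obtain ⟨⟨_, n, rfl⟩, hn⟩ := IsIntegral.exists_multiple_integral_of_isLocalization (R := R) (Submonoid.powers d.1) x hx
  replace hn : IsIntegral R (d.1 ^ n • x) := hn
  obtain ⟨r, hr⟩ := Submodule.mem_one.1 (hdR ⟨d.1 ^ n • x, hn⟩)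
  obtain ⟨u, hu'⟩ := (IsLocalization.Away.algebraMap_isUnit (S := Rd) d.1).pow (n + 1)
  refine ⟨↑u⁻¹ * algebraMap R Rd r, ?_⟩
  have hr' : algebraMap R K r = algebraMap R K (d.1 ^ (n + 1)) * x := by
    rw [hr, smul_smul, ← pow_succ', Algebra.smul_def]
  rw [map_mul, ← IsScalarTower.algebraMap_apply, hr', IsScalarTower.algebraMap_apply R Rd K, map_pow, ← hu',
    ← mul_assoc, ← map_mul, Units.inv_mul, map_one, one_mul]

/-- The N-1 criterion: normal somewhere, N-1 at every maximal ideal. -/
theorem isN1_of_normal_away {R : Type u} [CommRing R] [IsDomain R] [IsNoetherianRing R] (f : R) (hf : f ≠ 0)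
    (hn : IsIntegrallyClosed (Localization.Away f))
    (hloc : ∀ (m : Ideal R) [m.IsMaximal], CAlg.IsN1 (Localization.AtPrime m)) : CAlg.IsN1 R := by
  let K := FractionRing R
  have hf0 : algebraMap R K f ≠ 0 := fun h => hf (IsFractionRing.injective R K (h.trans (map_zero _).symm))
  have hu : ∀ y : Submonoid.powers f, IsUnit (algebraMap R K y) := by
    rintro ⟨_, n, rfl⟩
    rw [map_pow]
    exact (isUnit_iff_ne_zero.2 hf0).pow n
  let Rf := Localization.Away f
  haveI : IsDomain Rf := IsLocalization.isDomain_localization (powers_le_nonZeroDivisors_of_noZeroDivisors hf)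
  letI : Algebra Rf K := (IsLocalization.lift hu).toAlgebra
  haveI : IsScalarTower R Rf K := IsScalarTower.of_algebraMap_eq fun r => (IsLocalization.lift_eq hu r).symm
  haveI : IsFractionRing Rf K :=
    IsFractionRing.isFractionRing_of_isDomain_of_isLocalization (Submonoid.powers f) Rf K
  refine finite_integralClosure_of_local f hf0 (1 : Submodule R K) ?_ ?_ ?_ fun m _ => ?_
  · rw [Submodule.one_eq_span]; exact Submodule.fg_span_singleton _
  · intro x hx
    obtain ⟨r, rfl⟩ := Submodule.mem_one.1 hx
    exact (isIntegral_algebraMap : IsIntegral R (algebraMap R K r))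
  · intro x hx
    obtain ⟨z, hz⟩ := IsIntegrallyClosed.isIntegral_iff.1 (IsIntegral.tower_top (A := Rf) hx)
    obtain ⟨⟨a, ⟨_, n, rfl⟩⟩, ha⟩ := IsLocalization.surj (Submonoid.powers f) z
    refine ⟨n, Submodule.mem_one.2 ⟨a, ?_⟩⟩
    rw [← hz, IsScalarTower.algebraMap_apply R Rf K, ← ha, map_mul, ← IsScalarTower.algebraMap_apply,
      Algebra.smul_def, mul_comm]
  · have hum : ∀ y : m.primeCompl, IsUnit (algebraMap R K y) := fun y => isUnit_iff_ne_zero.2 fun h => y.2
      (by rw [IsFractionRing.injective R K (h.trans (map_zero _).symm)]; exact zero_mem _)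
    letI : Algebra (Localization.AtPrime m) K := (IsLocalization.lift hum).toAlgebra
    haveI : IsScalarTower R (Localization.AtPrime m) K :=
      IsScalarTower.of_algebraMap_eq fun r => (IsLocalization.lift_eq hum r).symm
    haveI : IsFractionRing (Localization.AtPrime m) K :=
      IsFractionRing.isFractionRing_of_isDomain_of_isLocalization m.primeCompl _ K
    exact exists_fg_of_localization m m.primeCompl (fun s hs => hs) (Localization.AtPrime m) ((isN1_iff K).1 (hloc m))

/-- The integral closure of `B` after localizing an N-2 localization. -/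
theorem finite_integralClosure_of_isN2 {B : Type u} [CommRing B] [IsDomain B] (Mon : Submonoid B) (S : Type u)
    [CommRing S] [IsDomain S] [Algebra B S] [IsLocalization Mon S] (hS : CAlg.IsN2 S) (L : Type u) [Field L]
    [Algebra B L] [Algebra S L] [IsScalarTower B S L] [Algebra (FractionRing B) L]
    [IsScalarTower B (FractionRing B) L] [FiniteDimensional (FractionRing B) L] :
    Module.Finite S (integralClosure S L) := by
  have hM : Mon ≤ nonZeroDivisors B := fun x hx => mem_nonZeroDivisors_of_ne_zero fun h0 => by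
    have := IsLocalization.map_units S ⟨x, hx⟩
    simp [h0] at this
  let K := FractionRing B
  have hu : ∀ y : Mon, IsUnit (algebraMap B K y) := fun y =>
    IsLocalization.map_units K (⟨y, hM y.2⟩ : nonZeroDivisors B)
  letI : Algebra S K := (IsLocalization.lift hu).toAlgebra
  haveI : IsScalarTower B S K := IsScalarTower.of_algebraMap_eq fun r => (IsLocalization.lift_eq hu r).symm
  haveI : IsFractionRing S K := IsFractionRing.isFractionRing_of_isDomain_of_isLocalization Mon S K
  haveI : IsScalarTower S K L := IsScalarTower.of_algebraMap_eq' (IsLocalization.ringHom_ext Mon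
    (RingHom.ext fun r => by
      simp only [RingHom.comp_apply, ← IsScalarTower.algebraMap_apply]))
  let e : FractionRing S ≃ₐ[S] K := FractionRing.algEquiv S K
  letI : Algebra (FractionRing S) L := ((algebraMap K L).comp e.toAlgHom.toRingHom).toAlgebra
  haveI : IsScalarTower S (FractionRing S) L := IsScalarTower.of_algebraMap_eq fun r => by
    show algebraMap S L r = algebraMap K L (e (algebraMap S (FractionRing S) r))
    rw [e.commutes, ← IsScalarTower.algebraMap_apply]
  haveI : FiniteDimensional (FractionRing S) L := by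
    letI : Algebra (FractionRing S) K := e.toAlgHom.toRingHom.toAlgebra
    haveI : IsScalarTower (FractionRing S) K L := IsScalarTower.of_algebraMap_eq fun _ => rfl
    haveI : Module.Finite (FractionRing S) K :=
      Module.Finite.of_surjective (Algebra.linearMap (FractionRing S) K) e.surjective
    exact Module.Finite.trans K L
  exact hS L inferInstance

/-- A finite extension of the fraction field is the fraction field of a finite subalgebra. -/
theorem exists_finite_subalgebra (A : Type u) [CommRing A] [IsDomain A] (L : Type u) [Field L] [Algebra A L]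
    [Algebra (FractionRing A) L] [IsScalarTower A (FractionRing A) L] [FiniteDimensional (FractionRing A) L] :
    ∃ B : Subalgebra A L, Module.Finite A B ∧ IsFractionRing B L := by
  classical
  let K := FractionRing A
  let b := Module.finBasis K L
  choose m hm using fun j => IsIntegral.exists_multiple_integral_of_isLocalization (R := A) (Rₘ := K)
    (nonZeroDivisors A) (b j) (Algebra.IsIntegral.isIntegral _)
  let B := Algebra.adjoin A (Set.range fun j => m j • b j)
  haveI : Module.Finite A B :=
    ⟨(Submodule.fg_top _).2 (fg_adjoin_of_finite (Set.finite_range _) fun x hx => by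
      obtain ⟨j, rfl⟩ := hx; exact hm j)⟩
  refine ⟨B, ‹_›, ?_⟩
  haveI : FaithfulSMul B L := (faithfulSMul_iff_algebraMap_injective B L).2 Subtype.val_injective
  refine IsFractionRing.of_field B L fun z => ?_
  obtain ⟨d, hd⟩ := IsLocalization.exist_integer_multiples_of_finite (nonZeroDivisors A) (fun j => b.repr z j)
  choose c hc using hd
  let M : A := d.1 * ∏ j, (m j).1
  have hM : algebraMap A L M ≠ 0 := by
    rw [IsScalarTower.algebraMap_apply A K L, map_ne_zero]
    exact IsFractionRing.to_map_ne_zero_of_mem_nonZeroDivisors (mul_mem d.2 (prod_mem fun j _ => (m j).2))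
  refine ⟨⟨algebraMap A L M * z, ?_⟩, algebraMap A B M, (mul_div_cancel_left₀ z hM).symm⟩
  rw [← b.sum_repr z, Finset.mul_sum]
  refine Subalgebra.sum_mem _ fun j _ => ?_
  have heq : algebraMap A L M * (b.repr z j • b j) =
      algebraMap A L (c j * ∏ i ∈ Finset.univ.erase j, (m i).1) * (m j • b j) := by
    have h1 : algebraMap A L (c j) = algebraMap A L d.1 * algebraMap K L (b.repr z j) := by
      rw [IsScalarTower.algebraMap_apply A K L, hc, Algebra.smul_def, map_mul, ← IsScalarTower.algebraMap_apply]
    have hMj : M = d.1 * ((∏ i ∈ Finset.univ.erase j, (m i).1) * (m j).1) := by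
      rw [Finset.prod_erase_mul _ _ (Finset.mem_univ j)]
    rw [hMj, map_mul, map_mul, map_mul, h1, Submonoid.smul_def, Algebra.smul_def, Algebra.smul_def]
    ring
  rw [heq]
  exact mul_mem (Subalgebra.algebraMap_mem _ _) (Algebra.subset_adjoin ⟨j, rfl⟩)

/-- Nagata criterion: Nagata at every maximal ideal and generically normal finite purely inseparable covers. -/
theorem isNagata_of_normal_generic {A : Type u} [CommRing A] [IsNoetherianRing A]
    (h1 : ∀ (m : Ideal A) [m.IsMaximal] (P : Ideal (Localization.AtPrime m)) [P.IsPrime],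
      CAlg.IsN2 (Localization.AtPrime m ⧸ P))
    (h2 : ∀ (p : Ideal A) [p.IsPrime] (K' : Type u) [Field K'] [Algebra (A ⧸ p) K']
      [Algebra (FractionRing (A ⧸ p)) K'] [IsScalarTower (A ⧸ p) (FractionRing (A ⧸ p)) K']
      [FiniteDimensional (FractionRing (A ⧸ p)) K'] [IsPurelyInseparable (FractionRing (A ⧸ p)) K']
      (B' : Subalgebra (A ⧸ p) K'), Module.Finite (A ⧸ p) B' → IsFractionRing B' K' →
        ∃ f : B', f ≠ 0 ∧ IsIntegrallyClosed (Localization.Away f)) : CAlg.IsNagata A := by
  refine ⟨inferInstance, fun p _ => isN2_of_purelyInseparable fun L _ _ _ _ hfin hpi => ?_⟩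
  haveI := hfin
  haveI := hpi
  let B := A ⧸ p
  obtain ⟨B', hB', hfrac⟩ := exists_finite_subalgebra B L
  haveI := hB'
  haveI := hfrac
  obtain ⟨f, hf, hn⟩ := h2 p L B' hB' hfrac
  haveI : IsNoetherianRing B' := IsNoetherianRing.of_finite B B'
  obtain ⟨b, hb, c, hc⟩ :=
    (Algebra.IsIntegral.isIntegral (R := B) f).isAlgebraic.exists_nonzero_dvd (mem_nonZeroDivisors_of_ne_zero hf)
  have hinj : Function.Injective (algebraMap B L) := by
    rw [IsScalarTower.algebraMap_eq B (FractionRing B) L]
    exact (algebraMap (FractionRing B) L).injective.comp (IsFractionRing.injective B (FractionRing B))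
  have hb0 : algebraMap B L b ≠ 0 := fun h => hb (hinj (h.trans (map_zero _).symm))
  have hf0 : (f : L) ≠ 0 := fun h => hf (Subtype.ext h)
  have hu : ∀ y : Submonoid.powers f, IsUnit (algebraMap B' L y) := by
    rintro ⟨_, n, rfl⟩
    rw [map_pow]
    exact (isUnit_iff_ne_zero.2 hf0).pow n
  let Bf := Localization.Away f
  haveI : IsDomain Bf := IsLocalization.isDomain_localization (powers_le_nonZeroDivisors_of_noZeroDivisors hf)
  letI : Algebra Bf L := (IsLocalization.lift hu).toAlgebra
  haveI : IsScalarTower B' Bf L := IsScalarTower.of_algebraMap_eq fun r => (IsLocalization.lift_eq hu r).symm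
  haveI : IsFractionRing Bf L :=
    IsFractionRing.isFractionRing_of_isDomain_of_isLocalization (Submonoid.powers f) Bf L
  refine finite_integralClosure_of_local b hb0 B'.toSubmodule (Module.Finite.iff_fg.1 hB') ?_ ?_ fun m hm => ?_
  · intro x hx
    exact (Algebra.IsIntegral.isIntegral (R := B) (⟨x, hx⟩ : B')).map B'.val
  · intro x hx
    obtain ⟨z, hz⟩ := IsIntegrallyClosed.isIntegral_iff.1
      (IsIntegral.tower_top (A := Bf) (IsIntegral.tower_top (A := B') hx))
    obtain ⟨⟨a, ⟨_, n, rfl⟩⟩, ha⟩ := IsLocalization.surj (Submonoid.powers f) z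
    refine ⟨n, ?_⟩
    have h3 : b ^ n • x = ((c ^ n * a : B') : L) := by
      have h4 : (algebraMap B L b) = (f : L) * (c : L) := congrArg Subtype.val hc
      have h5 := congrArg (algebraMap Bf L) ha
      rw [map_mul, ← IsScalarTower.algebraMap_apply, ← IsScalarTower.algebraMap_apply, hz] at h5
      rw [Algebra.smul_def, map_pow, h4, MulMemClass.coe_mul, SubmonoidClass.coe_pow, ← show _ = (a : L) from h5,
        mul_pow]
      show _ = _ * (x * algebraMap B' L (f ^ n))
      rw [map_pow]
      show _ = _ * (x * (f : L) ^ n)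
      ring
    rw [h3]
    exact Subtype.coe_prop _
  · let mA := m.comap (Ideal.Quotient.mk p)
    haveI : mA.IsMaximal := Ideal.comap_isMaximal_of_surjective _ Ideal.Quotient.mk_surjective
    let Am := Localization.AtPrime mA
    let S := Am ⧸ p.map (algebraMap A Am)
    let Mon := Algebra.algebraMapSubmonoid B mA.primeCompl
    have hMon : ∀ s ∈ Mon, s ∉ m := by
      rintro _ ⟨a, ha, rfl⟩ hs
      exact ha hs
    haveI : IsLocalization Mon S := inferInstance
    haveI : (p.map (algebraMap A Am)).IsPrime :=
      IsLocalization.isPrime_of_isPrime_disjoint mA.primeCompl Am p ‹p.IsPrime›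
        (Set.disjoint_left.2 fun a ha hap => ha (show Ideal.Quotient.mk p a ∈ m by
          rw [Ideal.Quotient.eq_zero_iff_mem.2 hap]; exact zero_mem m))
    have hum : ∀ y : Mon, IsUnit (algebraMap B L y) := fun y => isUnit_iff_ne_zero.2 fun h =>
      hMon y.1 y.2 (by rw [hinj (h.trans (map_zero _).symm)]; exact zero_mem m)
    letI : Algebra S L := (IsLocalization.lift hum).toAlgebra
    haveI : IsScalarTower B S L := IsScalarTower.of_algebraMap_eq fun r => (IsLocalization.lift_eq hum r).symm
    exact exists_fg_of_localization m Mon hMon S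
      (finite_integralClosure_of_isN2 Mon S (h1 mA (p.map (algebraMap A Am))) L)

/-- In a Nagata ring, finite covers of integral quotients are generically normal. -/
theorem exists_normal_away_of_isNagata {B : Type u} [CommRing B] [IsDomain B] [IsNoetherianRing B]
    (hB : CAlg.IsN2 B) {B' : Type u} [CommRing B'] [IsDomain B'] [Algebra B B'] [Module.Finite B B']
    (hinj : Function.Injective (algebraMap B B')) : ∃ f : B', f ≠ 0 ∧ IsIntegrallyClosed (Localization.Away f) :=
  exists_normal_away ((GrothLib.Cohen.isN2_of_finite hinj hB) (FractionRing B') inferInstance)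

end GrothLib.N2
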