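import Groth.Agent.Lib.N2.Adjoin
import Groth.Agent.Lib.N2.Criterion
import Mathlib.FieldTheory.SplittingField.Construction
import Mathlib.RingTheory.Jacobson.Ring
import Mathlib.RingTheory.Ideal.GoingUp

/-!
`R[x]` is N-1 for `R` normal Nagata and `x` in its fraction field.
-/

set_option autoImplicit false
set_option linter.style.haveILetI false

open IsLocalRing Polynomial

namespace GrothLib.N2

universe u

/-- Local generators of the integral closure of `A` in `L` at the prime `Q`. -/
def HasLocalGens (A L : Type u) [CommRing A] [Field L] [Algebra A L] (Q : Ideal A) : Prop :=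
  ∃ N : Submodule A L, N.FG ∧ N ≤ (integralClosure A L).toSubmodule ∧
    ∀ y ∈ integralClosure A L, ∃ s ∉ Q, s • y ∈ N

variable {R K : Type u} [CommRing R] [Field K] [Algebra R K] [IsFractionRing R K]

theorem exists_pow_mul_eq [IsDomain R] [IsIntegrallyClosed R] {x : K} {a b : R} (hb : b ≠ 0)
    (hab : x * algebraMap R K b = algebraMap R K a) {y : K}
    (hy : IsIntegral (Algebra.adjoin R ({x} : Set K)) y) :
    ∃ (n : ℕ) (d : R), algebraMap R K (b ^ n) * y = algebraMap R K d := by
  have hb0 : algebraMap R K b ≠ 0 := fun h => hb (IsFractionRing.injective R K (h.trans (map_zero _).symm))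
  let Rb := Localization.Away b
  have hu : ∀ z : Submonoid.powers b, IsUnit (algebraMap R K z) := by
    rintro ⟨_, n, rfl⟩
    rw [map_pow]
    exact (isUnit_iff_ne_zero.2 hb0).pow n
  haveI : IsDomain Rb := IsLocalization.isDomain_localization (powers_le_nonZeroDivisors_of_noZeroDivisors hb)
  letI : Algebra Rb K := (IsLocalization.lift hu).toAlgebra
  haveI : IsScalarTower R Rb K := IsScalarTower.of_algebraMap_eq fun r => (IsLocalization.lift_eq hu r).symm
  haveI : IsFractionRing Rb K := IsFractionRing.isFractionRing_of_isDomain_of_isLocalization (Submonoid.powers b) Rb K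
  haveI : IsIntegrallyClosed Rb :=
    isIntegrallyClosed_of_isLocalization Rb (Submonoid.powers b) (powers_le_nonZeroDivisors_of_noZeroDivisors hb)
  let j := IsScalarTower.toAlgHom R Rb K
  have hj : Function.Injective j := IsFractionRing.injective Rb K
  have hle : Algebra.adjoin R ({x} : Set K) ≤ j.range := by
    refine Algebra.adjoin_le (Set.singleton_subset_iff.2 ?_)
    obtain ⟨u, hu'⟩ := IsLocalization.Away.algebraMap_isUnit (S := Rb) b
    refine ⟨algebraMap R Rb a * ↑u⁻¹, mul_right_cancel₀ hb0 ?_⟩
    show algebraMap Rb K (algebraMap R Rb a * ↑u⁻¹) * algebraMap R K b = x * algebraMap R K b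
    rw [hab, IsScalarTower.algebraMap_apply R Rb K b, ← map_mul, mul_assoc, ← hu', Units.inv_mul, mul_one,
      ← IsScalarTower.algebraMap_apply]
  let ψ := (AlgEquiv.ofInjective j hj).symm.toAlgHom.comp (Subalgebra.inclusion hle)
  letI : Algebra (Algebra.adjoin R ({x} : Set K)) Rb := ψ.toRingHom.toAlgebra
  haveI : IsScalarTower (Algebra.adjoin R ({x} : Set K)) Rb K := IsScalarTower.of_algebraMap_eq fun z =>
    (congrArg Subtype.val ((AlgEquiv.ofInjective j hj).apply_symm_apply (Subalgebra.inclusion hle z))).symm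
  obtain ⟨z, rfl⟩ := IsIntegrallyClosed.isIntegral_iff.1 (IsIntegral.tower_top (A := Rb) hy)
  obtain ⟨⟨d, ⟨_, n, rfl⟩⟩, hd⟩ := IsLocalization.surj (Submonoid.powers b) z
  refine ⟨n, d, ?_⟩
  rw [IsScalarTower.algebraMap_apply R Rb K, ← map_mul, mul_comm, hd, ← IsScalarTower.algebraMap_apply]

/-- Local generators at a prime containing `x - α`. -/
theorem hasLocalGens_of_sub_mem [IsDomain R] [IsIntegrallyClosed R] (hR : CAlg.IsNagata R) (x : K) (α : R)
    (Q : Ideal (Algebra.adjoin R ({x} : Set K))) [Q.IsPrime] (hQ : gen R x - algebraMap R _ α ∈ Q) :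
    HasLocalGens (Algebra.adjoin R ({x} : Set K)) K Q := by
  haveI := hR.1
  suffices H : ∀ (S : Subalgebra R K) (z : K), S = Algebra.adjoin R {z} → ∀ (Q : Ideal S) [Q.IsPrime],
      (∀ w : S, (w : K) = z → w ∈ Q) → HasLocalGens S K Q by
    refine H _ (x - algebraMap R K α) (le_antisymm ?_ ?_) Q fun w hw => ?_
    · refine Algebra.adjoin_le (Set.singleton_subset_iff.2 ?_)
      have h := add_mem (Algebra.self_mem_adjoin_singleton R (x - algebraMap R K α))
        (Subalgebra.algebraMap_mem (Algebra.adjoin R ({x - algebraMap R K α} : Set K)) α)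
      rwa [sub_add_cancel] at h
    · exact Algebra.adjoin_le (Set.singleton_subset_iff.2
        (sub_mem (Algebra.self_mem_adjoin_singleton R _) (Subalgebra.algebraMap_mem _ _)))
    · rwa [show w = gen R x - algebraMap R _ α from Subtype.ext hw]
  rintro S z rfl Q _ hQ
  have hzQ : gen R z ∈ Q := hQ _ rfl
  haveI : IsNoetherianRing (Algebra.adjoin R ({z} : Set K)) := by
    haveI : Algebra.FiniteType R (Algebra.adjoin R ({z} : Set K)) :=
      (Subalgebra.fg_iff_finiteType _).1 (Subalgebra.fg_def.2 ⟨{z}, Set.finite_singleton z, rfl⟩)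
    exact Algebra.FiniteType.isNoetherianRing R _
  let T := Localization.AtPrime Q
  haveI : IsDomain T := IsLocalization.isDomain_localization Q.primeCompl_le_nonZeroDivisors
  haveI : IsNoetherianRing T := IsLocalization.isNoetherianRing Q.primeCompl T inferInstance
  have hu : ∀ y : Q.primeCompl, IsUnit (algebraMap (Algebra.adjoin R ({z} : Set K)) K y) := fun y =>
    isUnit_iff_ne_zero.2 fun h => y.2 (by
      rw [show y.1 = 0 from Subtype.ext h]
      exact zero_mem _)
  haveI : IsFractionRing (Algebra.adjoin R ({z} : Set K)) K := by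
    haveI : FaithfulSMul (Algebra.adjoin R ({z} : Set K)) K :=
      (faithfulSMul_iff_algebraMap_injective _ K).2 Subtype.val_injective
    refine IsFractionRing.of_field _ K fun w => ?_
    obtain ⟨c, d, -, rfl⟩ := IsFractionRing.div_surjective R w
    exact ⟨algebraMap R _ c, algebraMap R _ d, rfl⟩
  letI : Algebra T K := (IsLocalization.lift hu).toAlgebra
  haveI : IsScalarTower (Algebra.adjoin R ({z} : Set K)) T K :=
    IsScalarTower.of_algebraMap_eq fun r => (IsLocalization.lift_eq hu r).symm
  haveI : IsFractionRing T K := IsFractionRing.isFractionRing_of_isDomain_of_isLocalization Q.primeCompl T K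
  haveI := isReduced_completion_adjoin Q hzQ T hR
  exact exists_fg_of_localization Q Q.primeCompl (fun s hs => hs) T ((isN1_iff K).1 isN1_of_isReduced_completion)

/-- Finiteness of integral closures of N-2 rings with respect to any fraction field. -/
theorem finite_of_isN2 [IsDomain R] (h : CAlg.IsN2 R) (L : Type u) [Field L] [Algebra R L] [Algebra K L]
    [IsScalarTower R K L] [FiniteDimensional K L] : Module.Finite R (integralClosure R L) := by
  let e : FractionRing R ≃ₐ[R] K := FractionRing.algEquiv R K
  letI : Algebra (FractionRing R) L := ((algebraMap K L).comp e.toAlgHom.toRingHom).toAlgebra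
  haveI : IsScalarTower R (FractionRing R) L := IsScalarTower.of_algebraMap_eq fun r => by
    show algebraMap R L r = algebraMap K L (e (algebraMap R (FractionRing R) r))
    rw [e.commutes, ← IsScalarTower.algebraMap_apply]
  haveI : FiniteDimensional (FractionRing R) L := by
    letI : Algebra (FractionRing R) K := e.toAlgHom.toRingHom.toAlgebra
    haveI : IsScalarTower (FractionRing R) K L := IsScalarTower.of_algebraMap_eq fun _ => rfl
    haveI : Module.Finite (FractionRing R) K :=
      Module.Finite.of_surjective (Algebra.linearMap (FractionRing R) K) e.surjective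
    exact Module.Finite.trans K L
  exact h L inferInstance

theorem isN2_of_isNagata {A : Type u} [CommRing A] [IsDomain A] (h : CAlg.IsNagata A) : CAlg.IsN2 A :=
  isN2_of_ringEquiv (RingEquiv.quotientBot A) (h.2 ⊥)

/-- Local generators at maximal ideals whose residue of `x` is a root of a monic polynomial over `R`. -/
theorem hasLocalGens_of_monic [IsDomain R] [IsIntegrallyClosed R] (hR : CAlg.IsNagata R) (x : K) {a b : R}
    (hb : b ≠ 0) (hab : x * algebraMap R K b = algebraMap R K a) (Q : Ideal (Algebra.adjoin R ({x} : Set K)))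
    [Q.IsPrime] {φ : R[X]} (hφ : φ.Monic) (hφQ : Polynomial.aeval (gen R x) φ ∈ Q) :
    HasLocalGens (Algebra.adjoin R ({x} : Set K)) K Q := by
  classical
  haveI := hR.1
  let S := Algebra.adjoin R ({x} : Set K)
  let L := (φ.map (algebraMap R K)).SplittingField
  have hsplit : (φ.map (algebraMap R L)).Splits := by
    rw [IsScalarTower.algebraMap_eq R K L, ← Polynomial.map_map]
    exact Polynomial.SplittingField.splits _
  let R' := integralClosure R L
  haveI hfin : Module.Finite R R' := finite_of_isN2 (K := K) (isN2_of_isNagata hR) L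
  have hR' : CAlg.IsNagata R' := isNagata_of_finite hR
  haveI := hR'.1
  haveI : IsIntegrallyClosed R' := integralClosure.isIntegrallyClosedOfFiniteExtension K
  haveI : IsFractionRing R' L := integralClosure.isFractionRing_of_finite_extension K L
  let xL := algebraMap K L x
  let S' := Algebra.adjoin R' ({xL} : Set L)
  have hS : ∀ z : S, algebraMap K L z ∈ S' := by
    rintro ⟨z, hz⟩
    obtain ⟨p, rfl⟩ : z ∈ (Polynomial.aeval (R := R) x).range := by
      rw [← Algebra.adjoin_singleton_eq_range_aeval]; exact hz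
    show algebraMap K L (Polynomial.aeval x p) ∈ S'
    rw [← Polynomial.aeval_algebraMap_apply, ← Polynomial.aeval_map_algebraMap R']
    exact Polynomial.aeval_mem_adjoin_singleton _ _
  let j : S →ₐ[R] S' :=
    AlgHom.codRestrict ((IsScalarTower.toAlgHom R K L).comp S.val) (S'.restrictScalars R) hS
  letI : Algebra S S' := j.toRingHom.toAlgebra
  haveI : IsScalarTower S S' L := IsScalarTower.of_algebraMap_eq fun _ => rfl
  haveI : IsScalarTower R S S' := IsScalarTower.of_algebraMap_eq fun r => (j.commutes r).symm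
  haveI hS'ft : Algebra.FiniteType R' S' :=
    (Subalgebra.fg_iff_finiteType _).1 (Subalgebra.fg_def.2 ⟨{xL}, Set.finite_singleton xL, rfl⟩)
  haveI : Algebra.FiniteType R S' := Algebra.FiniteType.trans (R := R) (S := R') inferInstance inferInstance
  haveI : Algebra.FiniteType S S' := Algebra.FiniteType.of_restrictScalars_finiteType R S S'
  haveI : Algebra.IsIntegral S S' := ⟨fun w => by
    obtain ⟨w, hw⟩ := w
    induction hw using Algebra.adjoin_induction with
    | mem z hz =>
      obtain rfl := Set.mem_singleton_iff.1 hz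
      exact (isIntegral_algebraMap : IsIntegral S (algebraMap S S' (gen R x)))
    | algebraMap r =>
      exact ((Algebra.IsIntegral.isIntegral (R := R) r).map (IsScalarTower.toAlgHom R R' S')).tower_top
    | add u v _ _ hu hv => exact hu.add hv
    | mul u v _ _ hu hv => exact hu.mul hv⟩
  haveI : Module.Finite S S' := Algebra.IsIntegral.finite
  haveI : IsNoetherianRing S' := Algebra.FiniteType.isNoetherianRing R' S'
  haveI : IsNoetherianRing S := by
    haveI : Algebra.FiniteType R S :=
      (Subalgebra.fg_iff_finiteType _).1 (Subalgebra.fg_def.2 ⟨{x}, Set.finite_singleton x, rfl⟩)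
    exact Algebra.FiniteType.isNoetherianRing R S
  -- every prime over `Q` has local generators
  let PQ := {P : Ideal S' // P.IsPrime ∧ P.comap (algebraMap S S') = Q}
  have hloc : ∀ P : PQ, HasLocalGens S' L P.1 := by
    rintro ⟨P, hP, hPQ⟩
    haveI := hP
    have hroot : ∀ α ∈ φ.aroots L, IsIntegral R α := fun α hα =>
      ⟨φ, hφ, by
        rw [← Polynomial.aeval_def]
        exact (Polynomial.mem_aroots'.1 hα).2⟩
    let s : Multiset R' := (φ.aroots L).attach.map fun α => ⟨α.1, hroot α.1 α.2⟩
    have hprod : algebraMap S S' (Polynomial.aeval (gen R x) φ) =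
        (s.map fun α => gen R' xL - algebraMap R' S' α).prod := by
      refine Subtype.ext ?_
      change algebraMap K L ((Polynomial.aeval (gen R x) φ : S) : K) = S'.val _
      rw [map_multiset_prod, Multiset.map_map, Multiset.map_map]
      have h1 : ((Polynomial.aeval (gen R x) φ : S) : K) = Polynomial.aeval x φ :=
        (Polynomial.aeval_algHom_apply S.val (gen R x) φ).symm
      rw [h1, ← Polynomial.aeval_algebraMap_apply, Polynomial.Splits.aeval_eq_prod_aroots_of_monic hsplit hφ]
      refine congrArg Multiset.prod ?_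
      conv_lhs => rw [← Multiset.attach_map_val (φ.aroots L), Multiset.map_map]
      rfl
    have hmem : algebraMap S S' (Polynomial.aeval (gen R x) φ) ∈ P := by
      rw [← Ideal.mem_comap, hPQ]; exact hφQ
    rw [hprod, hP.multiset_prod_mem_iff_exists_mem] at hmem
    obtain ⟨_, hz, hzP⟩ := hmem
    obtain ⟨α, -, rfl⟩ := Multiset.mem_map.1 hz
    exact hasLocalGens_of_sub_mem hR' xL α P hzP
  choose N hN hNT hNl using hloc
  have hab' : xL * algebraMap R' L (algebraMap R R' b) = algebraMap R' L (algebraMap R R' a) := by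
    rw [← IsScalarTower.algebraMap_apply, ← IsScalarTower.algebraMap_apply, IsScalarTower.algebraMap_apply R K L,
      ← map_mul, hab, ← IsScalarTower.algebraMap_apply]
  have hb' : algebraMap R R' b ≠ 0 := fun h => hb (by
    have h1 : algebraMap R L b = 0 := by rw [IsScalarTower.algebraMap_apply R R' L, h, map_zero]
    rw [IsScalarTower.algebraMap_apply R K L, map_eq_zero] at h1
    exact IsFractionRing.injective R K (h1.trans (map_zero _).symm))
  let bS : S' := algebraMap R' S' (algebraMap R R' b)
  have hbS : algebraMap S' L bS ≠ 0 := fun h => hb' (IsFractionRing.injective R' L (h.trans (map_zero _).symm))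
  have hgen : ∀ y ∈ integralClosure S' L, ∃ n : ℕ, bS ^ n • y ∈ (1 : Submodule S' L) := fun y hy => by
    obtain ⟨n, d, hd⟩ := exists_pow_mul_eq hb' hab' hy
    refine ⟨n, Submodule.mem_one.2 ⟨algebraMap R' S' d, ?_⟩⟩
    rw [Algebra.smul_def, ← IsScalarTower.algebraMap_apply, ← hd, ← map_pow (algebraMap R' S'),
      ← IsScalarTower.algebraMap_apply]
  have key : ∀ P : PQ, ∃ g ∉ P.1, ∀ y ∈ integralClosure S' L, ∃ k : ℕ, g ^ k • y ∈ (1 : Submodule S' L) ⊔ N P := by
    intro P
    haveI := P.2.1
    obtain ⟨g, hg, h⟩ := exists_pow_smul_mem bS hbS (integralClosure S' L).toSubmodule ((1 : Submodule S' L) ⊔ N P)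
      ((by rw [Submodule.one_eq_span]; exact Submodule.fg_span_singleton _ : (1 : Submodule S' L).FG).sup (hN P)) P.1
      fun y hy => by
        obtain ⟨t, ht, h⟩ := hNl P y hy
        exact ⟨t, ht, Submodule.mem_sup_right h⟩
    exact ⟨g, hg, fun y hy => by
      obtain ⟨n, hn⟩ := hgen y hy
      exact h y hy ⟨n, Submodule.mem_sup_left hn⟩⟩
  choose g hg hgy using key
  obtain ⟨t, htg, htQ⟩ : ∃ t : S, t ∈ (Ideal.span (Set.range g)).comap (algebraMap S S') ∧ t ∉ Q := by
    refine Set.not_subset.1 fun h => ?_
    obtain ⟨P, hP, hPp, hPQ⟩ := Ideal.exists_ideal_over_prime_of_isIntegral Q (Ideal.span (Set.range g)) h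
    exact hg ⟨P, hPp, hPQ⟩ (hP (Ideal.subset_span ⟨⟨P, hPp, hPQ⟩, rfl⟩))
  obtain ⟨F, hF, hF'⟩ := Submodule.mem_span_finite_of_mem_span htg
  choose idx hidx using fun z : {z // z ∈ F} => hF z.2
  let N' : Submodule S' L := 1 ⊔ F.attach.sup fun z => N (idx z)
  have hN'T : N' ≤ (integralClosure S' L).toSubmodule := sup_le (fun y hy => by
    obtain ⟨r, rfl⟩ := Submodule.mem_one.1 hy
    exact (isIntegral_algebraMap : IsIntegral S' (algebraMap S' L r))) (Finset.sup_le fun z _ => hNT _)
  have hN'fg : N'.FG :=
    (by rw [Submodule.one_eq_span]; exact Submodule.fg_span_singleton _ : (1 : Submodule S' L).FG).sup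
      (Submodule.fg_finset_sup _ _ fun z _ => hN _)
  let f : K →ₗ[S] L := (IsScalarTower.toAlgHom S K L).toLinearMap
  let N0 : Submodule S K := (N'.restrictScalars S).comap f
  have hN0fg : N0.FG := Submodule.fg_of_fg_map_injective f (algebraMap K L).injective
    ((hN'fg.restrictScalars (R := S)).of_le (Submodule.map_comap_le f _))
  refine ⟨N0, hN0fg, fun y hy => ?_, fun y hy => ?_⟩
  · have h1 : IsIntegral S (algebraMap K L y) := isIntegral_trans (R := S) (A := S') _ (hN'T hy)
    exact (isIntegral_algHom_iff (IsScalarTower.toAlgHom S K L) (algebraMap K L).injective).1 h1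
  · let y' := algebraMap K L y
    have hy' : y' ∈ integralClosure S' L := (hy.map (IsScalarTower.toAlgHom S K L)).tower_top
    let I : Ideal S' := N'.comap (LinearMap.toSpanSingleton S' L y')
    have hle : Ideal.span (F : Set S') ≤ I.radical := Ideal.span_le.2 fun z hz => by
      obtain ⟨k, hk⟩ := hgy (idx ⟨z, hz⟩) y' hy'
      rw [hidx ⟨z, hz⟩] at hk
      exact ⟨k, (sup_le_sup_left (Finset.le_sup (f := fun z => N (idx z)) (Finset.mem_attach F ⟨z, hz⟩)) 1) hk⟩
    obtain ⟨n, hn⟩ := hle hF'
    refine ⟨t ^ n, fun h => htQ (‹Q.IsPrime›.mem_of_pow_mem n h), ?_⟩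
    show f (t ^ n • y) ∈ N'.restrictScalars S
    rw [map_smul, Submodule.restrictScalars_mem, ← algebraMap_smul S' (t ^ n), map_pow]
    exact hn

/-- Local generators descend along a localization. -/
theorem hasLocalGens_of_isLocalization {B : Type u} [CommRing B] {L : Type u} [Field L] [Algebra B L] (m : Ideal B)
    [m.IsPrime] (Mon : Submonoid B) (hMon : ∀ s ∈ Mon, s ∉ m) {S : Type u} [CommRing S] [Algebra B S]
    [IsLocalization Mon S] [Algebra S L] [IsScalarTower B S L] (Q : Ideal S) (hQ : Q.comap (algebraMap B S) = m)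
    (h : HasLocalGens S L Q) : HasLocalGens B L m := by
  classical
  obtain ⟨N, hN, hNT, hNl⟩ := h
  obtain ⟨F, hF⟩ := hN
  choose t ht using fun y : F => IsIntegral.exists_multiple_integral_of_isLocalization (R := B) Mon y.1
    (hNT (hF ▸ Submodule.subset_span y.2))
  let G : Finset L := F.attach.image fun y => (t y : B) • y.1
  refine ⟨Submodule.span B (G : Set L), Submodule.fg_span (Finset.finite_toSet _), Submodule.span_le.2 ?_,
    fun y hy => ?_⟩
  · intro z hz
    obtain ⟨w, -, rfl⟩ := Finset.mem_image.1 hz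
    exact ht w
  · obtain ⟨s, hs, hsy⟩ := hNl y (IsIntegral.tower_top hy)
    obtain ⟨⟨s0, τ⟩, hsτ⟩ := IsLocalization.surj Mon s
    have h1 : s0 • y ∈ Submodule.span S (G : Set L) := by
      rw [← algebraMap_smul S s0, ← hsτ, mul_comm, mul_smul]
      refine Submodule.smul_mem _ _ (Submodule.span_le.2 ?_ (hF ▸ hsy))
      intro w hw
      obtain ⟨u, hu⟩ := IsLocalization.map_units S (t ⟨w, hw⟩)
      rw [SetLike.mem_coe, show w = (↑u⁻¹ : S) • ((t ⟨w, hw⟩ : B) • w) by
        rw [← algebraMap_smul S (t ⟨w, hw⟩ : B) w, smul_smul, ← hu, Units.inv_mul, one_smul]]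
      exact Submodule.smul_mem _ _ (Submodule.subset_span
        (Finset.mem_coe.2 (Finset.mem_image.2 ⟨⟨w, hw⟩, Finset.mem_attach _ _, rfl⟩)))
    obtain ⟨v, hv⟩ := multiple_mem_span_of_mem_localization_span Mon S _ _ h1
    refine ⟨v * s0, fun hmem => ?_, by rw [mul_smul]; exact hv⟩
    refine (‹m.IsPrime›.mem_or_mem hmem).elim (hMon v v.2) fun h0 => ?_
    rw [← hQ, Ideal.mem_comap, ← hsτ] at h0
    exact hs ((Ideal.mul_unit_mem_iff_mem Q (IsLocalization.map_units S τ)).1 h0)

/-- For a normal Nagata domain `R` and `x` in its fraction field, `R[x]` is N-1. -/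
theorem finite_integralClosure_adjoin [IsDomain R] [IsIntegrallyClosed R] (hR : CAlg.IsNagata R) (x : K) :
    Module.Finite (Algebra.adjoin R ({x} : Set K)) (integralClosure (Algebra.adjoin R ({x} : Set K)) K) := by
  classical
  haveI := hR.1
  let S := Algebra.adjoin R ({x} : Set K)
  haveI : IsNoetherianRing S := by
    haveI : Algebra.FiniteType R S :=
      (Subalgebra.fg_iff_finiteType _).1 (Subalgebra.fg_def.2 ⟨{x}, Set.finite_singleton x, rfl⟩)
    exact Algebra.FiniteType.isNoetherianRing R S
  obtain ⟨a, b, hb, hab⟩ := IsFractionRing.div_surjective R x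
  have hb0 : b ≠ 0 := nonZeroDivisors.ne_zero hb
  have hbK : algebraMap R K b ≠ 0 := IsFractionRing.to_map_ne_zero_of_mem_nonZeroDivisors hb
  have hab' : x * algebraMap R K b = algebraMap R K a := by rw [← hab, div_mul_cancel₀ _ hbK]
  refine finite_integralClosure_of_local (algebraMap R S b) hbK (1 : Submodule S K) ?_ ?_ ?_ fun M hM => ?_
  · rw [Submodule.one_eq_span]; exact Submodule.fg_span_singleton _
  · intro y hy
    obtain ⟨r, rfl⟩ := Submodule.mem_one.1 hy
    exact (isIntegral_algebraMap : IsIntegral S (algebraMap S K r))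
  · intro y hy
    obtain ⟨n, d, hd⟩ := exists_pow_mul_eq hb0 hab' hy
    refine ⟨n, Submodule.mem_one.2 ⟨algebraMap R S d, ?_⟩⟩
    rw [Algebra.smul_def, ← IsScalarTower.algebraMap_apply, ← hd, ← map_pow (algebraMap R S),
      ← IsScalarTower.algebraMap_apply]
  -- localize at the prime below `M`
  let m := M.comap (algebraMap R S)
  let R1 := Localization.AtPrime m
  haveI : IsDomain R1 := IsLocalization.isDomain_localization m.primeCompl_le_nonZeroDivisors
  haveI : IsIntegrallyClosed R1 :=
    isIntegrallyClosed_of_isLocalization R1 m.primeCompl m.primeCompl_le_nonZeroDivisors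
  have hR1 : CAlg.IsNagata R1 := Groth.Agent.S4710.result R hR m.primeCompl
  haveI := hR1.1
  have hu : ∀ y : m.primeCompl, IsUnit (algebraMap R K y) := fun y =>
    IsLocalization.map_units K (⟨y, m.primeCompl_le_nonZeroDivisors y.2⟩ : nonZeroDivisors R)
  letI : Algebra R1 K := (IsLocalization.lift hu).toAlgebra
  haveI : IsScalarTower R R1 K := IsScalarTower.of_algebraMap_eq fun r => (IsLocalization.lift_eq hu r).symm
  haveI : IsFractionRing R1 K := IsFractionRing.isFractionRing_of_isDomain_of_isLocalization m.primeCompl R1 K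
  let S1 := Algebra.adjoin R1 ({x} : Set K)
  have hle : ∀ z : S, (z : K) ∈ S1 := by
    rintro ⟨z, hz⟩
    obtain ⟨p, rfl⟩ : z ∈ (Polynomial.aeval (R := R) x).range := by
      rw [← Algebra.adjoin_singleton_eq_range_aeval]; exact hz
    show Polynomial.aeval x p ∈ S1
    rw [← Polynomial.aeval_map_algebraMap R1]
    exact Polynomial.aeval_mem_adjoin_singleton _ _
  let ι : S →+* S1 := (algebraMap S K).codRestrict S1 hle
  letI : Algebra S S1 := ι.toAlgebra
  haveI : IsScalarTower S S1 K := IsScalarTower.of_algebraMap_eq fun _ => rfl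
  let Mon := Algebra.algebraMapSubmonoid S m.primeCompl
  have hMon : ∀ s ∈ Mon, s ∉ M := by
    rintro _ ⟨r, hr, rfl⟩ hs
    exact hr hs
  haveI : IsLocalization Mon S1 := by
    refine ⟨?_, ?_, ?_⟩
    · rintro ⟨_, r, hr, rfl⟩
      have h1 : algebraMap S S1 (algebraMap R S r) = algebraMap R1 S1 (algebraMap R R1 r) :=
        Subtype.ext (IsScalarTower.algebraMap_apply R R1 K r)
      show IsUnit (algebraMap S S1 (algebraMap R S r))
      rw [h1]
      exact (IsLocalization.map_units R1 (⟨r, hr⟩ : m.primeCompl)).map _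
    · rintro ⟨z, hz⟩
      suffices H : ∃ t ∈ m.primeCompl, algebraMap R K t * z ∈ S by
        obtain ⟨t, ht, h⟩ := H
        exact ⟨⟨⟨_, h⟩, ⟨_, t, ht, rfl⟩⟩, Subtype.ext (mul_comm z (algebraMap R K t))⟩
      induction hz using Algebra.adjoin_induction with
      | mem w hw => exact ⟨1, one_mem _, by rw [map_one, one_mul]; exact Algebra.subset_adjoin hw⟩
      | algebraMap c =>
        obtain ⟨⟨r, t⟩, hc⟩ := IsLocalization.surj m.primeCompl c
        refine ⟨t, t.2, ?_⟩
        rw [IsScalarTower.algebraMap_apply R R1 K, ← map_mul, mul_comm, hc, ← IsScalarTower.algebraMap_apply]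
        exact Subalgebra.algebraMap_mem _ _
      | add u v _ _ hu hv =>
        obtain ⟨t, ht, h⟩ := hu
        obtain ⟨t', ht', h'⟩ := hv
        refine ⟨t * t', mul_mem ht ht', ?_⟩
        rw [map_mul, mul_add, show algebraMap R K t * algebraMap R K t' * u =
          algebraMap R K t' * (algebraMap R K t * u) by ring, mul_assoc _ _ v]
        exact add_mem (mul_mem (Subalgebra.algebraMap_mem _ _) h) (mul_mem (Subalgebra.algebraMap_mem _ _) h')
      | mul u v _ _ hu hv =>
        obtain ⟨t, ht, h⟩ := hu
        obtain ⟨t', ht', h'⟩ := hv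
        refine ⟨t * t', mul_mem ht ht', ?_⟩
        rw [map_mul, mul_mul_mul_comm]
        exact mul_mem h h'
    · intro u v h
      exact ⟨1, by rw [show u = v from Subtype.ext (congrArg Subtype.val h :)]⟩
  have hdisj : Disjoint (Mon : Set S) M := Set.disjoint_left.2 fun s hs h => hMon s hs h
  let Q := M.map (algebraMap S S1)
  have hQ : Q.comap (algebraMap S S1) = M :=
    IsLocalization.under_map_of_isPrime_disjoint Mon S1 ‹M.IsMaximal›.isPrime hdisj
  haveI hQp : Q.IsPrime := IsLocalization.isPrime_of_isPrime_disjoint Mon S1 M ‹M.IsMaximal›.isPrime hdisj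
  haveI hQm : Q.IsMaximal := by
    obtain ⟨Q', hQ', hle'⟩ := Ideal.exists_le_maximal Q hQp.ne_top
    rcases eq_or_lt_of_le hle' with h | h
    · rwa [h]
    · exfalso
      have h1 : M ≤ Q'.comap (algebraMap S S1) := hQ.ge.trans (Ideal.comap_mono hle')
      have h2 := ‹M.IsMaximal›.eq_of_le (Ideal.comap_ne_top _ hQ'.ne_top) h1
      refine h.not_ge ?_
      rw [← IsLocalization.map_under Mon S1 Q']
      exact Ideal.map_mono h2.ge
  let D := S1 ⧸ Q
  letI : Field D := Ideal.Quotient.field Q
  have hker : maximalIdeal R1 ≤ RingHom.ker (algebraMap R1 D) := by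
    intro c hc
    obtain ⟨⟨r, t⟩, hct⟩ := IsLocalization.surj m.primeCompl c
    have hr : r ∈ m := by
      rw [← IsLocalization.AtPrime.to_map_mem_maximal_iff R1 m, ← hct]
      exact Ideal.mul_mem_right _ _ hc
    have h1 : algebraMap R1 S1 (algebraMap R R1 r) ∈ Q := by
      rw [show algebraMap R1 S1 (algebraMap R R1 r) = algebraMap S S1 (algebraMap R S r) from
        Subtype.ext (IsScalarTower.algebraMap_apply R R1 K r).symm]
      exact Ideal.mem_map_of_mem _ hr
    rw [← hct, map_mul] at h1
    rw [RingHom.mem_ker, IsScalarTower.algebraMap_apply R1 S1 D, Ideal.Quotient.algebraMap_eq,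
      Ideal.Quotient.eq_zero_iff_mem]
    exact (Ideal.mul_unit_mem_iff_mem Q ((IsLocalization.map_units R1 t).map (algebraMap R1 S1))).1 h1
  letI : Algebra (ResidueField R1) D := (Ideal.Quotient.lift _ (algebraMap R1 D) fun c hc => hker hc).toAlgebra
  haveI : IsScalarTower R1 (ResidueField R1) D := IsScalarTower.of_algebraMap_eq fun _ => rfl
  haveI : Algebra.FiniteType R1 S1 :=
    (Subalgebra.fg_iff_finiteType _).1 (Subalgebra.fg_def.2 ⟨{x}, Set.finite_singleton x, rfl⟩)
  haveI : Algebra.FiniteType R1 D := Algebra.FiniteType.trans (R := R1) (S := S1) inferInstance inferInstance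
  haveI : Algebra.FiniteType (ResidueField R1) D :=
    Algebra.FiniteType.of_restrictScalars_finiteType R1 (ResidueField R1) D
  haveI : Module.Finite (ResidueField R1) D := finite_of_finite_type_of_isJacobsonRing (ResidueField R1) D
  haveI : Algebra.IsIntegral R1 (ResidueField R1) := ⟨fun c => by
    obtain ⟨c, rfl⟩ := Ideal.Quotient.mk_surjective c
    exact (isIntegral_algebraMap : IsIntegral R1 (algebraMap R1 (ResidueField R1) c))⟩
  obtain ⟨φ, hφ, hφ0⟩ : IsIntegral R1 (Ideal.Quotient.mk Q (gen R1 x)) :=
    isIntegral_trans (R := R1) (A := ResidueField R1) _ (Algebra.IsIntegral.isIntegral _)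
  have hφQ : Polynomial.aeval (gen R1 x) φ ∈ Q := by
    rw [← Ideal.Quotient.eq_zero_iff_mem, ← Ideal.Quotient.mkₐ_eq_mk R1, ← Polynomial.aeval_algHom_apply]
    exact hφ0
  have hab1 : x * algebraMap R1 K (algebraMap R R1 b) = algebraMap R1 K (algebraMap R R1 a) := by
    rw [← IsScalarTower.algebraMap_apply, ← IsScalarTower.algebraMap_apply, hab']
  have hb1 : algebraMap R R1 b ≠ 0 := fun h => hbK (by rw [IsScalarTower.algebraMap_apply R R1 K, h, map_zero])
  exact hasLocalGens_of_isLocalization M Mon hMon Q hQ (hasLocalGens_of_monic hR1 x hb1 hab1 Q hφ hφQ)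

end GrothLib.N2
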