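import Groth.Prelude.Def_Found
import Mathlib.RingTheory.DedekindDomain.IntegralClosure
import Mathlib.FieldTheory.PurelyInseparable.PerfectClosure
import Mathlib.FieldTheory.PurelyInseparable.Exponent
import Mathlib.FieldTheory.Normal.Closure
import Mathlib.FieldTheory.Galois.Basic
import Mathlib.FieldTheory.IsAlgClosed.AlgebraicClosure

/-!
N-2 (Japanese) domains: reduction to purely inseparable extensions.
-/

set_option autoImplicit false

namespace GrothLib.N2

universe u

variable {A : Type u} [CommRing A]

/-- Finiteness of integral closures passes to subextensions. -/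
theorem finite_of_algHom [IsNoetherianRing A] {L L' : Type u} [Field L] [Field L'] [Algebra A L] [Algebra A L']
    (φ : L →ₐ[A] L') (h : Module.Finite A (integralClosure A L')) : Module.Finite A (integralClosure A L) := by
  let ι : integralClosure A L →ₐ[A] integralClosure A L' :=
    AlgHom.codRestrict (φ.comp (integralClosure A L).val) _ fun x => x.2.map φ
  exact Module.Finite.of_injective ι.toLinearMap fun a b hab =>
    Subtype.ext (φ.toRingHom.injective (congrArg Subtype.val hab : _))

variable [IsDomain A] [IsNoetherianRing A]

/-- Separable over a field where the integral closure is finite. -/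
theorem finite_of_separable_tower {E L : Type u} [Field E] [Field L] [Algebra A E] [Algebra (FractionRing A) E]
    [IsScalarTower A (FractionRing A) E] [FiniteDimensional (FractionRing A) E] [Algebra A L] [Algebra E L]
    [IsScalarTower A E L] [FiniteDimensional E L] [Algebra.IsSeparable E L]
    (hE : Module.Finite A (integralClosure A E)) : Module.Finite A (integralClosure A L) := by
  let A' := integralClosure A E
  haveI : IsFractionRing A' E := integralClosure.isFractionRing_of_finite_extension (FractionRing A) E
  haveI : IsIntegrallyClosed A' := integralClosure.isIntegrallyClosedOfFiniteExtension (FractionRing A)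
  haveI : IsNoetherianRing A' := IsNoetherianRing.of_finite A A'
  haveI : Module.Finite A' (integralClosure A' L) :=
    IsIntegralClosure.finite A' E L (integralClosure A' L)
  have h1 : Module.Finite A (integralClosure A' L) := Module.Finite.trans A' _
  have hle : ∀ x ∈ integralClosure A L, x ∈ integralClosure A' L := fun x hx => IsIntegral.tower_top hx
  let ι : integralClosure A L →ₗ[A] integralClosure A' L :=
    { toFun := fun x => ⟨x.1, hle x.1 x.2⟩
      map_add' := fun _ _ => rfl
      map_smul' := fun c x => Subtype.ext (by simp) }
  exact Module.Finite.of_injective ι fun a b hab => Subtype.ext (congrArg Subtype.val hab :)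

theorem finite_of_separable [IsIntegrallyClosed A] (L : Type u) [Field L] [Algebra A L] [Algebra (FractionRing A) L]
    [IsScalarTower A (FractionRing A) L] [FiniteDimensional (FractionRing A) L]
    [Algebra.IsSeparable (FractionRing A) L] : Module.Finite A (integralClosure A L) :=
  IsIntegralClosure.finite A (FractionRing A) L (integralClosure A L)

/-- The fixed field of all automorphisms of a normal extension is purely inseparable. -/
theorem isPurelyInseparable_fixedField (K L : Type u) [Field K] [Field L] [Algebra K L] [Normal K L] :
    IsPurelyInseparable K (IntermediateField.fixedField (⊤ : Subgroup (L ≃ₐ[K] L))) := by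
  classical
  refine (isPurelyInseparable_iff_natSepDegree_eq_one K).2 fun x => ?_
  rw [← minpoly.algebraMap_eq (algebraMap (IntermediateField.fixedField (⊤ : Subgroup (L ≃ₐ[K] L))) L).injective x]
  have hxi : IsIntegral K (x : L) := Normal.isIntegral inferInstance _
  rw [Polynomial.natSepDegree_eq_of_splits (E := L) (minpoly K _) (Normal.splits inferInstance _),
    Finset.card_eq_one]
  refine ⟨(x : L), Finset.eq_singleton_iff_unique_mem.2 ⟨?_, fun y hy => ?_⟩⟩
  · rw [Multiset.mem_toFinset, Polynomial.mem_aroots]
    exact ⟨minpoly.ne_zero hxi, minpoly.aeval K _⟩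
  · rw [Multiset.mem_toFinset, Polynomial.mem_aroots] at hy
    have he : minpoly K y = minpoly K (x : L) :=
      (minpoly.eq_of_irreducible_of_monic (minpoly.irreducible hxi) hy.2 (minpoly.monic hxi)).symm
    obtain ⟨σ, hσ⟩ := (Normal.minpoly_eq_iff_mem_orbit (E := L)).1 he
    rw [← hσ]
    exact x.2 ⟨σ, Subgroup.mem_top σ⟩

theorem isN2_of_purelyInseparable
    (h : ∀ (K' : Type u) [Field K'] [Algebra A K'] [Algebra (FractionRing A) K']
      [IsScalarTower A (FractionRing A) K'], FiniteDimensional (FractionRing A) K' →
      IsPurelyInseparable (FractionRing A) K' → Module.Finite A (integralClosure A K')) : CAlg.IsN2 A := by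
  intro L _ _ _ _ hL
  let K := FractionRing A
  let L' := IntermediateField.normalClosure K L (AlgebraicClosure L)
  haveI : FiniteDimensional K L' := normalClosure.is_finiteDimensional K L (AlgebraicClosure L)
  haveI : Algebra.IsAlgebraic K (AlgebraicClosure L) := Algebra.IsAlgebraic.trans K L (AlgebraicClosure L)
  haveI : IsAlgClosure K (AlgebraicClosure L) := ⟨inferInstance, inferInstance⟩
  haveI : Normal K (AlgebraicClosure L) := IsAlgClosure.normal K _
  haveI : Normal K L' := normalClosure.normal K L (AlgebraicClosure L)
  let F := IntermediateField.fixedField (⊤ : Subgroup (L' ≃ₐ[K] L'))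
  have hF : Module.Finite A (integralClosure A F) := h F inferInstance (isPurelyInseparable_fixedField K L')
  haveI : IsGalois F L' := inferInstanceAs (IsGalois (FixedPoints.subfield (⊤ : Subgroup (L' ≃ₐ[K] L')) L') L')
  haveI : IsScalarTower A F L' := IsScalarTower.of_algebraMap_eq fun x => rfl
  have hL' : Module.Finite A (integralClosure A L') := finite_of_separable_tower (E := F) hF
  let φ : L →ₐ[K] L' := (IsScalarTower.toAlgHom K L (AlgebraicClosure L)).codRestrict L'.toSubalgebra
    fun x => (IsScalarTower.toAlgHom K L (AlgebraicClosure L)).fieldRange_le_normalClosure ⟨x, rfl⟩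
  exact finite_of_algHom (φ.restrictScalars A) hL'

end GrothLib.N2
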